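import Groth.Agent.DerCat.LeftDeriv
import Mathlib.CategoryTheory.Functor.Derived.RightDerived

/-!
Recognition of total derived functors on acyclic objects.
-/

universe v v' v'' u u' u''

open CategoryTheory Limits MorphismProperty

namespace Groth.Agent.DerCat.LeftDeriv

variable {C : Type u} [Category.{v} C] {D : Type u'} [Category.{v'} D] {H : Type u''} [Category.{v''} H]
  (L : C ⥤ D) (W : MorphismProperty C) [L.IsLocalization W] (F : C ⥤ H) (P : ObjectProperty C)

/-- A functor with a comparison map which is an isomorphism on resolving objects is the left derived functor. -/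
theorem nonempty_iso_totalLeftDerived [F.HasLeftDerivedFunctor W]
    (hres : ∀ X, ∃ (Y : C) (s : Y ⟶ X), P Y ∧ W s)
    (hF : ∀ X, P X → IsIso ((F.totalLeftDerivedCounit L W).app X))
    (G : D ⥤ H) (β : L ⋙ G ⟶ F) (hβ : ∀ X, P X → IsIso (β.app X)) :
    Nonempty (G ≅ F.totalLeftDerived L W) := by
  let τ := (F.totalLeftDerived L W).leftDerivedLift (F.totalLeftDerivedCounit L W) W G β
  haveI : L.EssSurj := Localization.essSurj L W
  have hP : ∀ X, P X → IsIso (τ.app (L.obj X)) := fun X hX => by
    haveI := hF X hX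
    have h : IsIso (τ.app (L.obj X) ≫ (F.totalLeftDerivedCounit L W).app X) := by
      rw [Functor.leftDerived_fac_app]; exact hβ X hX
    exact IsIso.of_isIso_comp_right _ ((F.totalLeftDerivedCounit L W).app X)
  haveI : ∀ Z, IsIso (τ.app Z) := fun Z => by
    obtain ⟨Y, s, hY, hs⟩ := hres (L.objPreimage Z)
    haveI := Localization.inverts L W s hs
    let e : L.obj Y ≅ Z := asIso (L.map s) ≪≫ L.objObjPreimageIso Z
    haveI := hP Y hY
    rw [show τ.app Z = G.map e.inv ≫ τ.app (L.obj Y) ≫ (F.totalLeftDerived L W).map e.hom from by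
      rw [← τ.naturality, ← Functor.map_comp_assoc, e.inv_hom_id, Functor.map_id, Category.id_comp]]
    infer_instance
  haveI : IsIso τ := NatIso.isIso_of_isIso_app τ
  exact ⟨asIso τ⟩

/-- A functor with a comparison map which is an isomorphism on resolving objects is the right derived functor. -/
theorem nonempty_iso_totalRightDerived [F.HasRightDerivedFunctor W]
    (hres : ∀ X, ∃ (Y : C) (s : X ⟶ Y), P Y ∧ W s)
    (hF : ∀ X, P X → IsIso ((F.totalRightDerivedUnit L W).app X))
    (G : D ⥤ H) (β : F ⟶ L ⋙ G) (hβ : ∀ X, P X → IsIso (β.app X)) :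
    Nonempty (F.totalRightDerived L W ≅ G) := by
  let τ := (F.totalRightDerived L W).rightDerivedDesc (F.totalRightDerivedUnit L W) W G β
  haveI : L.EssSurj := Localization.essSurj L W
  have hP : ∀ X, P X → IsIso (τ.app (L.obj X)) := fun X hX => by
    haveI := hF X hX
    have h : IsIso ((F.totalRightDerivedUnit L W).app X ≫ τ.app (L.obj X)) := by
      rw [Functor.rightDerived_fac_app]; exact hβ X hX
    exact IsIso.of_isIso_comp_left ((F.totalRightDerivedUnit L W).app X) _
  haveI : ∀ Z, IsIso (τ.app Z) := fun Z => by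
    obtain ⟨Y, s, hY, hs⟩ := hres (L.objPreimage Z)
    haveI := Localization.inverts L W s hs
    let e : L.obj Y ≅ Z := (asIso (L.map s)).symm ≪≫ L.objObjPreimageIso Z
    haveI := hP Y hY
    rw [show τ.app Z = (F.totalRightDerived L W).map e.inv ≫ τ.app (L.obj Y) ≫ G.map e.hom from by
      rw [← τ.naturality, ← Functor.map_comp_assoc, e.inv_hom_id, Functor.map_id, Category.id_comp]]
    infer_instance
  haveI : IsIso τ := NatIso.isIso_of_isIso_app τ
  exact ⟨asIso τ⟩

end Groth.Agent.DerCat.LeftDeriv
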