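import Mathlib.Algebra.Homology.HomotopyCategory.KInjective
import Mathlib.Algebra.Homology.HomotopyCofiber
import Mathlib.Algebra.Homology.Double
import Mathlib.Algebra.Homology.HomologySequence
import Mathlib.Algebra.Homology.HomologicalComplexAbelian
import Mathlib.CategoryTheory.Limits.Preserves.Shapes.Products
import Mathlib.CategoryTheory.Functor.OfSequence
import Mathlib.Algebra.Homology.HomotopyCategory.HomologicalFunctor
import Mathlib.Algebra.Homology.HomotopyCategory.ShiftSequence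

/-!
Elementary facts about K-injective complexes and null-homotopic maps.
-/

universe v u

open CategoryTheory Limits CochainComplex HomComplex

namespace Groth.Agent.DerCat

variable {A : Type u} [Category.{v} A] [Abelian A]

lemma up_hc : ∀ j : ℤ, ∃ i, (ComplexShape.up ℤ).Rel i j := fun j ↦ ⟨j - 1, by simp⟩

/-- A map is null-homotopic as soon as it extends along `K ⟶ cone (𝟙 K)`. -/
lemma nullHomotopic_of_extends {K L : CochainComplex A ℤ} (f : K ⟶ L)
    (e : HomologicalComplex.homotopyCofiber (𝟙 K) ⟶ L)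
    (he : HomologicalComplex.homotopyCofiber.inr (𝟙 K) ≫ e = f) : Nonempty (Homotopy f 0) :=
  ⟨(Homotopy.ofEq (by rw [← he, Category.id_comp])).trans
    (((HomologicalComplex.homotopyCofiber.inrCompHomotopy (𝟙 K) up_hc).compRight e).trans
      (Homotopy.ofEq zero_comp))⟩

lemma exists_extends_of_homotopy {K L : CochainComplex A ℤ} (f : K ⟶ L) (h : Homotopy f 0) :
    ∃ e : HomologicalComplex.homotopyCofiber (𝟙 K) ⟶ L,
      HomologicalComplex.homotopyCofiber.inr (𝟙 K) ≫ e = f :=
  ⟨_, HomologicalComplex.homotopyCofiber.inr_desc (𝟙 K) f ((Homotopy.ofEq (Category.id_comp f)).trans h)⟩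

/-- A product of K-injective complexes is K-injective. -/
lemma isKInjective_pi {T : Type*} (I : T → CochainComplex A ℤ) [HasProduct I]
    (h : ∀ t, (I t).IsKInjective) : (∏ᶜ I).IsKInjective := by
  refine ⟨fun {K} f hK ↦ ?_⟩
  choose e he using fun t ↦ exists_extends_of_homotopy (f ≫ Pi.π I t)
    (haveI := h t; IsKInjective.homotopyZero _ hK)
  exact nullHomotopic_of_extends f (Pi.lift e) (Pi.hom_ext _ _ fun t ↦ by simp [he])

/-- The cokernel of a monomorphism of acyclic complexes is acyclic. -/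
lemma acyclic_cokernel {K L : CochainComplex A ℤ} (i : K ⟶ L) [Mono i] (hK : K.Acyclic)
    (hL : L.Acyclic) : (cokernel i).Acyclic := by
  intro n
  rw [HomologicalComplex.exactAt_iff_isZero_homology]
  have hS : (ShortComplex.mk i (cokernel.π i) (cokernel.condition i)).ShortExact :=
    { exact := ShortComplex.exact_of_g_is_cokernel _ (cokernelIsCokernel i) }
  exact (hS.homology_exact₃ n (n + 1) (by simp)).isZero_of_both_zeros
    (((hL n).isZero_homology).eq_of_src _ _) (((hK (n + 1)).isZero_homology).eq_of_tgt _ _)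

lemma acyclic_cofiber_id (K : CochainComplex A ℤ) :
    (HomologicalComplex.homotopyCofiber (𝟙 K)).Acyclic := fun n ↦ by
  rw [HomologicalComplex.exactAt_iff_isZero_homology, IsZero.iff_id_eq_zero,
    ← HomologicalComplex.homologyMap_id,
    (show Homotopy (𝟙 (HomologicalComplex.homotopyCofiber (𝟙 K))) 0 from
      CochainComplex.mappingCone.homotopyToZeroOfId K).homologyMap_eq]
  exact HomologicalComplex.homologyMap_zero _ _ _

/-- The disk on `X` in degrees `m`, `m + 1`. -/
noncomputable abbrev disk (X : A) (m : ℤ) : CochainComplex A ℤ :=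
  HomologicalComplex.double (𝟙 X) (show (ComplexShape.up ℤ).Rel m (m + 1) by simp)

lemma acyclic_disk (X : A) (m : ℤ) : (disk X m).Acyclic := by
  intro n
  by_cases hn : n = m ∨ n = m + 1
  · rcases hn with rfl | rfl
    · rw [HomologicalComplex.exactAt_iff' _ (n - 1) n (n + 1) (by simp) (by simp),
        ShortComplex.exact_iff_mono _ (HomologicalComplex.double_d_eq_zero₁ (𝟙 X)
          (show (ComplexShape.up ℤ).Rel n (n + 1) by simp) _ _ (by lia))]
      change Mono ((disk X n).d n (n + 1))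
      rw [HomologicalComplex.double_d (h := by lia)]
      infer_instance
    · rw [HomologicalComplex.exactAt_iff' _ m (m + 1) (m + 1 + 1) (by simp) (by simp),
        ShortComplex.exact_iff_epi _ (HomologicalComplex.double_d_eq_zero₀ (𝟙 X)
          (show (ComplexShape.up ℤ).Rel m (m + 1) by simp) _ _ (by lia))]
      change Epi ((disk X m).d m (m + 1))
      rw [HomologicalComplex.double_d (h := by lia)]
      infer_instance
  · push Not at hn
    exact ShortComplex.exact_of_isZero_X₂ _ (HomologicalComplex.isZero_double_X (𝟙 X)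
      (show (ComplexShape.up ℤ).Rel m (m + 1) by simp) n hn.1 hn.2)

/-- Lifting against monomorphisms with acyclic cokernel gives K-injectivity and injective terms. -/
lemma isKInjective_and_injective_of_lifting (I : CochainComplex A ℤ)
    (H : ∀ (K L : CochainComplex A ℤ) (i : K ⟶ L), Mono i → (cokernel i).Acyclic →
      ∀ φ : K ⟶ I, ∃ ψ : L ⟶ I, i ≫ ψ = φ) :
    I.IsKInjective ∧ ∀ n, Injective (I.X n) := by
  refine ⟨⟨fun {K} f hK ↦ ?_⟩, fun m ↦ ⟨fun {X Y} g j _ ↦ ?_⟩⟩
  · haveI : Mono (HomologicalComplex.homotopyCofiber.inr (𝟙 K)) := by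
      haveI : ∀ n, Mono ((HomologicalComplex.homotopyCofiber.inr (𝟙 K)).f n) := fun n ↦
        haveI : IsSplitMono ((HomologicalComplex.homotopyCofiber.inr (𝟙 K)).f n) := IsSplitMono.mk'
          ⟨HomologicalComplex.homotopyCofiber.sndX (𝟙 K) n, by simp⟩
        inferInstance
      exact HomologicalComplex.mono_of_mono_f _ inferInstance
    obtain ⟨e, he⟩ := H _ _ (HomologicalComplex.homotopyCofiber.inr (𝟙 K)) inferInstance (acyclic_cokernel _ hK (acyclic_cofiber_id K)) f
    exact nullHomotopic_of_extends f e he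
  · have hm : (ComplexShape.up ℤ).Rel m (m + 1) := by simp
    have hne : m ≠ m + 1 := by lia
    let i : disk X m ⟶ disk Y m := HomologicalComplex.mkHomFromDouble hm hne
      (j ≫ (HomologicalComplex.doubleXIso₀ (𝟙 Y) hm).inv)
      (j ≫ (HomologicalComplex.doubleXIso₁ (𝟙 Y) hm hne).inv)
      (by simp [HomologicalComplex.double_d _ hm hne])
      (fun k _ ↦ by rw [HomologicalComplex.double_d_eq_zero₀ _ _ _ _ hne.symm, comp_zero])
    let φ₀ : disk X m ⟶ I := HomologicalComplex.mkHomFromDouble hm hne g (g ≫ I.d m (m + 1))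
      (by simp) (fun k _ ↦ by simp)
    have hi₀ : i.f m = (HomologicalComplex.doubleXIso₀ (𝟙 X) hm).hom ≫ j ≫
        (HomologicalComplex.doubleXIso₀ (𝟙 Y) hm).inv :=
      HomologicalComplex.mkHomFromDouble_f₀ ..
    have hi₁ : i.f (m + 1) = (HomologicalComplex.doubleXIso₁ (𝟙 X) hm hne).hom ≫ j ≫
        (HomologicalComplex.doubleXIso₁ (𝟙 Y) hm hne).inv :=
      HomologicalComplex.mkHomFromDouble_f₁ ..
    haveI : ∀ n, Mono (i.f n) := by
      intro n
      by_cases hn : n = m ∨ n = m + 1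
      · rcases hn with rfl | rfl
        · rw [hi₀]; infer_instance
        · rw [hi₁]; infer_instance
      · push Not at hn
        exact ⟨fun _ _ _ ↦ (HomologicalComplex.isZero_double_X _ _ n hn.1 hn.2).eq_of_tgt _ _⟩
    haveI : Mono i := HomologicalComplex.mono_of_mono_f _ inferInstance
    obtain ⟨ψ, hψ⟩ := H _ _ i inferInstance
      (acyclic_cokernel i (acyclic_disk X m) (acyclic_disk Y m)) φ₀
    refine ⟨(HomologicalComplex.doubleXIso₀ (𝟙 Y) hm).inv ≫ ψ.f m, ?_⟩
    have h₂ : i.f m ≫ ψ.f m = (HomologicalComplex.doubleXIso₀ (𝟙 X) hm).hom ≫ g := by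
      rw [← HomologicalComplex.comp_f, hψ]
      exact HomologicalComplex.mkHomFromDouble_f₀ ..
    rw [hi₀] at h₂
    rw [← cancel_epi (HomologicalComplex.doubleXIso₀ (𝟙 X) hm).hom, ← h₂]
    simp only [Category.assoc]

/-- Extension along a degreewise short exact sequence, when cocycles of degree one on the
cokernel are coboundaries. -/
lemma exists_extension_of_cocycle (I : CochainComplex A ℤ)
    (hI : ∀ n, Injective (I.X n)) (S : ShortComplex (CochainComplex A ℤ)) (hS : S.ShortExact)
    (hS₃ : ∀ z : Cocycle S.X₃ I 1, ∃ α : Cochain S.X₃ I 0, δ 0 1 α = z.1)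
    (φ : S.X₁ ⟶ I) : ∃ ψ : S.X₂ ⟶ I, S.f ≫ ψ = φ := by
  haveI := hS.mono_f
  haveI := hS.epi_g
  haveI : ∀ n, Mono (S.f.f n) := fun n ↦
    inferInstanceAs (Mono ((HomologicalComplex.eval _ _ n).map S.f))
  haveI hg : ∀ n, Epi (S.g.f n) := fun n ↦
    inferInstanceAs (Epi ((HomologicalComplex.eval _ _ n).map S.g))
  haveI := hI
  let G : Cochain S.X₂ I 0 := Cochain.ofHoms fun n ↦ Injective.factorThru (φ.f n) (S.f.f n)
  have hG : (Cochain.ofHom S.f).comp G (zero_add 0) = Cochain.ofHom φ :=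
    by ext n; simp [G]
  have hex : ∀ n, (S.map (HomologicalComplex.eval A (ComplexShape.up ℤ) n)).ShortExact :=
    fun n ↦ hS.map_of_exact _
  -- the defect factors through the cokernel
  have h0 : ∀ p q : ℤ, ∀ hpq : p + 1 = q, S.f.f p ≫ (δ 0 1 G).v p q hpq = 0 := by
    intro p q hpq
    have := Cochain.congr_v (congrArg (δ 0 1) hG) p q hpq
    simpa using this
  let d := fun p q hpq ↦ CokernelCofork.IsColimit.desc' (hex p).gIsCokernel
    ((δ 0 1 G).v p q hpq) (h0 p q hpq)
  let z : ∀ p q : ℤ, p + 1 = q → (S.X₃.X p ⟶ I.X q) := fun p q hpq ↦ (d p q hpq).1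
  have hz : ∀ p q (hpq : p + 1 = q), S.g.f p ≫ z p q hpq = (δ 0 1 G).v p q hpq :=
    fun p q hpq ↦ (d p q hpq).2
  let z' : Cochain S.X₃ I 1 := Cochain.mk z
  have hz' : (Cochain.ofHom S.g).comp z' (zero_add 1) = δ 0 1 G := by
    ext p q hpq
    simp only [Cochain.zero_cochain_comp_v, Cochain.ofHom_v, z', Cochain.mk_v]
    exact hz p q hpq
  have hcoc : δ 1 2 z' = 0 := by
    ext p q hpq
    rw [← cancel_epi (S.g.f p), Cochain.zero_v, comp_zero]
    have := Cochain.congr_v (congrArg (δ 1 2) hz') p q hpq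
    rw [δ_ofHom_comp, δ_δ] at this
    simpa using this
  obtain ⟨α, hα⟩ := hS₃ (Cocycle.mk z' 2 rfl hcoc)
  let G' : Cocycle S.X₂ I 0 := Cocycle.mk (G - (Cochain.ofHom S.g).comp α (zero_add 0)) 1 (zero_add 1) (by
    rw [δ_sub, δ_ofHom_comp, hα]
    exact sub_eq_zero.2 hz'.symm)
  refine ⟨Cocycle.homOf G', ?_⟩
  ext n
  have h1 := Cochain.congr_v hG n n (add_zero n)
  simp only [Cochain.zero_cochain_comp_v, Cochain.ofHom_v] at h1
  have h2 : S.f.f n ≫ S.g.f n = 0 := (S.map (HomologicalComplex.eval A (ComplexShape.up ℤ) n)).zero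
  simp [G', Cocycle.mk, h1, reassoc_of% h2]

/-- Extension along a degreewise short exact sequence with acyclic cokernel. -/
lemma exists_extension_of_isKInjective (I : CochainComplex A ℤ) [I.IsKInjective]
    (hI : ∀ n, Injective (I.X n)) (S : ShortComplex (CochainComplex A ℤ)) (hS : S.ShortExact)
    (hS₃ : S.X₃.Acyclic) (φ : S.X₁ ⟶ I) : ∃ ψ : S.X₂ ⟶ I, S.f ≫ ψ = φ :=
  exists_extension_of_cocycle I hI S hS (fun z ↦ IsKInjective.eq_δ_of_cocycle z hS₃ 0 (zero_add 1)) φ

/-- A sequential limit along termwise split epimorphisms of K-injectives is K-injective. -/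
lemma isKInjective_limit [HasLimitsOfShape ℕᵒᵖ A] (I : ℕᵒᵖ ⥤ CochainComplex A ℤ)
    (h1 : ∀ n : ℕ, (I.obj (Opposite.op n)).IsKInjective)
    (h2 : ∀ (n : ℕ) (m : ℤ), IsSplitEpi ((I.map (homOfLE (Nat.le_succ n)).op).f m)) :
    (limit I).IsKInjective := by
  haveI := h1
  refine ⟨fun {K} f hK ↦ ?_⟩
  let p : ∀ n, I.obj (Opposite.op (n + 1)) ⟶ I.obj (Opposite.op n) := fun n ↦
    I.map (homOfLE (Nat.le_succ n)).op
  let fn : ∀ n, K ⟶ I.obj (Opposite.op n) := fun n ↦ f ≫ limit.π I (Opposite.op n)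
  have hfn : ∀ n, fn (n + 1) ≫ p n = fn n := fun n ↦ by simp [fn, p, limit.w]
  have step : ∀ n, ∀ α : {α : Cochain K (I.obj (Opposite.op n)) (-1) //
      δ (-1) 0 α = Cochain.ofHom (fn n)},
      ∃ β : {β : Cochain K (I.obj (Opposite.op (n + 1))) (-1) //
      δ (-1) 0 β = Cochain.ofHom (fn (n + 1))},
      β.1.comp (Cochain.ofHom (p n)) (add_zero (-1)) = α.1 := by
    rintro n ⟨α, hα⟩
    let β₀ := Cochain.equivHomotopy _ _ (IsKInjective.homotopyZero (fn (n + 1)) hK)
    have hβ₀ : δ (-1) 0 β₀.1 = Cochain.ofHom (fn (n + 1)) := by simpa using β₀.2.symm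
    let c := β₀.1.comp (Cochain.ofHom (p n)) (add_zero (-1)) - α
    have hc : δ (-1) 0 c = 0 := by
      simp only [c, δ_sub, δ_comp_ofHom, hβ₀, hα, ← Cochain.ofHom_comp, hfn, sub_self]
    obtain ⟨γ, hγ⟩ := IsKInjective.eq_δ_of_cocycle (Cocycle.mk c 0 (by lia) hc) hK (-2) (by lia)
    haveI := h2 n
    let γ' : Cochain K (I.obj (Opposite.op (n + 1))) (-2) :=
      Cochain.mk fun a b hab ↦ γ.v a b hab ≫ section_ ((p n).f b)
    have hγ' : γ'.comp (Cochain.ofHom (p n)) (add_zero (-2)) = γ := by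
      ext a b hab
      simp [γ', p]
    refine ⟨⟨β₀.1 - δ (-2) (-1) γ', by rw [δ_sub, hβ₀, δ_δ, sub_zero]⟩, ?_⟩
    simp only [Cochain.sub_comp]
    rw [← δ_comp_ofHom, hγ', hγ]
    simp [c, Cocycle.mk]
  choose next hnext using step
  let α : ∀ n, {α : Cochain K (I.obj (Opposite.op n)) (-1) // δ (-1) 0 α = Cochain.ofHom (fn n)} :=
    fun n ↦ Nat.rec ⟨(Cochain.equivHomotopy _ _ (IsKInjective.homotopyZero (fn 0) hK)).1,
      by simpa using (Cochain.equivHomotopy _ _ (IsKInjective.homotopyZero (fn 0) hK)).2.symm⟩ next n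
  have hw : ∀ (n : ℕ) (a b : ℤ) (hab : a + (-1) = b),
      (α (n + 1)).1.v a b hab ≫ (p n).f b = (α n).1.v a b hab := fun n a b hab ↦ by
    have := Cochain.congr_v (hnext n (α n)) a b hab
    simp only [Cochain.comp_zero_cochain_v, Cochain.ofHom_v] at this
    exact this
  let cn : ∀ (a b : ℤ) (_ : a + (-1) = b), Cone (I ⋙ HomologicalComplex.eval A (ComplexShape.up ℤ) b) :=
    fun a b hab ↦ ⟨K.X a, NatTrans.ofOpSequence (fun n ↦ (α n).1.v a b hab)
      (fun n ↦ by
        dsimp
        rw [Category.id_comp]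
        exact (hw n a b hab).symm)⟩
  have hlim : ∀ b : ℤ, IsLimit ((HomologicalComplex.eval A (ComplexShape.up ℤ) b).mapCone (limit.cone I)) :=
    fun b ↦ isLimitOfPreserves _ (limit.isLimit I)
  let β : Cochain K (limit I) (-1) := Cochain.mk fun a b hab ↦ (hlim b).lift (cn a b hab)
  have hβ : ∀ n, β.comp (Cochain.ofHom (limit.π I (Opposite.op n))) (add_zero (-1)) = (α n).1 := by
    intro n
    ext a b hab
    simp only [Cochain.comp_zero_cochain_v, Cochain.ofHom_v, β, Cochain.mk_v]
    refine ((hlim b).fac (cn a b hab) (Opposite.op n)).trans ?_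
    simp [cn]
  refine ⟨(Cochain.equivHomotopy f 0).symm ⟨β, ?_⟩⟩
  rw [Cochain.ofHom_zero, add_zero]
  ext k
  refine (hlim k).hom_ext fun n ↦ ?_
  have h3 := Cochain.congr_v ((congrArg (δ (-1) 0) (hβ n.unop)).trans (α n.unop).2) k k (add_zero k)
  rw [δ_comp_ofHom] at h3
  simp only [Cochain.comp_zero_cochain_v, Cochain.ofHom_v] at h3
  have h4 := h3.symm
  simp [fn] at h4
  simp
  exact h4

/-- Right adjoints of exact functors preserve K-injectives. -/
lemma isKInjective_map_rightAdjoint {B : Type*} [Category B] [Abelian B] {u : A ⥤ B} {w : B ⥤ A}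
    (adj : w ⊣ u) [u.Additive] [w.Additive] [PreservesFiniteLimits w] [PreservesFiniteColimits w]
    (I : CochainComplex A ℤ) [I.IsKInjective] :
    CochainComplex.IsKInjective ((u.mapHomologicalComplex (ComplexShape.up ℤ)).obj I) := by
  refine ⟨fun {K} f hK ↦ ?_⟩
  have hwK : HomologicalComplex.Acyclic ((w.mapHomologicalComplex (ComplexShape.up ℤ)).obj K) :=
    fun n ↦ (hK n).map w
  let η : K ⟶ (u.mapHomologicalComplex _).obj ((w.mapHomologicalComplex _).obj K) :=
    { f := fun n ↦ adj.unit.app (K.X n)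
      comm' := fun i j _ ↦ adj.unit_naturality (K.d i j) }
  let g : (w.mapHomologicalComplex _).obj K ⟶ I :=
    { f := fun n ↦ (adj.homEquiv _ _).symm (f.f n)
      comm' := fun i j _ ↦ by
        change (adj.homEquiv _ _).symm (f.f i) ≫ I.d i j =
          w.map (K.d i j) ≫ (adj.homEquiv _ _).symm (f.f j)
        rw [← adj.homEquiv_naturality_left_symm, ← adj.homEquiv_naturality_right_symm]
        exact congrArg _ (f.comm i j) }
  have hf : η ≫ (u.mapHomologicalComplex _).map g = f := by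
    ext n
    exact ((adj.homEquiv_unit ..).symm.trans ((adj.homEquiv _ _).apply_symm_apply (f.f n)))
  exact ⟨(Homotopy.ofEq hf.symm).trans (((u.mapHomotopy (IsKInjective.homotopyZero g hwK)).compLeft η).trans
    (Homotopy.ofEq (by simp)))⟩

end Groth.Agent.DerCat

namespace Groth.Agent.DerCat

variable {A : Type u} [Category.{v} A] [Abelian A]

/-- The cokernel of a monomorphic quasi-isomorphism is acyclic. -/
lemma acyclic_cokernel_of_quasiIso {K L : CochainComplex A ℤ} (i : K ⟶ L) [Mono i] [QuasiIso i] :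
    (cokernel i).Acyclic := by
  intro n
  rw [HomologicalComplex.exactAt_iff_isZero_homology]
  have hS : (ShortComplex.mk i (cokernel.π i) (cokernel.condition i)).ShortExact :=
    { exact := ShortComplex.exact_of_g_is_cokernel _ (cokernelIsCokernel i) }
  haveI : ∀ m, IsIso (HomologicalComplex.homologyMap i m) := fun m ↦ inferInstance
  have h1 : HomologicalComplex.homologyMap (cokernel.π i) n = 0 := by
    rw [← cancel_epi (HomologicalComplex.homologyMap i n), ← HomologicalComplex.homologyMap_comp,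
      cokernel.condition, HomologicalComplex.homologyMap_zero, comp_zero]
  have h2 : hS.δ n (n + 1) (by simp) = 0 := by
    rw [← cancel_mono (HomologicalComplex.homologyMap i (n + 1)), zero_comp]
    exact hS.δ_comp n (n + 1) (by simp)
  exact (hS.homology_exact₃ n (n + 1) (by simp)).isZero_of_both_zeros h1 h2

/-- `f ≫ g` is null-homotopic when both factors die on a termwise split sequence. -/
lemma nullHomotopic_comp_of_split {V : Type u} [Category.{v} V] [Preadditive V]
    {X₁ X₂ X₃ B₁ B₃ : CochainComplex V ℤ} (f : X₁ ⟶ X₂) (g : X₂ ⟶ X₃) (w : f ≫ g = 0)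
    (σ : ∀ n : ℤ, (ShortComplex.mk (f.f n) (g.f n) (by rw [← HomologicalComplex.comp_f, w]; rfl)).Splitting)
    (b : B₁ ⟶ X₂) (b' : X₂ ⟶ B₃) (hb : Homotopy (b ≫ g) 0) (hb' : Homotopy (f ≫ b') 0) :
    Nonempty (Homotopy (b ≫ b') 0) := by
  obtain ⟨α, hα⟩ := Cochain.equivHomotopy _ _ hb
  obtain ⟨β, hβ⟩ := Cochain.equivHomotopy _ _ hb'
  rw [Cochain.ofHom_zero, add_zero] at hα hβ
  let S' : Cochain X₃ X₂ 0 := Cochain.ofHoms fun n ↦ (σ n).s
  let R : Cochain X₂ X₁ 0 := Cochain.ofHoms fun n ↦ (σ n).r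
  let a := α.comp S' (add_zero (-1))
  let b₁ : Cochain B₁ X₂ 0 := Cochain.ofHom b - δ (-1) 0 a
  let c : Cochain B₁ X₁ 0 := b₁.comp R (add_zero 0)
  have hSg : S'.comp (Cochain.ofHom g) (add_zero 0) = Cochain.ofHom (𝟙 X₃) := by
    ext n
    simpa [S'] using (σ n).s_g
  have hb₁g : b₁.comp (Cochain.ofHom g) (add_zero 0) = 0 := by
    simp only [b₁, Cochain.sub_comp, ← Cochain.ofHom_comp]
    rw [← δ_comp_ofHom, show a.comp (Cochain.ofHom g) (add_zero (-1)) = α from ?_, ← hα, sub_self]
    simp only [a]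
    rw [Cochain.comp_assoc_of_second_is_zero_cochain, hSg, Cochain.comp_id]
  have hcf : c.comp (Cochain.ofHom f) (add_zero 0) = b₁ := by
    ext n
    have h0 := Cochain.congr_v hb₁g n n (add_zero n)
    simp only [Cochain.comp_zero_cochain_v, Cochain.ofHom_v, Cochain.zero_v] at h0
    have h1 := congrArg (b₁.v n n (add_zero n) ≫ ·) (σ n).id
    simp only [Preadditive.comp_add, reassoc_of% h0, zero_comp, add_zero, Category.comp_id] at h1
    simp [c, R, h1]
  have hc : δ 0 1 c = 0 := by
    ext p q hpq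
    have h1 : δ 0 1 b₁ = 0 := by simp [b₁, δ_sub, δ_δ]
    have h2 := Cochain.congr_v (congrArg (δ 0 1) hcf) p q hpq
    rw [δ_comp_ofHom, h1] at h2
    simp only [Cochain.comp_zero_cochain_v, Cochain.ofHom_v, Cochain.zero_v] at h2
    haveI : IsSplitMono (f.f q) := IsSplitMono.mk' ⟨(σ q).r, (σ q).f_r⟩
    rw [Cochain.zero_v]
    exact zero_of_comp_mono (f.f q) h2
  refine ⟨(Cochain.equivHomotopy _ _).symm
    ⟨c.comp β (zero_add (-1)) + a.comp (Cochain.ofHom b') (add_zero (-1)), ?_⟩⟩
  rw [Cochain.ofHom_zero, add_zero, δ_add, δ_comp_ofHom,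
    δ_zero_cochain_comp c β 0 (by lia), hc, Cochain.zero_comp, smul_zero, add_zero, ← hβ]
  change _ = c.comp (Cochain.ofHom (f ≫ b')) (add_zero 0) + _
  rw [Cochain.ofHom_comp, Cochain.ofHom_comp, ← Cochain.comp_assoc_of_third_is_zero_cochain, hcf]
  simp [b₁]

/-- A map from a bounded complex of projectives to a complex which is exact in the relevant
degrees is null-homotopic. -/
lemma nullHomotopic_of_projective {P K : CochainComplex A ℤ} (n b : ℤ) [P.IsStrictlyGE n]
    [P.IsStrictlyLE b] (hP : ∀ i, Projective (P.X i)) (hK : ∀ i, n ≤ i → K.ExactAt i)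
    (f : P ⟶ K) : Nonempty (Homotopy f 0) := by
  haveI := hP
  suffices key : ∀ k : ℕ, ∃ α : Cochain P K (-1),
      ∀ p, b - k < p → (δ (-1) 0 α).v p p (add_zero p) = f.f p by
    obtain ⟨α, hα⟩ := key (b - n + 1).toNat
    refine ⟨(Cochain.equivHomotopy f 0).symm ⟨α, ?_⟩⟩
    rw [Cochain.ofHom_zero, add_zero]
    ext p
    by_cases hp : n ≤ p
    · rw [hα p (by lia), Cochain.ofHom_v]
    · exact (P.isZero_of_isStrictlyGE n p (by lia)).eq_of_src _ _
  intro k
  induction k with
  | zero => exact ⟨0, fun p hp ↦ (P.isZero_of_isStrictlyLE b p (by lia)).eq_of_src _ _⟩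
  | succ k ih =>
    obtain ⟨α, hα⟩ := ih
    obtain ⟨m, hm⟩ : ∃ m, m = b - k := ⟨_, rfl⟩
    let u : P.X m ⟶ K.X m := f.f m - (δ (-1) 0 α).v m m (add_zero m)
    by_cases hnm : n ≤ m
    · have hu : u ≫ K.d m (m + 1) = 0 := by
        have h1 := Cochain.congr_v (δ_δ (-1) 0 1 α) m (m + 1) rfl
        simp only [Cochain.zero_v, δ_zero_cochain_v, hα (m + 1) (by lia)] at h1
        rw [sub_eq_zero] at h1
        simp only [u, Preadditive.sub_comp, h1, ← f.comm, sub_self]
      have hex : (K.sc' (m - 1) m (m + 1)).Exact :=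
        (K.exactAt_iff' _ _ _ (by simp) (by simp)).1 (hK m hnm)
      obtain ⟨h, hh⟩ : ∃ h : P.X m ⟶ K.X (m - 1), h ≫ K.d (m - 1) m = u :=
        ⟨hex.liftFromProjective u hu, hex.liftFromProjective_comp u hu⟩
      refine ⟨α + Cochain.single h (-1), fun p hp ↦ ?_⟩
      rw [δ_add, Cochain.add_v, δ_v (-1) 0 (neg_add_cancel 1) (Cochain.single h (-1)) p p (add_zero p)
        (p - 1) (p + 1) rfl rfl]
      by_cases hpm : p = m
      · subst hpm
        rw [Cochain.single_v_eq_zero _ _ (p + 1) p (by lia) (by lia), Cochain.single_v]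
        simp [hh, u]
      · rw [Cochain.single_v_eq_zero _ _ (p + 1) p (by lia) (by lia),
          Cochain.single_v_eq_zero _ _ p (p - 1) (by lia) (by lia), hα p (by lia)]
        simp
    · refine ⟨α, fun p hp ↦ ?_⟩
      by_cases hpm : p = m
      · exact (P.isZero_of_isStrictlyGE n p (by lia)).eq_of_src _ _
      · exact hα p (by lia)

end Groth.Agent.DerCat

namespace Groth.Agent.DerCat

open Pretriangulated

variable {A : Type u} [Category.{v} A] [Abelian A]

/-- The cone of a map that is iso on homology above `n` and epi in degree `n` is exact from `n`. -/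
lemma exactAt_mappingCone {E L : CochainComplex A ℤ} (α : E ⟶ L) (n : ℤ)
    (hiso : ∀ i : ℤ, n < i → IsIso (HomologicalComplex.homologyMap α i))
    (hepi : Epi (HomologicalComplex.homologyMap α n)) (i : ℤ) (hi : n ≤ i) :
    (mappingCone α).ExactAt i := by
  let Q := HomotopyCategory.quotient A (ComplexShape.up ℤ)
  let F := HomotopyCategory.homologyFunctor A (ComplexShape.up ℤ) 0
  let e := HomotopyCategory.homologyFunctorFactors A (ComplexShape.up ℤ)
  have hT := HomotopyCategory.mappingCone_triangleh_distinguished α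
  haveI h1 : Epi ((F.shift i).map (CochainComplex.mappingCone.triangleh α).mor₁) := by
    rcases hi.eq_or_lt with rfl | hlt
    · exact ((MorphismProperty.epimorphisms A).arrow_mk_iso_iff
        (Arrow.isoMk' _ _ ((e n).app E) ((e n).app L) ((e n).hom.naturality α).symm)).2 hepi
    · haveI := hiso i hlt
      exact ((MorphismProperty.epimorphisms A).arrow_mk_iso_iff
        (Arrow.isoMk' _ _ ((e i).app E) ((e i).app L) ((e i).hom.naturality α).symm)).2
        (inferInstanceAs (Epi (HomologicalComplex.homologyMap α i)))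
  haveI h2 : Mono ((F.shift (i + 1)).map (CochainComplex.mappingCone.triangleh α).mor₁) := by
    haveI := hiso (i + 1) (by lia)
    exact ((MorphismProperty.monomorphisms A).arrow_mk_iso_iff
      (Arrow.isoMk' _ _ ((e (i + 1)).app E) ((e (i + 1)).app L) ((e (i + 1)).hom.naturality α).symm)).2
      (inferInstanceAs (Mono (HomologicalComplex.homologyMap α (i + 1))))
  rw [HomologicalComplex.exactAt_iff_isZero_homology]
  refine IsZero.of_iso ((F.homologySequence_exact₃ _ hT i (i + 1) rfl).isZero_of_both_zeros ?_ ?_)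
    ((e i).app (mappingCone α)).symm
  · exact (F.homologySequence_epi_shift_map_mor₁_iff _ hT i).1 h1
  · exact (F.homologySequence_mono_shift_map_mor₁_iff _ hT i (i + 1) rfl).1 h2

/-- Lifting a map from a bounded complex of projectives up to homotopy. -/
lemma exists_lift_up_to_homotopy {P E L : CochainComplex A ℤ} (β : P ⟶ L) (α : E ⟶ L) (n b : ℤ)
    [P.IsStrictlyGE n] [P.IsStrictlyLE b] (hP : ∀ i : ℤ, Projective (P.X i))
    (hiso : ∀ i : ℤ, n < i → IsIso (HomologicalComplex.homologyMap α i))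
    (hepi : Epi (HomologicalComplex.homologyMap α n)) :
    ∃ γ : P ⟶ E, Nonempty (Homotopy (γ ≫ α) β) := by
  let Q := HomotopyCategory.quotient A (ComplexShape.up ℤ)
  obtain ⟨h⟩ := nullHomotopic_of_projective n b hP (fun i hi ↦ exactAt_mappingCone α n hiso hepi i hi)
    (β ≫ mappingCone.inr α)
  have h0 : Q.map β ≫ Q.map (mappingCone.inr α) = 0 := by
    rw [← Q.map_comp, HomotopyCategory.eq_of_homotopy _ _ h, Functor.map_zero]
  obtain ⟨γ, hγ⟩ := Triangle.coyoneda_exact₂ _
    (HomotopyCategory.mappingCone_triangleh_distinguished α) (Q.map β) h0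
  obtain ⟨γ, rfl⟩ := Q.map_surjective γ
  exact ⟨γ, ⟨HomotopyCategory.homotopyOfEq _ _ ((Q.map_comp γ α).trans hγ.symm)⟩⟩

end Groth.Agent.DerCat
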