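import Mathlib.Algebra.Homology.DerivedCategory.FullyFaithful
import Mathlib.Algebra.Homology.DerivedCategory.TStructure
import Mathlib.CategoryTheory.Triangulated.TStructure.TruncLEGT

set_option autoImplicit false
set_option backward.isDefEq.respectTransparency false
set_option backward.defeqAttrib.useBackward true

namespace Groth.Agent.DerCat

open CategoryTheory Limits Category Pretriangulated ZeroObject DerivedCategory

universe w v u

variable {C : Type u} [Category.{v} C] [Abelian C] [HasDerivedCategory.{w} C]

/-- The homology of `singleFunctor n` in degree `n`. -/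
noncomputable def homologySingleIso (n : ℤ) (X : C) :
    (homologyFunctor C n).obj ((singleFunctor C n).obj X) ≅ X :=
  (singleFunctorCompHomologyFunctorIso C n).app X

lemma isZero_homology_single (n i : ℤ) (h : i ≠ n) (X : C) :
    IsZero ((homologyFunctor C i).obj ((singleFunctor C n).obj X)) := by
  rcases lt_or_gt_of_ne h with h | h
  · exact isZero_of_isGE _ n i h
  · exact isZero_of_isLE _ n i h

/-- An object concentrated in degree `n` is its homology placed in degree `n`. -/
lemma exists_iso_single_homology (X : DerivedCategory C) (n : ℤ) [X.IsGE n] [X.IsLE n] :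
    Nonempty (X ≅ (singleFunctor C n).obj ((homologyFunctor C n).obj X)) := by
  obtain ⟨Y, ⟨e⟩⟩ := exists_iso_singleFunctor_obj_of_isGE_of_isLE X n
  exact ⟨e ≪≫ (singleFunctor C n).mapIso
    ((homologySingleIso n Y).symm ≪≫ (homologyFunctor C n).mapIso e.symm)⟩

lemma isZero_of_forall_homology (X : DerivedCategory C)
    (h : ∀ i, IsZero ((homologyFunctor C i).obj X)) : IsZero X := by
  rw [IsZero.iff_id_eq_zero]
  have : IsIso (0 : X ⟶ X) := by
    rw [DerivedCategory.isIso_iff]
    intro i
    exact ⟨0, (h i).eq_of_src _ _, (h i).eq_of_src _ _⟩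
  rw [← IsIso.inv_hom_id (0 : X ⟶ X), comp_zero]

open DerivedCategory.TStructure in
/-- `truncLE` computes the homology in low degrees. -/
lemma isIso_homology_truncLEι (X : DerivedCategory C) (n i : ℤ) (h : i ≤ n) :
    IsIso ((homologyFunctor C i).map ((t.truncLEι n).app X)) := by
  have hT := t.triangleLEGT_distinguished n X
  have z₁ : IsZero ((homologyFunctor C (i - 1)).obj ((t.truncGT n).obj X)) :=
    isZero_of_isGE _ (n + 1) _ (by omega)
  have z₂ : IsZero ((homologyFunctor C i).obj ((t.truncGT n).obj X)) :=
    isZero_of_isGE _ (n + 1) _ (by omega)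
  have : Mono ((homologyFunctor C i).map ((t.truncLEι n).app X)) := (HomologySequence.mono_homologyMap_mor₁_iff _ hT (i - 1) i (by omega)).2
    (z₁.eq_of_src _ _)
  have : Epi ((homologyFunctor C i).map ((t.truncLEι n).app X)) := (HomologySequence.epi_homologyMap_mor₁_iff _ hT i).2 (z₂.eq_of_tgt _ _)
  exact isIso_of_mono_of_epi ((homologyFunctor C i).map ((t.truncLEι n).app X))

open DerivedCategory.TStructure in
/-- `truncGT` computes the homology in high degrees. -/
lemma isIso_homology_truncGTπ (X : DerivedCategory C) (n i : ℤ) (h : n < i) :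
    IsIso ((homologyFunctor C i).map ((t.truncGTπ n).app X)) := by
  have hT := t.triangleLEGT_distinguished n X
  have z₁ : IsZero ((homologyFunctor C i).obj ((t.truncLE n).obj X)) :=
    isZero_of_isLE _ n _ (by omega)
  have z₂ : IsZero ((homologyFunctor C (i + 1)).obj ((t.truncLE n).obj X)) :=
    isZero_of_isLE _ n _ (by omega)
  have : Mono ((homologyFunctor C i).map ((t.truncGTπ n).app X)) := (HomologySequence.mono_homologyMap_mor₂_iff _ hT i).2 (z₁.eq_of_src _ _)
  have : Epi ((homologyFunctor C i).map ((t.truncGTπ n).app X)) := (HomologySequence.epi_homologyMap_mor₂_iff _ hT i (i + 1) rfl).2 (z₂.eq_of_tgt _ _)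
  exact isIso_of_mono_of_epi ((homologyFunctor C i).map ((t.truncGTπ n).app X))

/-- Dévissage: a class of objects which is closed under isomorphisms and extensions, contains
zero and the shifted homology objects of a bounded object `X` contains `X`. -/
lemma prop_of_single (Q : ObjectProperty (DerivedCategory C)) [Q.IsClosedUnderIsomorphisms]
    (hz : ∀ Z, IsZero Z → Q Z)
    (hext : ∀ T ∈ distTriang (DerivedCategory C), Q T.obj₁ → Q T.obj₃ → Q T.obj₂)
    (X : DerivedCategory C) (a b : ℤ) [X.IsGE a] [X.IsLE b]
    (hX : ∀ i, a ≤ i → i ≤ b → Q ((singleFunctor C i).obj ((homologyFunctor C i).obj X))) :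
    Q X := by
  obtain h | h := lt_or_ge b a
  · exact hz _ (TStructure.t.isZero X b a h)
  obtain ⟨m, rfl⟩ : ∃ m : ℕ, b = a + m := ⟨(b - a).toNat, by omega⟩
  induction m generalizing X with
  | zero =>
    have : X.IsLE a := by simpa using ‹X.IsLE (a + ((0 : ℕ) : ℤ))›
    obtain ⟨e⟩ := exists_iso_single_homology X a
    exact Q.prop_of_iso e.symm (hX a le_rfl (by simp))
  | succ m hm =>
    let n : ℤ := a + m
    have hT := TStructure.t.triangleLEGT_distinguished n X
    refine hext _ hT ?_ ?_
    · refine @hm ((TStructure.t.truncLE n).obj X) inferInstance inferInstance (fun i h₁ h₂ => ?_)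
        (by omega)
      have := isIso_homology_truncLEι X n i h₂
      exact Q.prop_of_iso ((singleFunctor C i).mapIso
        (asIso ((homologyFunctor C i).map ((TStructure.t.truncLEι n).app X))).symm)
        (hX i h₁ (by omega))
    · show Q ((TStructure.t.truncGT n).obj X)
      have : ((TStructure.t.truncGT n).obj X).IsGE (n + 1) := inferInstance
      have : ((TStructure.t.truncGT n).obj X).IsLE (n + 1) := by
        rw [DerivedCategory.isLE_iff]
        intro i hi
        have := isIso_homology_truncGTπ X n i (by omega)
        exact (isZero_of_isLE X (a + (m + 1 : ℕ)) i (by omega)).of_iso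
          (asIso ((homologyFunctor C i).map ((TStructure.t.truncGTπ n).app X))).symm
      obtain ⟨e⟩ := exists_iso_single_homology ((TStructure.t.truncGT n).obj X) (n + 1)
      have := isIso_homology_truncGTπ X n (n + 1) (by omega)
      refine Q.prop_of_iso (((singleFunctor C (n + 1)).mapIso
        (asIso ((homologyFunctor C (n + 1)).map ((TStructure.t.truncGTπ n).app X)))) ≪≫ e.symm)
        (hX (n + 1) (by omega) (by omega))

/-- The single functor in degree `n` is a shift of the one in degree `0`. -/
noncomputable def singleShiftIso (n : ℤ) (Y : C) :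
    ((singleFunctor C 0).obj Y)⟦-n⟧ ≅ (singleFunctor C n).obj Y :=
  ((singleFunctors C).shiftIso (-n) n 0 (by omega)).app Y

end Groth.Agent.DerCat
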