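import Groth.Agent.DerCat.KInjLib
import Mathlib.Algebra.Homology.DerivedCategory.KInjective
import Mathlib.CategoryTheory.Limits.Shapes.Products

/-!
Products and coproducts in the derived category via K-injective complexes.
-/

set_option backward.isDefEq.respectTransparency false
set_option backward.defeqAttrib.useBackward true

universe w v u

open CategoryTheory Limits CochainComplex HomComplex

namespace Groth.Agent.DerCat

variable {A : Type u} [Category.{v} A] [Abelian A] [HasDerivedCategory.{w} A]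

open DerivedCategory

lemma Q_map_surjective {K L : CochainComplex A ℤ} [L.IsKInjective] (φ : Q.obj K ⟶ Q.obj L) :
    ∃ f : K ⟶ L, Q.map f = φ := by
  obtain ⟨g, hg⟩ := (IsKInjective.Qh_map_bijective _ _).surjective
    ((quotientCompQhIso A).hom.app K ≫ φ ≫ (quotientCompQhIso A).inv.app L)
  obtain ⟨f, rfl⟩ := (HomotopyCategory.quotient A (ComplexShape.up ℤ)).map_surjective g
  refine ⟨f, ?_⟩
  rw [← cancel_epi ((quotientCompQhIso A).hom.app K), ← NatTrans.naturality]
  simp [hg]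

lemma Q_map_eq_iff {K L : CochainComplex A ℤ} [L.IsKInjective] (f g : K ⟶ L) :
    Q.map f = Q.map g ↔ Nonempty (Homotopy (f - g) 0) := by
  refine ⟨fun h ↦ ?_, fun ⟨h⟩ ↦ ?_⟩
  · refine ⟨(Homotopy.equivSubZero (f := f) (g := g))
      (HomotopyCategory.homotopyOfEq _ _ ((IsKInjective.Qh_map_bijective _ _).injective ?_))⟩
    have hf := (quotientCompQhIso A).hom.naturality f
    have hg := (quotientCompQhIso A).hom.naturality g
    rw [h, ← hg, cancel_mono] at hf
    exact hf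
  · have e := HomotopyCategory.eq_of_homotopy _ _ (Homotopy.equivSubZero.symm h)
    have hf := (quotientCompQhIso A).hom.naturality f
    have hg := (quotientCompQhIso A).hom.naturality g
    rw [Functor.comp_map, e] at hf
    rw [Functor.comp_map, hf, cancel_epi] at hg
    exact hg

/-- The product of K-injective complexes is a product in the derived category. -/
lemma hasProduct_of_isKInjective {T : Type*} (X : T → DerivedCategory A)
    (I : T → CochainComplex A ℤ) [∀ t, (I t).IsKInjective] [HasProduct I]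
    (e : ∀ t, Q.obj (I t) ≅ X t) : HasProduct X := by
  haveI : (∏ᶜ I).IsKInjective := isKInjective_pi I fun t ↦ inferInstance
  have hex : ∀ s : Fan X, ∃ m : s.pt ⟶ Q.obj (∏ᶜ I),
      ∀ t, m ≫ Q.map (Pi.π I t) ≫ (e t).hom = s.proj t := fun s ↦ by
    obtain ⟨K, ⟨u⟩⟩ : ∃ K, Nonempty (Q.obj K ≅ s.pt) :=
      ⟨_, ⟨Q.objObjPreimageIso s.pt⟩⟩
    choose f hf using fun t ↦ Q_map_surjective (u.hom ≫ s.proj t ≫ (e t).inv)
    refine ⟨u.inv ≫ Q.map (Pi.lift f), fun t ↦ ?_⟩
    rw [Category.assoc, ← Functor.map_comp_assoc, Pi.lift_π, hf]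
    simp
  have huniq : ∀ (s : DerivedCategory A) (m m' : s ⟶ Q.obj (∏ᶜ I)),
      (∀ t, m ≫ Q.map (Pi.π I t) = m' ≫ Q.map (Pi.π I t)) → m = m' := fun s m m' h ↦ by
    obtain ⟨K, ⟨u⟩⟩ : ∃ K, Nonempty (Q.obj K ≅ s) := ⟨_, ⟨Q.objObjPreimageIso s⟩⟩
    obtain ⟨f, hf⟩ := Q_map_surjective (u.hom ≫ m)
    obtain ⟨g, hg⟩ := Q_map_surjective (u.hom ≫ m')
    rw [← cancel_epi u.hom, ← hf, ← hg, Q_map_eq_iff]
    choose c hc using fun t ↦ exists_extends_of_homotopy ((f - g) ≫ Pi.π I t)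
      ((Q_map_eq_iff (f ≫ Pi.π I t) (g ≫ Pi.π I t)).1 (by
        rw [Functor.map_comp, Functor.map_comp, hf, hg, Category.assoc, Category.assoc, h]) |>.some.trans
          (Homotopy.ofEq rfl) |> fun H ↦ (Homotopy.ofEq (Preadditive.sub_comp _ _ _)).trans H)
    exact nullHomotopic_of_extends _ (Pi.lift c) (Pi.hom_ext _ _ fun t ↦ by simp [hc])
  choose m hm using hex
  exact ⟨⟨⟨Fan.mk (Q.obj (∏ᶜ I)) fun t ↦ Q.map (Pi.π I t) ≫ (e t).hom,
    mkFanLimit _ m hm (fun s m' hm' ↦ huniq _ _ _ fun t ↦ by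
      rw [← cancel_mono (e t).hom, Category.assoc, Category.assoc, hm]
      exact hm' t)⟩⟩⟩

/-- The coproduct of complexes is a coproduct in the derived category, when there are enough
K-injective complexes. -/
lemma nonempty_isColimit_cofan
    (hA : ∀ M : CochainComplex A ℤ, ∃ (I : CochainComplex A ℤ) (f : M ⟶ I),
      I.IsKInjective ∧ QuasiIso f)
    {T : Type*} (X : T → DerivedCategory A)
    (K : T → CochainComplex A ℤ) [HasCoproduct K] [∀ n, HasCoproduct fun t ↦ (K t).X n]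
    [∀ n, PreservesColimit (Discrete.functor K) (HomologicalComplex.eval A (ComplexShape.up ℤ) n)]
    (e : ∀ t, Q.obj (K t) ≅ X t) :
    Nonempty (IsColimit (Cofan.mk (Q.obj (∐ K)) fun t ↦ (e t).inv ≫ Q.map (Sigma.ι K t))) := by
  have hres : ∀ Y : DerivedCategory A, ∃ I : CochainComplex A ℤ,
      I.IsKInjective ∧ Nonempty (Q.obj I ≅ Y) := fun Y ↦ by
    obtain ⟨I, f, hI, hf⟩ := hA (Q.objPreimage Y)
    exact ⟨I, hI, ⟨(asIso (Q.map f)).symm ≪≫ Q.objObjPreimageIso Y⟩⟩
  have hex : ∀ s : Cofan X, ∃ m : Q.obj (∐ K) ⟶ s.pt,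
      ∀ t, ((e t).inv ≫ Q.map (Sigma.ι K t)) ≫ m = s.inj t := fun s ↦ by
    obtain ⟨I, hI, ⟨u⟩⟩ := hres s.pt
    choose f hf using fun t ↦ Q_map_surjective ((e t).hom ≫ s.inj t ≫ u.inv)
    refine ⟨Q.map (Sigma.desc f) ≫ u.hom, fun t ↦ ?_⟩
    rw [Category.assoc, ← Functor.map_comp_assoc, Sigma.ι_desc, hf]
    simp
  have huniq : ∀ (s : DerivedCategory A) (m m' : Q.obj (∐ K) ⟶ s),
      (∀ t, Q.map (Sigma.ι K t) ≫ m = Q.map (Sigma.ι K t) ≫ m') → m = m' := fun s m m' h ↦ by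
    obtain ⟨I, hI, ⟨u⟩⟩ := hres s
    obtain ⟨f, hf⟩ := Q_map_surjective (m ≫ u.inv)
    obtain ⟨g, hg⟩ := Q_map_surjective (m' ≫ u.inv)
    rw [← cancel_mono u.inv, ← hf, ← hg, Q_map_eq_iff]
    have hnull : ∀ t, ∃ α : Cochain (K t) I (-1),
        Cochain.ofHom (Sigma.ι K t ≫ f - Sigma.ι K t ≫ g) = δ (-1) 0 α + Cochain.ofHom 0 := fun t ↦ by
      obtain ⟨h'⟩ := (Q_map_eq_iff (Sigma.ι K t ≫ f) (Sigma.ι K t ≫ g)).1 (by
        rw [Functor.map_comp, Functor.map_comp, hf, hg, ← Category.assoc, ← Category.assoc, h])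
      exact ⟨_, (Cochain.equivHomotopy _ _ h').2⟩
    choose α hα using hnull
    let hc := fun n ↦ isColimitOfPreserves (HomologicalComplex.eval A (ComplexShape.up ℤ) n)
      (coproductIsCoproduct K)
    let β : Cochain (∐ K) I (-1) := Cochain.mk fun p q hpq ↦
      (hc p).desc (Cocone.mk (I.X q) (Discrete.natTrans fun t ↦ (α t.as).v p q hpq))
    have hβ : ∀ t (p q : ℤ) (hpq : p + (-1) = q),
        (Sigma.ι K t).f p ≫ β.v p q hpq = (α t).v p q hpq := fun t p q hpq ↦ by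
      simp only [β, Cochain.mk_v]
      exact (hc p).fac _ ⟨t⟩
    refine ⟨(Cochain.equivHomotopy _ _).symm ⟨β, ?_⟩⟩
    rw [Cochain.ofHom_zero, add_zero]
    ext n
    refine (hc n).hom_ext fun ⟨t⟩ ↦ ?_
    have h1 := Cochain.congr_v (hα t) n n (add_zero n)
    rw [Cochain.ofHom_zero, add_zero, δ_v (-1) 0 (neg_add_cancel 1) _ n n (add_zero n) (n - 1)
      (n + 1) rfl rfl] at h1
    rw [δ_v (-1) 0 (neg_add_cancel 1) _ n n (add_zero n) (n - 1) (n + 1) rfl rfl]
    simp only [Cochain.ofHom_v, HomologicalComplex.sub_f_apply, HomologicalComplex.comp_f] at h1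
    simp only [Cochain.ofHom_v, HomologicalComplex.sub_f_apply]
    change (Sigma.ι K t).f n ≫ (f.f n - g.f n) = (Sigma.ι K t).f n ≫ _
    rw [Preadditive.comp_sub, h1, Preadditive.comp_add, Linear.comp_units_smul,
      reassoc_of% hβ, HomologicalComplex.Hom.comm_assoc, hβ]
  choose m hm using hex
  exact ⟨mkCofanColimit _ m hm (fun s m' hm' ↦ huniq _ _ _ fun t ↦ by
      rw [← cancel_epi (e t).inv, ← Category.assoc, ← Category.assoc, hm]
      exact hm' t)⟩

/-- Coproducts exist in the derived category, when there are enough K-injective complexes. -/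
lemma hasCoproduct_of_enough_isKInjective
    (hA : ∀ M : CochainComplex A ℤ, ∃ (I : CochainComplex A ℤ) (f : M ⟶ I),
      I.IsKInjective ∧ QuasiIso f)
    {T : Type*} (X : T → DerivedCategory A)
    (K : T → CochainComplex A ℤ) [HasCoproduct K] [∀ n, HasCoproduct fun t ↦ (K t).X n]
    [∀ n, PreservesColimit (Discrete.functor K) (HomologicalComplex.eval A (ComplexShape.up ℤ) n)]
    (e : ∀ t, Q.obj (K t) ≅ X t) : HasCoproduct X :=
  ⟨⟨⟨_, (nonempty_isColimit_cofan hA X K e).some⟩⟩⟩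

end Groth.Agent.DerCat
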