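import Mathlib.Algebra.Homology.HomotopyCategory
import Mathlib.CategoryTheory.Adjunction.Basic

/-!
An adjunction between additive functors induces one on homotopy categories.
-/

set_option backward.isDefEq.respectTransparency false
set_option backward.defeqAttrib.useBackward true

open CategoryTheory

namespace Groth.Agent.DerCat

variable {A B : Type*} [Category* A] [Category* B] [Preadditive A] [Preadditive B] {L : A ⥤ B} {R : B ⥤ A}
  [L.Additive] [R.Additive] (adj : L ⊣ R) {ι : Type*} (c : ComplexShape ι)

/-- The unit on complexes. -/
@[simps] def unitCx (K : HomologicalComplex A c) :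
    K ⟶ (R.mapHomologicalComplex c).obj ((L.mapHomologicalComplex c).obj K) where
  f i := adj.unit.app (K.X i)
  comm' i j _ := adj.unit_naturality (K.d i j)

/-- The counit on complexes. -/
@[simps] def counitCx (M : HomologicalComplex B c) :
    (L.mapHomologicalComplex c).obj ((R.mapHomologicalComplex c).obj M) ⟶ M where
  f i := adj.counit.app (M.X i)
  comm' i j _ := (adj.counit_naturality (M.d i j)).symm

/-- The adjunction on homotopy categories. -/
def adjHomotopy : L.mapHomotopyCategory c ⊣ R.mapHomotopyCategory c where
  unit :=
    { app := fun K => (HomotopyCategory.quotient A c).map (unitCx adj c K.as)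
      naturality := by
        rintro ⟨K⟩ ⟨K'⟩ f
        obtain ⟨f, rfl⟩ := (HomotopyCategory.quotient A c).map_surjective f
        exact ((HomotopyCategory.quotient A c).map_comp _ _).symm.trans ((congrArg (HomotopyCategory.quotient A c).map
          (show f ≫ unitCx adj c K' = unitCx adj c K ≫ (R.mapHomologicalComplex c).map ((L.mapHomologicalComplex c).map f) by
            ext i; exact adj.unit.naturality (f.f i))).trans ((HomotopyCategory.quotient A c).map_comp _ _)) }
  counit :=
    { app := fun M => (HomotopyCategory.quotient B c).map (counitCx adj c M.as)
      naturality := by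
        rintro ⟨K⟩ ⟨K'⟩ f
        obtain ⟨f, rfl⟩ := (HomotopyCategory.quotient B c).map_surjective f
        exact ((HomotopyCategory.quotient B c).map_comp _ _).symm.trans ((congrArg (HomotopyCategory.quotient B c).map
          (show (L.mapHomologicalComplex c).map ((R.mapHomologicalComplex c).map f) ≫ counitCx adj c K' = counitCx adj c K ≫ f by
            ext i; exact adj.counit.naturality (f.f i))).trans ((HomotopyCategory.quotient B c).map_comp _ _)) }
  left_triangle_components := by
    rintro ⟨K⟩
    change (HomotopyCategory.quotient B c).map ((L.mapHomologicalComplex c).map (unitCx adj c K)) ≫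
      (HomotopyCategory.quotient B c).map (counitCx adj c ((L.mapHomologicalComplex c).obj K)) = _
    rw [← Functor.map_comp, show (L.mapHomologicalComplex c).map (unitCx adj c K) ≫
      counitCx adj c ((L.mapHomologicalComplex c).obj K) = 𝟙 _ by ext i; simp]
    exact (HomotopyCategory.quotient B c).map_id _
  right_triangle_components := by
    rintro ⟨M⟩
    change (HomotopyCategory.quotient A c).map (unitCx adj c ((R.mapHomologicalComplex c).obj M)) ≫
      (HomotopyCategory.quotient A c).map ((R.mapHomologicalComplex c).map (counitCx adj c M)) = _
    rw [← Functor.map_comp, show unitCx adj c ((R.mapHomologicalComplex c).obj M) ≫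
      (R.mapHomologicalComplex c).map (counitCx adj c M) = 𝟙 _ by ext i; simp]
    exact (HomotopyCategory.quotient A c).map_id _

end Groth.Agent.DerCat
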