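import Mathlib.CategoryTheory.Functor.Derived.PointwiseLeftDerived
import Mathlib.CategoryTheory.Localization.CalculusOfFractions

/-!
Left derived functors from enough acyclic objects: if every object has a `W`-resolution by an object of a
class `P` and `F` inverts the maps of `W` between objects of `P`, then `F` has a pointwise left derived
functor, whose counit is an isomorphism on `P`.
-/

universe v v' v'' u u' u''

open CategoryTheory Limits MorphismProperty

namespace Groth.Agent.DerCat.LeftDeriv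

variable {C : Type u} [Category.{v} C] {D : Type u'} [Category.{v'} D] {H : Type u''} [Category.{v''} H]
  (L : C ⥤ D) (W : MorphismProperty C) [L.IsLocalization W] [W.HasRightCalculusOfFractions]
  (F : C ⥤ H) (P : ObjectProperty C)
  (hres : ∀ X, ∃ (Y : C) (s : Y ⟶ X), P Y ∧ W s)
  (hinv : ∀ ⦃X Y : C⦄ (s : X ⟶ Y), P X → P Y → W s → IsIso (F.map s))

include hres in
/-- Every map in the localized category out of an object of `P` is a roof with apex in `P`. -/
lemma exists_roof {P₀ Z : C} (g : L.obj P₀ ⟶ L.obj Z) :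
    ∃ (P' : C) (t : P' ⟶ P₀) (b : P' ⟶ Z), P P' ∧ W t ∧ L.map t ≫ g = L.map b := by
  obtain ⟨φ, rfl⟩ := Localization.exists_rightFraction L W g
  obtain ⟨P', r, hP', hr⟩ := hres φ.X'
  refine ⟨P', r ≫ φ.s, r ≫ φ.f, hP', W.comp_mem _ _ hr φ.hs, ?_⟩
  simp [RightFraction.map]

include hres hinv in
lemma existsUnique_map {P₀ Z : C} (h₀ : P P₀) (g : L.obj P₀ ⟶ L.obj Z) :
    ∃! m : F.obj P₀ ⟶ F.obj Z, ∀ (P' : C) (t : P' ⟶ P₀) (b : P' ⟶ Z),
      P P' → W t → L.map t ≫ g = L.map b → F.map t ≫ m = F.map b := by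
  obtain ⟨P₁, t₁, b₁, hP₁, ht₁, e₁⟩ := exists_roof L W P hres g
  haveI := hinv t₁ hP₁ h₀ ht₁
  refine ⟨inv (F.map t₁) ≫ F.map b₁, fun P' t b hP' ht e => ?_, fun m hm => ?_⟩
  · obtain ⟨ψ, hψ⟩ := (LeftFraction.mk t₁ t ht).exists_rightFraction
    dsimp at hψ
    obtain ⟨P₂, r, hP₂, hr⟩ := hres ψ.X'
    have hL : L.map (r ≫ ψ.s ≫ b₁) = L.map (r ≫ ψ.f ≫ b) := by
      simp only [L.map_comp, ← e₁, ← e, ← Category.assoc]
      simp only [← L.map_comp, Category.assoc, hψ]
    obtain ⟨Z', q, hq, eq⟩ := (map_eq_iff_precomp L W _ _).1 hL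
    obtain ⟨P₃, r', hP₃, hr'⟩ := hres Z'
    have hW : W (r' ≫ q ≫ r ≫ ψ.s) :=
      W.comp_mem _ _ hr' (W.comp_mem _ _ hq (W.comp_mem _ _ hr ψ.hs))
    haveI := hinv _ hP₃ hP₁ hW
    haveI := hinv t hP' h₀ ht
    haveI : IsIso (F.map (r' ≫ q ≫ r ≫ ψ.f)) := by
      have h' : IsIso (F.map (r' ≫ q ≫ r ≫ ψ.f) ≫ F.map t) := by
        rw [← F.map_comp]
        simp only [Category.assoc, ← hψ]
        rw [show r' ≫ q ≫ r ≫ ψ.s ≫ t₁ = (r' ≫ q ≫ r ≫ ψ.s) ≫ t₁ by simp, F.map_comp]
        infer_instance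
      exact IsIso.of_isIso_comp_right _ (F.map t)
    rw [← cancel_epi (F.map (r' ≫ q ≫ r ≫ ψ.f))]
    have eq' : F.map (r' ≫ q ≫ r ≫ ψ.s) ≫ F.map b₁ = F.map (r' ≫ q ≫ r ≫ ψ.f) ≫ F.map b := by
      simp only [← F.map_comp, Category.assoc, eq]
    rw [← eq', ← Category.assoc, ← F.map_comp]
    simp only [Category.assoc, ← hψ]
    rw [show r' ≫ q ≫ r ≫ ψ.s ≫ t₁ = (r' ≫ q ≫ r ≫ ψ.s) ≫ t₁ by simp, F.map_comp]
    simp
  · rw [IsIso.eq_inv_comp]
    exact hm P₁ t₁ b₁ hP₁ ht₁ e₁

variable {X : C} {P₀ : C} (s : P₀ ⟶ X) (h₀ : P P₀) (hs : W s)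

include hres hinv h₀ in
lemma existsUnique_map' (j : StructuredArrow (L.obj X) L) :
    ∃! m : F.obj P₀ ⟶ F.obj j.right, ∀ (P' : C) (t : P' ⟶ P₀) (b : P' ⟶ j.right),
      P P' → W t → L.map t ≫ L.map s ≫ j.hom = L.map b → F.map t ≫ m = F.map b :=
  existsUnique_map L W F P hres hinv h₀ (L.map s ≫ j.hom)

/-- The limit cone with vertex the value on a resolution. -/
noncomputable def cone : Cone (StructuredArrow.proj (L.obj X) L ⋙ F) where
  pt := F.obj P₀
  π :=
    { app := fun j => (existsUnique_map' L W F P hres hinv s h₀ j).choose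
      naturality := fun j j' φ => by
        obtain ⟨P', t, b, hP', ht, e⟩ := exists_roof L W P hres (L.map s ≫ j.hom)
        have h1 := (existsUnique_map' L W F P hres hinv s h₀ j).choose_spec.1 P' t b hP' ht e
        have h2 := (existsUnique_map' L W F P hres hinv s h₀ j').choose_spec.1 P' t (b ≫ φ.right) hP' ht (by
          have w := StructuredArrow.w φ
          rw [L.map_comp, ← e, Category.assoc, Category.assoc, ← w])
        haveI := hinv t hP' h₀ ht
        dsimp
        refine (Category.id_comp _).trans ((cancel_epi (F.map t)).1 ?_)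
        exact (h2.trans (F.map_comp _ _)).trans ((congrArg (· ≫ F.map φ.right) h1.symm).trans (Category.assoc _ _ _)) }

include hs in
lemma cone_π_self :
    haveI := Localization.inverts L W s hs
    (cone L W F P hres hinv s h₀).π.app (StructuredArrow.mk (inv (L.map s))) = 𝟙 (F.obj P₀) := by
  haveI := Localization.inverts L W s hs
  refine ((existsUnique_map' L W F P hres hinv s h₀ (StructuredArrow.mk (inv (L.map s)))).choose_spec.2
    (𝟙 (F.obj P₀)) (fun P' t b hP' ht e => ?_)).symm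
  dsimp at e
  rw [IsIso.hom_inv_id, Category.comp_id] at e
  obtain ⟨Z', q, hq, eq⟩ := (map_eq_iff_precomp L W _ _).1 e
  obtain ⟨P₃, r, hP₃, hr⟩ := hres Z'
  haveI := hinv _ hP₃ hP' (W.comp_mem _ _ hr hq)
  dsimp
  rw [Category.comp_id, ← cancel_epi (F.map (r ≫ q)), ← F.map_comp, ← F.map_comp]
  simp [eq]

include hs in
/-- The cone is a limit. -/
noncomputable def isLimit : IsLimit (cone L W F P hres hinv s h₀) :=
  haveI := Localization.inverts L W s hs
  { lift := fun c => c.π.app (StructuredArrow.mk (inv (L.map s)))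
    fac := fun c j => by
      obtain ⟨P', t, b, hP', ht, e⟩ := exists_roof L W P hres (L.map s ≫ j.hom)
      haveI := Localization.inverts L W t ht
      have h1 := (existsUnique_map' L W F P hres hinv s h₀ j).choose_spec.1 P' t b hP' ht e
      let j' : StructuredArrow (L.obj X) L := StructuredArrow.mk (inv (L.map s) ≫ inv (L.map t))
      let φt : j' ⟶ StructuredArrow.mk (inv (L.map s)) := StructuredArrow.homMk t (by simp [j'])
      let φb : j' ⟶ j := StructuredArrow.homMk b (by simp [j', ← e])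
      have wt : c.π.app j' ≫ F.map t = c.π.app (StructuredArrow.mk (inv (L.map s))) := c.w φt
      have wb : c.π.app j' ≫ F.map b = c.π.app j := c.w φb
      exact ((congrArg (· ≫ _) wt.symm).trans (Category.assoc _ _ _)).trans
        ((congrArg (c.π.app j' ≫ ·) h1).trans wb)
    uniq := fun c m hm => by
      rw [← hm (StructuredArrow.mk (inv (L.map s))), cone_π_self L W F P hres hinv s h₀ hs]
      exact (Category.comp_id m).symm }

include hres hinv in
/-- Enough acyclic objects: the pointwise left derived functor exists. -/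
theorem hasPointwiseLeftDerivedFunctor : F.HasPointwiseLeftDerivedFunctor W := fun X => by
  rw [Functor.hasPointwiseLeftDerivedFunctorAt_iff F W.Q W]
  obtain ⟨P₀, s, h₀, hs⟩ := hres X
  exact ⟨⟨⟨_, isLimit W.Q W F P hres hinv s h₀ hs⟩⟩⟩

include hres hinv in
theorem hasLeftDerivedFunctor : F.HasLeftDerivedFunctor W :=
  haveI := hasPointwiseLeftDerivedFunctor W F P hres hinv
  inferInstance

include hres hinv in
/-- The left derived functor is computed by the objects of `P`. -/
theorem isIso_counit_app [F.HasLeftDerivedFunctor W] {P₀ : C} (h₀ : P P₀) :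
    IsIso ((F.totalLeftDerivedCounit L W).app P₀) := by
  haveI := hasPointwiseLeftDerivedFunctor W F P hres hinv
  let E := Functor.RightExtension.mk _ (F.totalLeftDerivedCounit L W)
  have hE : E.IsPointwiseRightKanExtension :=
    Functor.isPointwiseRightKanExtensionOfHasPointwiseLeftDerivedFunctor _ _ W
  let hC := isLimit L W F P hres hinv (𝟙 P₀) h₀ (W.id_mem _)
  let j₀ : StructuredArrow (L.obj P₀) L := StructuredArrow.mk (inv (L.map (𝟙 P₀)))
  have e := IsLimit.conePointUniqueUpToIso_hom_comp (hE (L.obj P₀)) hC j₀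
  rw [cone_π_self L W F P hres hinv (𝟙 P₀) h₀ (W.id_mem _)] at e
  have h := (IsLimit.conePointUniqueUpToIso (hE (L.obj P₀)) hC).isIso_hom
  rw [show (IsLimit.conePointUniqueUpToIso (hE (L.obj P₀)) hC).hom =
    (IsLimit.conePointUniqueUpToIso (hE (L.obj P₀)) hC).hom ≫ 𝟙 _ from (Category.comp_id _).symm] at h
  have h' : IsIso ((E.coneAt (L.obj P₀)).π.app j₀) := e ▸ h
  have key : ∀ g : L.obj P₀ ⟶ L.obj P₀, g = 𝟙 _ →
      IsIso ((E.coneAt (L.obj P₀)).π.app (StructuredArrow.mk g)) →
      IsIso ((F.totalLeftDerivedCounit L W).app P₀) := by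
    rintro g rfl h
    simp [E] at h
    exact h
  exact key _ (by simp) h'

end Groth.Agent.DerCat.LeftDeriv
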