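import Groth.Agent.DerCat.TruncLim
import Groth.Agent.DerCat.KInjProducts
import Mathlib.Algebra.Homology.SingleHomology

/-!
Detecting maps on cohomology by a test object.
-/

noncomputable section

universe w v u

open CategoryTheory Limits DerivedCategory HomologicalComplex

set_option backward.isDefEq.respectTransparency false
set_option backward.defeqAttrib.useBackward true

namespace Groth.Agent.DerCat

variable {C : Type u} [Category.{v} C] [Abelian C]

lemma exists_fromSingle {P : C} {W : CochainComplex C ℤ} (n : ℤ) (z : P ⟶ W.cycles n) :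
    ∃ f : (CochainComplex.singleFunctor C n).obj P ⟶ W,
      f.f n = (singleObjXSelf (ComplexShape.up ℤ) n P).hom ≫ z ≫ W.iCycles n ∧
      (singleObjHomologySelfIso (ComplexShape.up ℤ) n P).inv ≫ homologyMap f n = z ≫ W.homologyπ n := by
  refine ⟨mkHomFromSingle (z ≫ W.iCycles n) (fun k _ => by rw [Category.assoc, iCycles_d, comp_zero]),
    mkHomFromSingle_f _ _, ?_⟩
  rw [← singleObjCyclesSelfIso_inv_homologyπ, Category.assoc, homologyπ_naturality, ← Category.assoc]
  refine congrArg (· ≫ W.homologyπ n) ?_
  rw [← cancel_mono (W.iCycles n)]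
  simp [mkHomFromSingle_f]

variable [HasDerivedCategory.{w} C]

/-- If `P` sees the cohomology of `I` and lifts along `c` degreewise, it does not distinguish the cohomology
of `W` and `I`. -/
theorem bijective_comp_homologyMap {P : C} {W I : CochainComplex C ℤ} [I.IsKInjective] (c : W ⟶ I) (n : ℤ)
    (hc : ∀ m, Function.Bijective fun g : P ⟶ W.X m => g ≫ c.f m)
    (hev : Function.Bijective (TruncLim.ev n P (Q.obj I)))
    (hlift : ∀ g : P ⟶ W.homology n, ∃ z, z ≫ W.homologyπ n = g) :
    Function.Bijective fun g : P ⟶ W.homology n => g ≫ homologyMap c n := by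
  let S : CochainComplex C ℤ := (CochainComplex.singleFunctor C n).obj P
  let τ : P ⟶ S.homology n := (singleFunctorCompHomologyFunctorIso C n).inv.app P ≫
    (homologyFunctorFactors C n).hom.app S
  haveI : IsIso τ := by dsimp only [τ]; infer_instance
  let σ := singleObjHomologySelfIso (ComplexShape.up ℤ) n P
  have hτ : ∀ f : S ⟶ I, TruncLim.ev n P (Q.obj I) (Q.map f) =
      τ ≫ homologyMap f n ≫ (homologyFunctorFactors C n).inv.app I := fun f => by
    simp only [τ, TruncLim.ev, Category.assoc]
    refine congrArg ((singleFunctorCompHomologyFunctorIso C n).inv.app P ≫ ·) ?_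
    exact (NatIso.naturality_2 (homologyFunctorFactors C n) f).symm
  refine ⟨fun g g' h => sub_eq_zero.1 ?_, fun g => ?_⟩
  · replace h : (g - g') ≫ homologyMap c n = 0 := by rw [Preadditive.sub_comp, sub_eq_zero]; exact h
    generalize g - g' = g at h
    obtain ⟨z, hz⟩ := hlift g
    obtain ⟨f, hf, hfg⟩ := exists_fromSingle n z
    rw [hz] at hfg
    have h0 : Q.map (f ≫ c) = Q.map (0 : S ⟶ I) := by
      apply hev.1
      have h1 : homologyMap (f ≫ c) n = 0 := by
        rw [← cancel_epi σ.inv, homologyMap_comp, ← Category.assoc, hfg, h, comp_zero]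
      erw [hτ, hτ, h1, homologyMap_zero]
    obtain ⟨H⟩ := (Q_map_eq_iff _ _).1 h0
    obtain ⟨h', hh'⟩ := (hc (n - 1)).2 ((singleObjXSelf (ComplexShape.up ℤ) n P).inv ≫ H.hom n (n - 1))
    have hd : h' ≫ W.d (n - 1) n = z ≫ W.iCycles n := by
      apply (hc n).1
      dsimp only at hh' ⊢
      rw [Category.assoc, ← c.comm, ← Category.assoc, hh']
      have e := H.comm n
      rw [dNext_eq H.hom (show (ComplexShape.up ℤ).Rel n (n + 1) from rfl),
        prevD_eq H.hom (show (ComplexShape.up ℤ).Rel (n - 1) n by simp)] at e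
      have hz0 : S.d n (n + 1) = 0 := single_obj_d ..
      simp only [sub_zero, zero_f, add_zero, comp_f, hf, hz0, zero_comp, zero_add] at e
      rw [← cancel_epi (singleObjXSelf (ComplexShape.up ℤ) n P).hom]
      simpa [S, CochainComplex.singleFunctor, CochainComplex.singleFunctors] using e.symm
    have hz0 : z = h' ≫ W.toCycles (n - 1) n := by
      rw [← cancel_mono (W.iCycles n), Category.assoc, toCycles_i, hd]
    rw [← hz, hz0, Category.assoc, toCycles_comp_homologyπ, comp_zero]
  · obtain ⟨ξ, hξ⟩ := hev.2 (g ≫ (homologyFunctorFactors C n).inv.app I)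
    obtain ⟨φ, rfl⟩ := Q_map_surjective (K := S) (L := I) ξ
    rw [hτ, ← Category.assoc, cancel_mono] at hξ
    obtain ⟨a, ha⟩ := (hc n).2 ((singleObjXSelf (ComplexShape.up ℤ) n P).inv ≫ φ.f n)
    obtain ⟨f, hf⟩ : ∃ f : S ⟶ W, f ≫ c = φ := by
      refine ⟨mkHomFromSingle a fun k (hk : n + 1 = k) => (hc k).1 ?_, from_single_hom_ext ?_⟩
      · dsimp only at ha ⊢
        rw [Category.assoc, ← c.comm, ← Category.assoc, ha, Category.assoc, φ.comm, zero_comp]
        simp [S, CochainComplex.singleFunctor, CochainComplex.singleFunctors]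
      · dsimp only at ha ⊢
        simp [mkHomFromSingle_f, ha]
    refine ⟨τ ≫ homologyMap f n, ?_⟩
    dsimp only
    rw [Category.assoc, ← homologyMap_comp, hf, hξ]

end Groth.Agent.DerCat
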