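import Mathlib.Algebra.Homology.Embedding.CochainComplex
import Mathlib.Algebra.Homology.Embedding.ExtendHomology
import Mathlib.Algebra.Homology.ShortComplex.Abelian
import Mathlib.Algebra.Homology.SingleHomology
import Mathlib.Algebra.Homology.HomotopyCategory.Shift
import Mathlib.CategoryTheory.Abelian.Exact

/-!
Left resolutions of an object by objects of a class which covers every object.
-/

set_option backward.isDefEq.respectTransparency false
set_option backward.defeqAttrib.useBackward true

universe v u

open CategoryTheory Limits

namespace Groth.Agent.DerCat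

variable {C : Type u} [Category.{v} C] [Abelian C] (P : ObjectProperty C)
  (hcov : ∀ M : C, ∃ (G : C) (π : G ⟶ M), P G ∧ Epi π)

/-- The chosen cover. -/
noncomputable def covObj (M : C) : C := (hcov M).choose

/-- Its projection. -/
noncomputable def covMap (M : C) : covObj P hcov M ⟶ M := (hcov M).choose_spec.choose

lemma prop_covObj (M : C) : P (covObj P hcov M) := (hcov M).choose_spec.choose_spec.1

instance epi_covMap (M : C) : Epi (covMap P hcov M) := (hcov M).choose_spec.choose_spec.2

/-- The cover of a kernel, mapped into the source. -/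
noncomputable def covSyz {A B : C} (f : A ⟶ B) : covObj P hcov (kernel f) ⟶ A :=
  covMap P hcov _ ≫ kernel.ι f

lemma covSyz_comp {A B : C} (f : A ⟶ B) : covSyz P hcov f ≫ f = 0 := by simp [covSyz]

lemma exact_covSyz {A B : C} (f : A ⟶ B) :
    (ShortComplex.mk _ _ (covSyz_comp P hcov f)).Exact := by
  rw [ShortComplex.exact_iff_epi_kernel_lift]
  dsimp
  rw [show kernel.lift f (covSyz P hcov f) (covSyz_comp P hcov f) = covMap P hcov _ from by
    rw [← cancel_mono (kernel.ι f), kernel.lift_ι]; rfl]
  infer_instance

/-- The resolution as a chain complex. -/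
noncomputable def covChain (M : C) : ChainComplex C ℕ :=
  ChainComplex.mk' (covObj P hcov M) (covObj P hcov (kernel (covMap P hcov M))) (covSyz P hcov (covMap P hcov M))
    (fun f => ⟨_, covSyz P hcov f, covSyz_comp P hcov f⟩)

lemma covChain_d (M : C) : (covChain P hcov M).d 1 0 = covSyz P hcov (covMap P hcov M) := by
  simp [covChain]

lemma covChain_exactAt (M : C) (n : ℕ) : (covChain P hcov M).ExactAt (n + 1) := by
  rw [HomologicalComplex.exactAt_iff' _ (n + 1 + 1) (n + 1) n (by simp) (by simp)]
  simp only [HomologicalComplex.sc', HomologicalComplex.shortComplexFunctor', covChain,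
    ChainComplex.mk', ChainComplex.mk, ChainComplex.of_d]
  match n with
  | 0 => apply exact_covSyz
  | n + 1 => apply exact_covSyz

lemma prop_covChain (M : C) (n : ℕ) : P ((covChain P hcov M).X n) := by
  obtain (_ | _ | _ | n) := n <;> apply prop_covObj

/-- The augmentation. -/
noncomputable def covAug (M : C) : covChain P hcov M ⟶ (ChainComplex.single₀ C).obj M :=
  (ChainComplex.toSingle₀Equiv _ _).symm ⟨covMap P hcov M, by rw [covChain_d, covSyz_comp]⟩

instance quasiIso_covAug (M : C) : QuasiIso (covAug P hcov M) := ⟨fun n => by
  cases n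
  · rw [ChainComplex.quasiIsoAt₀_iff, ShortComplex.quasiIso_iff_of_zeros']
    · refine (ShortComplex.exact_and_epi_g_iff_of_iso ?_).2
        ⟨exact_covSyz P hcov (covMap P hcov M), epi_covMap P hcov M⟩
      exact ShortComplex.isoMk (Iso.refl _) (Iso.refl _) (Iso.refl _)
        (by simp [covChain]) (by simp [covAug])
    all_goals rfl
  · rw [quasiIsoAt_iff_exactAt']
    · apply covChain_exactAt
    · apply ChainComplex.exactAt_succ_single_obj⟩

include hcov in
/-- Every object has a resolution by objects in `P`, as a cochain complex in degrees `≤ 0`. -/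
theorem exists_cover_resolution (h0 : ∀ Z, IsZero Z → P Z) [P.IsClosedUnderIsomorphisms] (M : C) :
    ∃ (E : CochainComplex C ℤ) (q : E ⟶ (CochainComplex.singleFunctor C 0).obj M),
      QuasiIso q ∧ (∀ n, P (E.X n)) ∧ ∀ n, 0 < n → IsZero (E.X n) := by
  refine ⟨(covChain P hcov M).extend ComplexShape.embeddingDownNat,
    (ComplexShape.embeddingDownNat.extendFunctor C).map (covAug P hcov M) ≫
      (HomologicalComplex.extendSingleIso _ _ _ _ (by simp)).hom, ?_, fun n => ?_, fun n hn => ?_⟩
  · haveI : QuasiIso ((ComplexShape.embeddingDownNat.extendFunctor C).map (covAug P hcov M)) := by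
      change QuasiIso (HomologicalComplex.extendMap (covAug P hcov M) ComplexShape.embeddingDownNat)
      infer_instance
    infer_instance
  · by_cases hn : n ≤ 0
    · obtain ⟨k, rfl⟩ := Int.exists_eq_neg_ofNat hn
      exact P.prop_of_iso (HomologicalComplex.extendXIso _ ComplexShape.embeddingDownNat
        (show ComplexShape.embeddingDownNat.f k = -(k : ℤ) by simp)).symm (prop_covChain P hcov M k)
    · exact h0 _ (HomologicalComplex.isZero_extend_X _ _ _ (fun k => by simp; omega))
  · exact HomologicalComplex.isZero_extend_X _ _ _ (fun k => by simp; omega)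

end Groth.Agent.DerCat
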