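import Mathlib.Algebra.Homology.Bifunctor
import Mathlib.Algebra.Homology.Additive
import Mathlib.CategoryTheory.Preadditive.AdditiveFunctor
import Mathlib.CategoryTheory.Linear.LinearFunctor

/-!
A functor compatible with two bifunctors commutes with the total complex of the bifunctors.
-/

set_option backward.isDefEq.respectTransparency false
set_option backward.defeqAttrib.useBackward true

open CategoryTheory Limits HomologicalComplex

namespace Groth.Agent.DerCat

variable {C₁ C₂ C₃ D₁ D₂ D₃ E₂ : Type*} [Category* C₁] [Category* C₂] [Category* C₃]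
  [Category* D₁] [Category* D₂] [Category* D₃] [Category* E₂]
  [Preadditive C₁] [Preadditive C₂] [Preadditive C₃] [Preadditive D₁] [Preadditive D₂] [Preadditive D₃]
  [Preadditive E₂]
  (B : C₁ ⥤ C₂ ⥤ C₃) (B' : D₁ ⥤ D₂ ⥤ D₃)
  [B.Additive] [∀ X, (B.obj X).Additive] [B'.Additive] [∀ X, (B'.obj X).Additive]
  (G₁ : C₁ ⥤ D₁) (G₂ : E₂ ⥤ D₂) (G₃ : C₃ ⥤ D₃) (H₂ : E₂ ⥤ C₂)
  [G₁.Additive] [G₂.Additive] [G₃.Additive] [H₂.Additive]
  [PreservesColimitsOfSize.{0, 0} G₃]
  (e : ∀ M N, G₃.obj ((B.obj M).obj (H₂.obj N)) ≅ (B'.obj (G₁.obj M)).obj (G₂.obj N))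
  (el : ∀ {M M'} (a : M ⟶ M') N,
    G₃.map ((B.map a).app (H₂.obj N)) ≫ (e M' N).hom = (e M N).hom ≫ (B'.map (G₁.map a)).app (G₂.obj N))
  (er : ∀ M {N N'} (b : N ⟶ N'),
    G₃.map ((B.obj M).map (H₂.map b)) ≫ (e M N').hom = (e M N).hom ≫ (B'.obj (G₁.obj M)).map (G₂.map b))
  (F : CochainComplex C₁ ℤ) (K : CochainComplex E₂ ℤ)

/-- The first mapped complex. -/
abbrev mapF : CochainComplex D₁ ℤ := (G₁.mapHomologicalComplex (ComplexShape.up ℤ)).obj F

/-- The second mapped complex. -/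
abbrev mapK : CochainComplex D₂ ℤ := (G₂.mapHomologicalComplex (ComplexShape.up ℤ)).obj K

/-- The second complex, in the source of the first bifunctor. -/
abbrev mapH : CochainComplex C₂ ℤ := (H₂.mapHomologicalComplex (ComplexShape.up ℤ)).obj K

variable [HasMapBifunctor F (mapH H₂ K) B (ComplexShape.up ℤ)]
  [HasMapBifunctor (mapF G₁ F) (mapK G₂ K) B' (ComplexShape.up ℤ)]

/-- The comparison map in degree `n`. -/
noncomputable def mapBifunctorCompF (n : ℤ) :
    (mapBifunctor (mapF G₁ F) (mapK G₂ K) B' (ComplexShape.up ℤ)).X n ⟶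
      G₃.obj ((mapBifunctor F (mapH H₂ K) B (ComplexShape.up ℤ)).X n) :=
  mapBifunctorDesc fun p q h => (e (F.X p) (K.X q)).inv ≫
    G₃.map (ιMapBifunctor F (mapH H₂ K) B (.up ℤ) p q n h)

lemma ι_mapBifunctorCompF (p q n : ℤ) (h : p + q = n) :
    ιMapBifunctor (mapF G₁ F) (mapK G₂ K) B' (.up ℤ) p q n h ≫ mapBifunctorCompF B B' G₁ G₂ G₃ H₂ e F K n =
      (e (F.X p) (K.X q)).inv ≫ G₃.map (ιMapBifunctor F (mapH H₂ K) B (.up ℤ) p q n h) :=
  ι_mapBifunctorDesc _ p q h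

instance isIso_mapBifunctorCompF (n : ℤ) : IsIso (mapBifunctorCompF B B' G₁ G₂ G₃ H₂ e F K n) := by
  let hc := isColimitOfPreserves G₃
    (GradedObject.isColimitCofanMapObj
      (((B.mapBifunctorHomologicalComplex (.up ℤ) (.up ℤ)).obj F).obj (mapH H₂ K)).toGradedObject
      (ComplexShape.π (.up ℤ) (.up ℤ) (.up ℤ)) n)
  refine ⟨hc.desc ⟨(mapBifunctor (mapF G₁ F) (mapK G₂ K) B' (ComplexShape.up ℤ)).X n,
    Discrete.natTrans fun i => (e (F.X i.as.1.1) (K.X i.as.1.2)).hom ≫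
      ιMapBifunctor (mapF G₁ F) (mapK G₂ K) B' (.up ℤ) i.as.1.1 i.as.1.2 n i.as.2⟩, ?_, ?_⟩
  · apply mapBifunctor.hom_ext
    intro p q h
    refine ((Category.assoc _ _ _).symm.trans ((congrArg (· ≫ hc.desc _)
      (ι_mapBifunctorCompF B B' G₁ G₂ G₃ H₂ e F K p q n h)).trans (Category.assoc _ _ _))).trans ?_
    refine ((congrArg ((e (F.X p) (K.X q)).inv ≫ ·) (hc.fac _ ⟨⟨(p, q), h⟩⟩)).trans ?_).trans
      (Category.comp_id _).symm
    exact (e (F.X p) (K.X q)).inv_hom_id_assoc _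
  · refine hc.hom_ext fun i => ?_
    refine Eq.trans ?_ (Category.comp_id _).symm
    refine ((Category.assoc _ _ _).symm.trans
      (congrArg (· ≫ mapBifunctorCompF B B' G₁ G₂ G₃ H₂ e F K n) (hc.fac _ i))).trans ?_
    refine (Category.assoc _ _ _).trans ((congrArg ((e _ _).hom ≫ ·)
      (ι_mapBifunctorCompF B B' G₁ G₂ G₃ H₂ e F K i.as.1.1 i.as.1.2 n i.as.2)).trans
        ((e _ _).hom_inv_id_assoc _))

include el er in
/-- `G₃` commutes with the total complex. -/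
noncomputable def mapBifunctorCompIso :
    mapBifunctor (mapF G₁ F) (mapK G₂ K) B' (ComplexShape.up ℤ) ≅
      (G₃.mapHomologicalComplex (ComplexShape.up ℤ)).obj (mapBifunctor F (mapH H₂ K) B (ComplexShape.up ℤ)) :=
  HomologicalComplex.Hom.isoOfComponents
    (fun n => @asIso _ _ _ _ (mapBifunctorCompF B B' G₁ G₂ G₃ H₂ e F K n)
      (isIso_mapBifunctorCompF B B' G₁ G₂ G₃ H₂ e F K n))
    (fun n m hnm => by
    obtain rfl : n + 1 = m := hnm
    apply mapBifunctor.hom_ext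
    intro p q h
    refine ((Category.assoc _ _ _).symm.trans ((congrArg
      (· ≫ G₃.map ((mapBifunctor F (mapH H₂ K) B (.up ℤ)).d n (n + 1)))
      (ι_mapBifunctorCompF B B' G₁ G₂ G₃ H₂ e F K p q n h)).trans ((Category.assoc _ _ _).trans
        (congrArg ((e (F.X p) (K.X q)).inv ≫ ·) (G₃.map_comp _ _).symm)))).trans ?_
    show (e (F.X p) (K.X q)).inv ≫ G₃.map (ιMapBifunctor F (mapH H₂ K) B _ p q n h ≫
        (mapBifunctor F (mapH H₂ K) B (.up ℤ)).d n (n + 1)) =
      ιMapBifunctor (mapF G₁ F) (mapK G₂ K) B' _ p q n h ≫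
        (mapBifunctor (mapF G₁ F) (mapK G₂ K) B' (.up ℤ)).d n (n + 1) ≫
          mapBifunctorCompF B B' G₁ G₂ G₃ H₂ e F K (n + 1)
    have hn : p + q = n := h
    rw [mapBifunctor.d_eq, mapBifunctor.d_eq, Preadditive.add_comp, Preadditive.comp_add,
      Preadditive.comp_add, mapBifunctor.ι_D₁, mapBifunctor.ι_D₂, mapBifunctor.ι_D₁_assoc,
      mapBifunctor.ι_D₂_assoc,
      mapBifunctor.d₁_eq F (mapH H₂ K) B (.up ℤ) (show (ComplexShape.up ℤ).Rel p (p + 1) from rfl) q _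
        (show p + 1 + q = n + 1 by omega),
      mapBifunctor.d₂_eq F (mapH H₂ K) B (.up ℤ) p (show (ComplexShape.up ℤ).Rel q (q + 1) from rfl) _
        (show p + (q + 1) = n + 1 by omega),
      mapBifunctor.d₁_eq (mapF G₁ F) (mapK G₂ K) B' (.up ℤ)
        (show (ComplexShape.up ℤ).Rel p (p + 1) from rfl) q _ (show p + 1 + q = n + 1 by omega),
      mapBifunctor.d₂_eq (mapF G₁ F) (mapK G₂ K) B' (.up ℤ) p
        (show (ComplexShape.up ℤ).Rel q (q + 1) from rfl) _ (show p + (q + 1) = n + 1 by omega)]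
    simp only [Functor.map_add, Functor.map_units_smul, Preadditive.comp_add, Linear.comp_units_smul,
      Linear.units_smul_comp, Category.assoc, ι_mapBifunctorCompF, Functor.map_comp]
    congr 2
    · refine (Category.assoc _ _ _).symm.trans (Eq.trans ?_ (Category.assoc _ _ _))
      refine congrArg (· ≫ _) ?_
      rw [Iso.eq_comp_inv, Category.assoc, Iso.inv_comp_eq]
      exact el (F.d p (p + 1)) (K.X q)
    · refine (Category.assoc _ _ _).symm.trans (Eq.trans ?_ (Category.assoc _ _ _))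
      refine congrArg (· ≫ _) ?_
      rw [Iso.eq_comp_inv, Category.assoc, Iso.inv_comp_eq]
      exact er (F.X p) (K.d q (q + 1)))

end Groth.Agent.DerCat
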