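import Groth.Agent.DerCat.LeftDeriv
import Mathlib.Algebra.Homology.DerivedCategory.Basic
import Mathlib.CategoryTheory.Functor.Derived.LeftDerived

/-!
Left derived functors of a functor on cochain complexes which identifies homotopic maps, computed in the
homotopy category from enough acyclic objects.
-/

universe w v v'' u u''

open CategoryTheory Limits HomologicalComplex

namespace Groth.Agent.DerCat.LeftDerivHomotopy

variable {C : Type u} [Category.{v} C] [Abelian C] [HasDerivedCategory.{w} C]
  {H : Type u''} [Category.{v''} H] (F : CochainComplex C ℤ ⥤ H)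
  (hF : ∀ ⦃K L : CochainComplex C ℤ⦄ (f g : K ⟶ L), Homotopy f g → F.map f = F.map g)

/-- The functor induced on the homotopy category. -/
def Fh : HomotopyCategory C (ComplexShape.up ℤ) ⥤ H :=
  CategoryTheory.Quotient.lift _ F (fun _ _ f g ⟨h⟩ => hF f g h)

set_option quotPrecheck false
local notation "qh" => HomotopyCategory.quotient C (ComplexShape.up ℤ)
local notation "qisH" => HomotopyCategory.quasiIso C (ComplexShape.up ℤ)
local notation "qisC" => HomologicalComplex.quasiIso C (ComplexShape.up ℤ)

variable [hd : (Fh F hF).HasLeftDerivedFunctor (HomotopyCategory.quasiIso C (ComplexShape.up ℤ))]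

/-- The derived functor of the induced functor. -/
noncomputable abbrev G : DerivedCategory C ⥤ H := (Fh F hF).totalLeftDerived DerivedCategory.Qh qisH

/-- Its counit, on complexes. -/
noncomputable def α : DerivedCategory.Q ⋙ G F hF ⟶ F where
  app X := (G F hF).map ((DerivedCategory.quotientCompQhIso C).inv.app X) ≫
    ((Fh F hF).totalLeftDerivedCounit DerivedCategory.Qh qisH).app ((qh).obj X)
  naturality X Y f := by
    have h1 := (DerivedCategory.quotientCompQhIso C).inv.naturality f
    have h2 := ((Fh F hF).totalLeftDerivedCounit DerivedCategory.Qh qisH).naturality ((qh).map f)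
    simp only [Functor.comp_map] at h1 h2 ⊢
    refine (Category.assoc _ _ _).symm.trans ((congrArg (· ≫ _) (((G F hF).map_comp _ _).symm.trans
      ((congrArg (G F hF).map h1).trans ((G F hF).map_comp _ _)))).trans ?_)
    exact (Category.assoc _ _ _).trans ((congrArg ((G F hF).map _ ≫ ·) h2).trans (Category.assoc _ _ _).symm)

lemma α_app (X : CochainComplex C ℤ) : (α F hF).app X =
    (G F hF).map ((DerivedCategory.quotientCompQhIso C).inv.app X) ≫
      ((Fh F hF).totalLeftDerivedCounit DerivedCategory.Qh qisH).app ((qh).obj X) := rfl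

/-- A natural transformation to `F` on complexes, moved to the homotopy category. -/
noncomputable def β {G' : DerivedCategory C ⥤ H} (b : DerivedCategory.Q ⋙ G' ⟶ F) :
    DerivedCategory.Qh ⋙ G' ⟶ Fh F hF :=
  CategoryTheory.Quotient.natTransLift _
    { app := fun X => G'.map ((DerivedCategory.quotientCompQhIso C).hom.app X) ≫ b.app X
      naturality := fun X Y f => by
        have h1 := (DerivedCategory.quotientCompQhIso C).hom.naturality f
        have h2 := b.naturality f
        simp only [Functor.comp_map] at h1 h2 ⊢
        show G'.map (DerivedCategory.Qh.map ((qh).map f)) ≫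
          G'.map ((DerivedCategory.quotientCompQhIso C).hom.app Y) ≫ b.app Y = _
        refine (Category.assoc _ _ _).symm.trans ((congrArg (· ≫ _) ((G'.map_comp _ _).symm.trans
          ((congrArg G'.map h1).trans (G'.map_comp _ _)))).trans ?_)
        exact (Category.assoc _ _ _).trans ((congrArg (G'.map _ ≫ ·) h2).trans (Category.assoc _ _ _).symm) }

/-- The lift to the derived functor. -/
noncomputable def lift {G' : DerivedCategory C ⥤ H} (b : DerivedCategory.Q ⋙ G' ⟶ F) : G' ⟶ G F hF :=
  (G F hF).leftDerivedLift ((Fh F hF).totalLeftDerivedCounit DerivedCategory.Qh qisH) qisH G' (β F hF b)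

lemma lift_fac {G' : DerivedCategory C ⥤ H} (b : DerivedCategory.Q ⋙ G' ⟶ F) (X : CochainComplex C ℤ) :
    (lift F hF b).app (DerivedCategory.Q.obj X) ≫ (α F hF).app X = b.app X := by
  have h : (lift F hF b).app (DerivedCategory.Qh.obj ((qh).obj X)) ≫
      ((Fh F hF).totalLeftDerivedCounit DerivedCategory.Qh qisH).app ((qh).obj X) =
        G'.map ((DerivedCategory.quotientCompQhIso C).hom.app X) ≫ b.app X :=
    (G F hF).leftDerived_fac_app _ qisH G' (β F hF b) ((qh).obj X)
  rw [α_app]
  refine (Category.assoc _ _ _).symm.trans ((congrArg (· ≫ _)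
    ((lift F hF b).naturality ((DerivedCategory.quotientCompQhIso C).inv.app X)).symm).trans ?_)
  refine (Category.assoc _ _ _).trans ((congrArg (G'.map _ ≫ ·) h).trans ?_)
  refine (Category.assoc _ _ _).symm.trans ((congrArg (· ≫ b.app X) ?_).trans (Category.id_comp _))
  exact (G'.map_comp _ _).symm.trans ((congrArg G'.map
    ((DerivedCategory.quotientCompQhIso C).inv_hom_id_app X)).trans (G'.map_id _))

lemma hom_ext {G' : DerivedCategory C ⥤ H} {γ₁ γ₂ : G' ⟶ G F hF}
    (h : ∀ X, γ₁.app (DerivedCategory.Q.obj X) ≫ (α F hF).app X =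
      γ₂.app (DerivedCategory.Q.obj X) ≫ (α F hF).app X) : γ₁ = γ₂ := by
  refine (G F hF).leftDerived_ext ((Fh F hF).totalLeftDerivedCounit DerivedCategory.Qh qisH) qisH _ _ _
    (NatTrans.ext (funext fun ⟨X⟩ => ?_))
  have h' : ∀ γ : G' ⟶ G F hF,
      γ.app (DerivedCategory.Qh.obj ((qh).obj X)) ≫
          ((Fh F hF).totalLeftDerivedCounit DerivedCategory.Qh qisH).app ((qh).obj X) =
        G'.map ((DerivedCategory.quotientCompQhIso C).hom.app X) ≫
          γ.app (DerivedCategory.Q.obj X) ≫ (α F hF).app X := fun γ => by
    rw [α_app]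
    refine Eq.symm ((congrArg (G'.map _ ≫ ·) ((Category.assoc _ _ _).symm.trans (congrArg (· ≫ _)
      (γ.naturality ((DerivedCategory.quotientCompQhIso C).inv.app X)).symm))).trans ?_)
    refine (congrArg (G'.map _ ≫ ·) (Category.assoc _ _ _)).trans ((Category.assoc _ _ _).symm.trans ?_)
    refine (congrArg (· ≫ _) ?_).trans (Category.id_comp _)
    exact (G'.map_comp _ _).symm.trans ((congrArg G'.map
      ((DerivedCategory.quotientCompQhIso C).hom_inv_id_app X)).trans (G'.map_id _))
  exact (h' γ₁).trans ((congrArg (G'.map _ ≫ ·) (h X)).trans (h' γ₂).symm)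

instance isLeftDerivedFunctor : (G F hF).IsLeftDerivedFunctor (α F hF) qisC where
  isRightKanExtension :=
    ⟨⟨IsTerminal.ofUniqueHom
      (fun E => CostructuredArrow.homMk (lift F hF E.hom)
        (NatTrans.ext (funext fun X => lift_fac F hF E.hom X)))
      (fun E m => CostructuredArrow.hom_ext _ _ (hom_ext F hF fun X =>
        (congr_app (CostructuredArrow.w m) X).trans (lift_fac F hF E.hom X).symm))⟩⟩

include hF in
theorem hasLeftDerivedFunctor : F.HasLeftDerivedFunctor qisC :=
  Functor.HasLeftDerivedFunctor.mk' (W := qisC) (G F hF) (α F hF)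

variable [hd' : F.HasLeftDerivedFunctor (HomologicalComplex.quasiIso C (ComplexShape.up ℤ))]

/-- The comparison of the two derived functors. -/
noncomputable def comparison : G F hF ≅ F.totalLeftDerived DerivedCategory.Q qisC :=
  Functor.leftDerivedUnique (F.totalLeftDerived DerivedCategory.Q qisC) (G F hF)
    (α F hF) (F.totalLeftDerivedCounit DerivedCategory.Q qisC) qisC

include hF in
/-- The counit is invertible where the counit in the homotopy category is. -/
theorem isIso_counit_app (X : CochainComplex C ℤ)
    (h : IsIso (((Fh F hF).totalLeftDerivedCounit DerivedCategory.Qh qisH).app ((qh).obj X))) :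
    IsIso ((F.totalLeftDerivedCounit DerivedCategory.Q qisC).app X) := by
  haveI : IsIso ((α F hF).app X) := by
    rw [α_app]
    exact @IsIso.comp_isIso _ _ _ _ _ _ _ (Functor.map_isIso _ _) h
  have e : (comparison F hF).hom.app (DerivedCategory.Q.obj X) ≫
      (F.totalLeftDerivedCounit DerivedCategory.Q qisC).app X = (α F hF).app X := by
    simp [comparison]
  exact IsIso.of_isIso_fac_left e

end Groth.Agent.DerCat.LeftDerivHomotopy
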