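import Mathlib.CategoryTheory.Triangulated.Pretriangulated
import Mathlib.CategoryTheory.Triangulated.HomologicalFunctor
import Mathlib.CategoryTheory.Triangulated.Opposite.Pretriangulated
import Mathlib.CategoryTheory.Triangulated.Opposite.Triangulated
import Mathlib.CategoryTheory.Limits.Preserves.Shapes.Products
import Mathlib.CategoryTheory.Limits.Shapes.Opposites.Products
import Mathlib.Algebra.Category.Grp.Limits
import Mathlib.Algebra.Homology.ShortComplex.Ab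

/-!
Brown representability for perfectly generated triangulated categories.
-/

set_option backward.isDefEq.respectTransparency false
set_option backward.defeqAttrib.useBackward true

universe v u

open CategoryTheory Limits Opposite Pretriangulated Pretriangulated.Opposite

namespace Groth.Agent.DerCat.Brown

variable {D : Type u} [Category.{v} D] [Preadditive D] [HasZeroObject D] [HasShift D ℤ]
  [∀ n : ℤ, (shiftFunctor D n).Additive] [Pretriangulated D] [IsTriangulated D]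
  [HasCoproducts.{v} D] [HasColimitsOfShape (Discrete ℕ) D]
  (H : Dᵒᵖ ⥤ AddCommGrpCat.{v}) [H.IsHomological]

/-- The map attached to an element of a contravariant functor. -/
def ev {Z : D} (z : H.obj (op Z)) {W : D} (f : W ⟶ Z) : H.obj (op W) := H.map f.op z

lemma ev_comp {Z W V : D} (z : H.obj (op Z)) (f : W ⟶ V) (g : V ⟶ Z) :
    ev H z (f ≫ g) = ev H (ev H z g) f := by simp [ev]

lemma ev_id {Z : D} (z : H.obj (op Z)) : ev H z (𝟙 Z) = z := by simp [ev]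

lemma ev_sub {Z W : D} (z : H.obj (op Z)) (f g : W ⟶ Z) :
    ev H z (f - g) = ev H z f - ev H z g := by
  haveI : H.Additive := inferInstance
  simp [ev, Functor.map_sub]

lemma ev_add {Z W : D} (z : H.obj (op Z)) (f g : W ⟶ Z) :
    ev H z (f + g) = ev H z f + ev H z g := by
  haveI : H.Additive := inferInstance
  simp [ev, Functor.map_add]

lemma ev_zero {Z W : D} (z : H.obj (op Z)) : ev H z (0 : W ⟶ Z) = 0 := by
  haveI : H.Additive := inferInstance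
  simp [ev]

lemma exists_lift_element (T : Triangle D) (hT : T ∈ distTriang D) (x : H.obj (op T.obj₂))
    (hx : ev H x T.mor₁ = 0) : ∃ y : H.obj (op T.obj₃), ev H y T.mor₂ = x := by
  have h := H.map_distinguished_exact _ (op_distinguished T hT)
  rw [ShortComplex.ab_exact_iff] at h
  exact h x hx

variable [∀ (κ : Type v), PreservesLimitsOfShape (Discrete κ) H]

lemma preservesProducts_nat : PreservesLimitsOfShape (Discrete ℕ) H :=
  preservesLimitsOfShape_of_equiv (Discrete.equivalence (Equiv.ulift.{v} (α := ℕ))) H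

section

variable {κ : Type*} [PreservesLimitsOfShape (Discrete κ) H] (Z : κ → D) [HasCoproduct Z]

/-- The limit fan of the elements on a coproduct. -/
noncomputable def fanIsLimit :
    IsLimit ((H ⋙ forget AddCommGrpCat.{v}).mapCone
      (Fan.mk (op (∐ Z)) (fun k ↦ (Sigma.ι Z k).op))) :=
  haveI : PreservesLimitsOfShape (Discrete κ) (H ⋙ forget AddCommGrpCat.{v}) := inferInstance
  isLimitOfPreserves _ (Cofan.IsColimit.op (coproductIsCoproduct Z))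

lemma element_ext {a b : H.obj (op (∐ Z))} (h : ∀ k, ev H a (Sigma.ι Z k) = ev H b (Sigma.ι Z k)) :
    a = b :=
  (Types.isLimitEquivSections (fanIsLimit H Z)).injective (Subtype.ext (funext fun ⟨k⟩ ↦ h k))

lemma exists_element (z : ∀ k, H.obj (op (Z k))) :
    ∃ a : H.obj (op (∐ Z)), ∀ k, ev H a (Sigma.ι Z k) = z k := by
  let s : Cone ((Discrete.functor fun k ↦ op (Z k)) ⋙ H ⋙ forget AddCommGrpCat.{v}) :=
    { pt := PUnit
      π := Discrete.natTrans fun k ↦ TypeCat.ofHom (fun _ ↦ z k.as) }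
  refine ⟨(fanIsLimit H Z).lift s PUnit.unit, fun k ↦ ?_⟩
  exact ConcreteCategory.congr_hom ((fanIsLimit H Z).fac s ⟨k⟩) PUnit.unit

end

variable {ι : Type v} (E : ι → D)

/-- An element which detects all values on the family. -/
def SurjOn {Z : D} (z : H.obj (op Z)) : Prop :=
  ∀ i (e : H.obj (op (E i))), ∃ f : E i ⟶ Z, ev H z f = e

/-- An element representing the functor on the family. -/
def BijOn {Z : D} (z : H.obj (op Z)) : Prop :=
  SurjOn H E z ∧ ∀ i (f : E i ⟶ Z), ev H z f = 0 → f = 0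

lemma exists_step {Z : D} (z : H.obj (op Z)) :
    ∃ (Z' : D) (t : Z ⟶ Z') (z' : H.obj (op Z')), ev H z' t = z ∧
      ∀ i (f : E i ⟶ Z), ev H z f = 0 → f ≫ t = 0 := by
  let J := Σ i, { f : E i ⟶ Z // ev H z f = 0 }
  let a : (∐ fun p : J ↦ E p.1) ⟶ Z := Sigma.desc fun p ↦ p.2.1
  obtain ⟨Z', t, w, hT⟩ := distinguished_cocone_triangle a
  have h0 : ev H z a = 0 := element_ext H _ fun p ↦ by
    rw [← ev_comp, Sigma.ι_desc, p.2.2]
    simp [ev]
  obtain ⟨z', hz'⟩ := exists_lift_element H _ hT z h0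
  refine ⟨Z', t, z', hz', fun i f hf ↦ ?_⟩
  have h1 : a ≫ t = 0 := comp_distTriang_mor_zero₁₂ _ hT
  have h2 := Sigma.ι (fun p : J ↦ E p.1) ⟨i, f, hf⟩ ≫= h1
  simpa [a] using h2

/-- The stages of the construction. -/
noncomputable def stage (Z₀ : D) (z₀ : H.obj (op Z₀)) : ℕ → Σ Z : D, H.obj (op Z)
  | 0 => ⟨Z₀, z₀⟩
  | n + 1 =>
    let h := exists_step H E (stage Z₀ z₀ n).2
    ⟨h.choose, h.choose_spec.choose_spec.choose⟩

variable (hE : ∀ i (k : ℤ), ∃ i', Nonempty (E i' ≅ (E i)⟦k⟧))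
  (hperf : ∀ (X : ℕ → D) (i : ι) (α : E i ⟶ ∐ X), ∃ (j : ℕ → ι) (β : ∀ n, E (j n) ⟶ X n)
    (γ : E i ⟶ ∐ (fun n ↦ E (j n))), α = γ ≫ Limits.Sigma.map β)

include hE hperf in
/-- Every element detecting the family extends to an element representing on the family. -/
lemma exists_bijOn {Z₀ : D} (z₀ : H.obj (op Z₀)) (h₀ : SurjOn H E z₀) :
    ∃ (X : D) (c : Z₀ ⟶ X) (u : H.obj (op X)), ev H u c = z₀ ∧ BijOn H E u := by
  haveI := preservesProducts_nat H
  let Zs : ℕ → D := fun n ↦ (stage H E Z₀ z₀ n).1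
  let z : ∀ n, H.obj (op (Zs n)) := fun n ↦ (stage H E Z₀ z₀ n).2
  let t : ∀ n, Zs n ⟶ Zs (n + 1) := fun n ↦
    (exists_step H E (z n)).choose_spec.choose
  have hz : ∀ n, ev H (z (n + 1)) (t n) = z n := fun n ↦
    (exists_step H E (z n)).choose_spec.choose_spec.choose_spec.1
  have hkill : ∀ n i (f : E i ⟶ Zs n), ev H (z n) f = 0 → f ≫ t n = 0 := fun n ↦
    (exists_step H E (z n)).choose_spec.choose_spec.choose_spec.2
  let p : ∀ n, Zs 0 ⟶ Zs n := fun n ↦ Nat.rec (𝟙 _) (fun n g ↦ g ≫ t n) n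
  let q : ∀ n, Zs 1 ⟶ Zs (n + 1) := fun n ↦ Nat.rec (𝟙 _) (fun n g ↦ g ≫ t (n + 1)) n
  have hpq : ∀ n, p (n + 1) = t 0 ≫ q n := by
    intro n
    induction n with
    | zero => simp [p, q]
    | succ n ih =>
      change p (n + 1) ≫ t (n + 1) = t 0 ≫ q n ≫ t (n + 1)
      rw [ih, Category.assoc]
  have hp : ∀ n, ev H (z n) (p n) = z 0 := by
    intro n
    induction n with
    | zero => exact ev_id H _
    | succ n ih =>
      change ev H (z (n + 1)) (p n ≫ t n) = z 0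
      rw [ev_comp, hz, ih]
  let S : ∀ {W : D}, (∐ fun _ : ℕ ↦ W) ⟶ ∐ fun _ : ℕ ↦ W := fun {W} ↦
    Sigma.desc fun n ↦ Sigma.ι (fun _ : ℕ ↦ W) (n + 1)
  let s : ∐ Zs ⟶ ∐ Zs := Sigma.desc fun n ↦ t n ≫ Sigma.ι Zs (n + 1)
  let T₁ : (∐ fun _ : ℕ ↦ Zs 0) ⟶ ∐ fun _ : ℕ ↦ Zs 1 := Limits.Sigma.map fun _ ↦ t 0
  let T' : (∐ fun _ : ℕ ↦ Zs 0) ⟶ ∐ Zs := Sigma.desc fun n ↦ p (n + 1) ≫ Sigma.ι Zs (n + 1)
  let T'' : (∐ fun _ : ℕ ↦ Zs 1) ⟶ ∐ Zs := Sigma.desc fun n ↦ q n ≫ Sigma.ι Zs (n + 1)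
  have hT' : T' = T₁ ≫ T'' := Sigma.hom_ext _ _ fun n ↦ by simp [T', T₁, T'', hpq]
  have hA : ∀ i (α : E i ⟶ ∐ Zs), ∃ ω : E i ⟶ ∐ fun _ : ℕ ↦ Zs 0, α ≫ s = ω ≫ T' := by
    intro i α
    obtain ⟨j, β, γ, rfl⟩ := hperf Zs i α
    choose b hb using fun n ↦ h₀ (j n) (ev H (z n) (β n))
    have hd : ∀ n, β n ≫ t n = (b n : E (j n) ⟶ Zs 0) ≫ p (n + 1) := fun n ↦ by
      have h1 : ev H (z n) (β n - (b n : E (j n) ⟶ Zs 0) ≫ p n) = 0 := by
        rw [ev_sub, ev_comp, hp, sub_eq_zero]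
        exact (hb n).symm
      have h2 := hkill n _ _ h1
      rw [Preadditive.sub_comp, sub_eq_zero, Category.assoc] at h2
      exact h2
    refine ⟨γ ≫ Limits.Sigma.map fun n ↦ (b n : E (j n) ⟶ Zs 0), ?_⟩
    rw [Category.assoc, Category.assoc]
    refine congrArg (γ ≫ ·) (Sigma.hom_ext _ _ fun n ↦ ?_)
    simp [s, T', reassoc_of% hd]
  have hB : ∀ i (ω : E i ⟶ ∐ fun _ : ℕ ↦ Zs 0), ω ≫ T' = 0 → ω ≫ T₁ = 0 := by
    intro i ω hω
    let r : ∐ Zs ⟶ ∐ fun n ↦ Zs (n + 1) := Sigma.desc fun n ↦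
      match n with
      | 0 => 0
      | m + 1 => Sigma.ι (fun n ↦ Zs (n + 1)) m
    let Tm : (∐ fun _ : ℕ ↦ Zs 0) ⟶ ∐ fun n ↦ Zs (n + 1) := Limits.Sigma.map fun n ↦ p (n + 1)
    have hr : T' ≫ r = Tm := Sigma.hom_ext _ _ fun n ↦ by simp [T', r, Tm]
    have hω' : ω ≫ Tm = 0 := by rw [← hr, reassoc_of% hω, zero_comp]
    choose F a δ' hF using fun n ↦ distinguished_cocone_triangle₁ (p (n + 1))
    obtain ⟨C, π, δC, hC⟩ := distinguished_cocone_triangle (Limits.Sigma.map a)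
    have hρ : ∀ n, ∃ ρ : Zs (n + 1) ⟶ C,
        Sigma.ι (fun _ : ℕ ↦ Zs 0) n ≫ π = p (n + 1) ≫ ρ := fun n ↦ by
      refine Triangle.yoneda_exact₂ _ (hF n) (Sigma.ι (fun _ : ℕ ↦ Zs 0) n ≫ π) ?_
      have h1 : Limits.Sigma.map a ≫ π = 0 := comp_distTriang_mor_zero₁₂ _ hC
      have h2 := Sigma.ι F n ≫= h1
      simpa using h2
    choose ρ hρ using hρ
    have hπ : ω ≫ π = 0 := by
      have h3 : π = Tm ≫ Sigma.desc ρ := Sigma.hom_ext _ _ fun n ↦ by simp [Tm, hρ]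
      rw [h3, reassoc_of% hω', zero_comp]
    obtain ⟨ω', rfl⟩ := Triangle.coyoneda_exact₂ _ hC ω hπ
    obtain ⟨j, β, γ, rfl⟩ := hperf F i ω'
    have hd : ∀ n, β n ≫ a n ≫ t 0 = 0 := fun n ↦ by
      have h1 : (β n ≫ a n) ≫ t 0 = 0 := hkill 0 _ _ (by
        rw [← hp (n + 1), ← ev_comp, Category.assoc,
          show a n ≫ p (n + 1) = 0 from comp_distTriang_mor_zero₁₂ _ (hF n), comp_zero, ev_zero])
      simpa using h1
    change ((γ ≫ Limits.Sigma.map β) ≫ Limits.Sigma.map a) ≫ T₁ = 0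
    rw [Category.assoc, Category.assoc]
    refine (congrArg (γ ≫ ·) (Sigma.hom_ext _ (0 : _ ⟶ _) fun n ↦ ?_)).trans comp_zero
    simp [T₁, reassoc_of% (hd n)]
  have hC : T' ≫ (𝟙 _ - s) = (𝟙 _ - S) ≫ T' := Sigma.hom_ext _ _ fun n ↦ by
    simp [T', s, S, p, Preadditive.comp_sub, Preadditive.sub_comp]
  have hker : ∀ i (α : E i ⟶ ∐ Zs), α ≫ (𝟙 _ - s) = 0 → α = 0 := by
    intro i α hα
    have hαs : α ≫ s = α := by
      rw [Preadditive.comp_sub, Category.comp_id, sub_eq_zero] at hα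
      exact hα.symm
    obtain ⟨ω, hω⟩ := hA i α
    rw [hαs] at hω
    have h1 := hB i (ω ≫ (𝟙 _ - S)) (by
      rw [Category.assoc, ← hC, ← Category.assoc, ← hω, hα])
    let r : (∐ fun _ : ℕ ↦ Zs 1) ⟶ ∐ fun _ : ℕ ↦ Zs 1 := Sigma.desc fun n ↦
      -(∑ k ∈ Finset.range n, Sigma.ι (fun _ : ℕ ↦ Zs 1) k)
    have hr : (𝟙 _ - S) ≫ r = 𝟙 _ := Sigma.hom_ext _ _ fun n ↦ by
      simp [S, r, Preadditive.comp_sub, Preadditive.sub_comp, Finset.sum_range_succ]
    have hcomm : (𝟙 _ - S) ≫ T₁ = T₁ ≫ (𝟙 _ - S) := Sigma.hom_ext _ _ fun n ↦ by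
      simp [S, T₁, Preadditive.comp_sub, Preadditive.sub_comp]
    have h2 : ω ≫ T₁ = 0 := by
      rw [← Category.comp_id T₁, ← hr, ← Category.assoc T₁, ← hcomm, ← Category.assoc,
        ← Category.assoc, h1, zero_comp]
    rw [hω, hT', reassoc_of% h2, zero_comp]
  obtain ⟨X, c, δX, hX⟩ := distinguished_cocone_triangle (𝟙 (∐ Zs) - s)
  have hsc : s ≫ c = c := by
    have h1 : (𝟙 (∐ Zs) - s) ≫ c = 0 := comp_distTriang_mor_zero₁₂ _ hX
    rw [Preadditive.sub_comp, Category.id_comp, sub_eq_zero] at h1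
    exact h1.symm
  obtain ⟨w, hw⟩ := exists_element H Zs z
  have hw0 : ev H w (𝟙 (∐ Zs) - s) = 0 := element_ext H Zs fun n ↦ by
    rw [← ev_comp, Preadditive.comp_sub, Category.comp_id, Sigma.ι_desc, ev_sub, hw, ev_comp, hw,
      hz, sub_self]
    simp [ev]
  obtain ⟨u, hu⟩ := exists_lift_element H _ hX w hw0
  let c₀ : Zs 0 ⟶ X := Sigma.ι Zs 0 ≫ c
  have hpc : ∀ n, p n ≫ Sigma.ι Zs n ≫ c = c₀ := by
    intro n
    induction n with
    | zero => exact Category.id_comp _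
    | succ n ih =>
      rw [← ih]
      conv_rhs => rw [← hsc, ← Category.assoc (Sigma.ι Zs n), Sigma.ι_desc, Category.assoc]
      change (p n ≫ t n) ≫ _ = _
      rw [Category.assoc]
  have hu₀ : ev H u c₀ = z₀ := by
    rw [ev_comp]
    refine Eq.trans (congrArg (fun x ↦ ev H x (Sigma.ι Zs 0)) hu) ?_
    exact hw 0
  refine ⟨X, c₀, u, hu₀, fun i e ↦ ?_, fun i f hf ↦ ?_⟩
  · obtain ⟨g, hg⟩ := h₀ i e
    exact ⟨g ≫ c₀, by rw [ev_comp, hu₀]; exact hg⟩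
  have hδ : f ≫ δX = 0 := by
    obtain ⟨i', ⟨e⟩⟩ := hE i (-1)
    have h1 : (f ≫ δX) ≫ (𝟙 (∐ Zs) - s)⟦(1 : ℤ)⟧' = 0 := by
      rw [Category.assoc, show δX ≫ (𝟙 (∐ Zs) - s)⟦(1 : ℤ)⟧' = 0 from
        comp_distTriang_mor_zero₃₁ _ hX, comp_zero]
    let φ := (shiftFunctorCompIsoId D (1 : ℤ) (-1) (by lia)).hom
    have h2 : (e.hom ≫ (f ≫ δX)⟦(-1 : ℤ)⟧' ≫ φ.app (∐ Zs)) ≫ (𝟙 (∐ Zs) - s) = 0 := by
      simp only [Category.assoc]
      have h3 := φ.naturality (𝟙 (∐ Zs) - s)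
      simp only [Functor.comp_map, Functor.id_map] at h3
      rw [← h3, ← Category.assoc ((f ≫ δX)⟦(-1 : ℤ)⟧'), ← Functor.map_comp, h1, Functor.map_zero,
        zero_comp, comp_zero]
    have h4 := hker i' _ h2
    rw [← cancel_epi e.inv, Iso.inv_hom_id_assoc, comp_zero, ← cancel_mono
      ((shiftFunctorCompIsoId D (1 : ℤ) (-1) (by lia)).inv.app (∐ Zs))] at h4
    refine (shiftFunctor D (-1 : ℤ)).map_injective ?_
    simpa [φ] using h4
  obtain ⟨α, rfl⟩ := Triangle.coyoneda_exact₃ _ hX f hδ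
  obtain ⟨ω, hω⟩ := hA i α
  let b : E i ⟶ Zs 0 := ω ≫ Sigma.desc fun _ ↦ 𝟙 _
  have hfb : α ≫ c = b ≫ c₀ := by
    rw [← hsc, reassoc_of% hω]
    refine (congrArg (ω ≫ ·) (Sigma.hom_ext _ ((Sigma.desc fun _ ↦ 𝟙 (Zs 0)) ≫ c₀) fun n ↦ ?_)).trans
      (Category.assoc _ _ _).symm
    simp [T', hpc]
  change α ≫ c = 0
  rw [hfb]
  have hb0 : b ≫ t 0 = 0 := hkill 0 i b (by
    rw [show z 0 = z₀ from rfl, ← hu₀, ← ev_comp, ← hfb]
    exact hf)
  rw [← hpc 1, show p 1 = t 0 from Category.id_comp _, reassoc_of% hb0, zero_comp]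

include hE hperf in
/-- Brown representability. -/
theorem exists_representing
    (hgen : ∀ X : D, (∀ i (f : E i ⟶ X), f = 0) → IsZero X) :
    ∃ (X : D) (u : H.obj (op X)), ∀ Y, Function.Bijective fun f : Y ⟶ X ↦ ev H u f := by
  let J := Σ i, H.obj (op (E i))
  obtain ⟨z₀, hz₀⟩ := exists_element H (fun p : J ↦ E p.1) (fun p ↦ p.2)
  obtain ⟨X, _, u, -, hu⟩ := exists_bijOn H E hE hperf z₀
    (fun i e ↦ ⟨Sigma.ι (fun p : J ↦ E p.1) ⟨i, e⟩, hz₀ ⟨i, e⟩⟩)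
  have hiso : ∀ (X' : D) (φ : X ⟶ X') (u' : H.obj (op X')), ev H u' φ = u → BijOn H E u' →
      IsIso φ := by
    intro X' φ u' hφ hu'
    obtain ⟨C, π, δ, hT⟩ := distinguished_cocone_triangle φ
    refine (Triangle.isZero₃_iff_isIso₁ _ hT).1 (hgen C fun i f ↦ ?_)
    have hshift : ∀ (W : D) (k : E i ≅ W) (g : W ⟶ X), g ≫ φ = 0 → g = 0 := fun W k g hg ↦ by
      have := hu.2 i (k.hom ≫ g) (by
        rw [← hφ, ← ev_comp, Category.assoc, hg, comp_zero, ev_zero])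
      rwa [← cancel_epi k.hom, comp_zero]
    have hδ : f ≫ δ = 0 := by
      obtain ⟨i', ⟨e⟩⟩ := hE i (-1)
      have h1 : (f ≫ δ) ≫ φ⟦(1 : ℤ)⟧' = 0 := by
        rw [Category.assoc, show δ ≫ φ⟦(1 : ℤ)⟧' = 0 from comp_distTriang_mor_zero₃₁ _ hT, comp_zero]
      let θ := (shiftFunctorCompIsoId D (1 : ℤ) (-1) (by lia)).hom
      have h3 := θ.naturality φ
      simp only [Functor.comp_map, Functor.id_map] at h3
      have h4 := hu.2 i' (e.hom ≫ (f ≫ δ)⟦(-1 : ℤ)⟧' ≫ θ.app X) (by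
        rw [← hφ, ← ev_comp]
        simp only [Category.assoc]
        rw [← h3, ← Category.assoc ((f ≫ δ)⟦(-1 : ℤ)⟧'), ← Functor.map_comp, h1, Functor.map_zero,
          zero_comp, comp_zero, ev_zero])
      rw [← cancel_epi e.inv, Iso.inv_hom_id_assoc, comp_zero, ← cancel_mono
        ((shiftFunctorCompIsoId D (1 : ℤ) (-1) (by lia)).inv.app X)] at h4
      refine (shiftFunctor D (-1 : ℤ)).map_injective ?_
      simpa [θ] using h4
    obtain ⟨g, rfl⟩ := Triangle.coyoneda_exact₃ _ hT f hδ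
    change g ≫ π = 0
    obtain ⟨h, hh⟩ := hu.1 i (ev H u' g)
    have h5 : g = h ≫ φ := by
      rw [← sub_eq_zero]
      refine hu'.2 i _ ?_
      rw [ev_sub, ev_comp, hφ, hh, sub_self]
    rw [h5, Category.assoc, show φ ≫ π = 0 from comp_distTriang_mor_zero₁₂ _ hT, comp_zero]
  refine ⟨X, u, fun Y ↦ ⟨?_, ?_⟩⟩
  · suffices key : ∀ f : Y ⟶ X, ev H u f = 0 → f = 0 from fun f g h ↦
      sub_eq_zero.1 (key _ (by rw [ev_sub]; exact sub_eq_zero.2 h))
    intro f hf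
    obtain ⟨C, π, δ, hT⟩ := distinguished_cocone_triangle f
    obtain ⟨y, hy⟩ := exists_lift_element H _ hT u hf
    change ev H y π = u at hy
    obtain ⟨X', c, u', hc, hu'⟩ := exists_bijOn H E hE hperf y (fun i e ↦ by
      obtain ⟨g, hg⟩ := hu.1 i e
      exact ⟨g ≫ π, by rw [ev_comp, hy, hg]⟩)
    haveI := hiso X' (π ≫ c) u' (by rw [ev_comp, hc, hy]) hu'
    rw [← cancel_mono (π ≫ c), zero_comp, ← Category.assoc,
      show f ≫ π = 0 from comp_distTriang_mor_zero₁₂ _ hT, zero_comp]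
  · intro y
    let Z : WalkingPair → D := fun k ↦ match k with | .left => X | .right => Y
    haveI : HasFiniteBiproducts D := HasFiniteBiproducts.of_hasFiniteCoproducts
    let v : H.obj (op (X ⊞ Y)) := ev H u biprod.fst + ev H y biprod.snd
    have hvl : ev H v biprod.inl = u := by
      simp only [v, ev, map_add]
      simp [← ConcreteCategory.comp_apply, ← H.map_comp, ← op_comp]
    have hvr : ev H v biprod.inr = y := by
      simp only [v, ev, map_add]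
      simp [← ConcreteCategory.comp_apply, ← H.map_comp, ← op_comp]
    obtain ⟨X', c, u', hc, hu'⟩ := exists_bijOn H E hE hperf v (fun i e ↦ by
      obtain ⟨g, hg⟩ := hu.1 i e
      exact ⟨g ≫ biprod.inl, by rw [ev_comp, hvl, hg]⟩)
    haveI := hiso X' (biprod.inl ≫ c) u' (by rw [ev_comp, hc, hvl]) hu'
    refine ⟨(biprod.inr ≫ c) ≫ inv (biprod.inl ≫ c), ?_⟩
    have h6 : ev H u (inv (biprod.inl ≫ c)) = u' := by
      have h7 : ev H u' (biprod.inl ≫ c) = u := by rw [ev_comp, hc, hvl]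
      rw [← h7, ← ev_comp, IsIso.inv_hom_id, ev_id]
    change ev H u _ = y
    rw [ev_comp, h6, ev_comp, hc, hvr]

lemma isRepresentable_of_bijective (X : D) (u : H.obj (op X))
    (h : ∀ Y, Function.Bijective fun f : Y ⟶ X ↦ ev H u f) :
    (H ⋙ forget AddCommGrpCat.{v}).IsRepresentable :=
  Functor.RepresentableBy.isRepresentable (Y := X)
    { homEquiv := fun {Y} ↦ Equiv.ofBijective _ (h Y)
      homEquiv_comp := fun f g ↦ ev_comp H u f g }

omit [IsTriangulated D] in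
lemma exists_perfect_shift {ι' : Type v} (E' : ι' → D)
    (h2 : ∀ (X : ℕ → D) (i : ι') (α : E' i ⟶ ∐ X), ∃ (j : ℕ → ι') (β : ∀ n, E' (j n) ⟶ X n)
      (γ : E' i ⟶ ∐ (fun n ↦ E' (j n))), α = γ ≫ Limits.Sigma.map β)
    (X : ℕ → D) (p : ι' × ULift.{v} ℤ) (α : (E' p.1)⟦p.2.down⟧ ⟶ ∐ X) :
    ∃ (j : ℕ → ι' × ULift.{v} ℤ) (β : ∀ n, (E' (j n).1)⟦(j n).2.down⟧ ⟶ X n)
      (γ : (E' p.1)⟦p.2.down⟧ ⟶ ∐ (fun n ↦ (E' (j n).1)⟦(j n).2.down⟧)),
      α = γ ≫ Limits.Sigma.map β := by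
  obtain ⟨i, k⟩ := p
  let F := (shiftEquiv D k.down).functor
  let G := (shiftEquiv D k.down).inverse
  let adj := (shiftEquiv D k.down).toAdjunction
  let c : G.obj (∐ X) ≅ ∐ fun n ↦ G.obj (X n) := PreservesCoproduct.iso G X
  obtain ⟨j, β, γ, hγ⟩ := h2 (fun n ↦ G.obj (X n)) i (adj.homEquiv _ _ α ≫ c.hom)
  let d : F.obj (∐ fun n ↦ E' (j n)) ≅ ∐ fun n ↦ F.obj (E' (j n)) :=
    PreservesCoproduct.iso F _
  refine ⟨fun n ↦ (j n, k), fun n ↦ (adj.homEquiv _ _).symm (β n), F.map γ ≫ d.hom, ?_⟩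
  have h : adj.homEquiv _ _ α = γ ≫ Limits.Sigma.map β ≫ c.inv := by
    rw [← Category.assoc, ← hγ, Category.assoc, Iso.hom_inv_id, Category.comp_id]
  rw [← (adj.homEquiv _ _).symm_apply_apply α, h, adj.homEquiv_counit, Functor.map_comp,
    Category.assoc, Category.assoc]
  refine congrArg (F.map γ ≫ ·) ?_
  rw [← cancel_epi d.inv, Iso.inv_hom_id_assoc]
  refine Sigma.hom_ext _ _ fun n ↦ ?_
  simp only [d, PreservesCoproduct.inv_hom, ι_comp_sigmaComparison_assoc]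
  rw [← F.map_comp_assoc, ← Category.assoc (Sigma.ι (fun n ↦ E' (j n)) n), Sigma.ι_map,
    Category.assoc]
  simp only [c, PreservesCoproduct.inv_hom, ι_comp_sigmaComparison, Sigma.ι_map]
  rw [Functor.map_comp, Category.assoc]
  erw [adj.counit.naturality (Sigma.ι X n)]
  rw [adj.homEquiv_counit]
  simp [F]

end Groth.Agent.DerCat.Brown
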