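import Groth.Agent.DerCat.Brown
import Groth.Prelude.Def_CohDer
import Mathlib.CategoryTheory.Triangulated.Yoneda
import Mathlib.CategoryTheory.Triangulated.Opposite.Functor
import Mathlib.CategoryTheory.Adjunction.Unique
import Mathlib.CategoryTheory.Preadditive.Yoneda.Limits
import Mathlib.CategoryTheory.Limits.Preserves.Opposites

/-!
Brown representability from compact generators.
-/

set_option autoImplicit false

noncomputable section

universe v u

open CategoryTheory Limits Opposite CategoryTheory.Pretriangulated.Opposite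

namespace Groth.Agent.DerCat.Brown

variable {D : Type u} [Category.{v} D] [Preadditive D] [HasCoproducts.{v} D]

omit [HasCoproducts.{v} D] in
lemma hasColimitsOfShape_nat [HasCoproducts.{v} D] : HasColimitsOfShape (Discrete ℕ) D :=
  hasColimitsOfShape_of_equivalence (Discrete.equivalence (Equiv.ulift.{v, 0} : ULift.{v} ℕ ≃ ℕ))

/-- Maps out of a compact object into a countable coproduct factor through finitely many copies. -/
lemma exists_factor_of_compact [HasColimitsOfShape (Discrete ℕ) D] {K : D} (hK : CohDer.IsCompactObject K)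
    (X : ℕ → D) (α : K ⟶ ∐ X) :
    ∃ (β : ∀ n, K ⟶ X n) (γ : K ⟶ ∐ (fun _ : ℕ => K)), α = γ ≫ Limits.Sigma.map β := by
  classical
  let X' : ULift.{v} ℕ → D := fun n => X n.down
  let e : ∐ X ⟶ ∐ X' := Sigma.desc fun n => Sigma.ι X' ⟨n⟩
  let b : ∐ X' ⟶ ∐ X := Sigma.desc fun n => Sigma.ι X n.down
  have heb : e ≫ b = 𝟙 _ := Sigma.hom_ext _ _ fun n => by simp [e, b]
  obtain ⟨d, hd⟩ := (hK _ X').2 (α ≫ e)
  refine ⟨fun n => d ⟨n⟩, ∑ i ∈ DFinsupp.support d, Sigma.ι (fun _ : ℕ => K) i.down, ?_⟩
  have hα : α = CohDer.homSumToHomCoprod K X' d ≫ b := by rw [hd, Category.assoc, heb, Category.comp_id]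
  rw [hα, ← DirectSum.sum_support_of d, map_sum, Preadditive.sum_comp, Preadditive.sum_comp]
  refine Finset.sum_congr (by rw [DirectSum.sum_support_of]) fun i _ => ?_
  rw [Sigma.ι_map]
  simp only [CohDer.homSumToHomCoprod, DirectSum.sum_support_of]
  erw [DirectSum.toAddMonoid_of]
  show (_ ≫ Sigma.ι X' i) ≫ b = _
  rw [Category.assoc, Sigma.ι_desc]

variable [HasZeroObject D] [HasShift D ℤ] [∀ n : ℤ, (shiftFunctor D n).Additive] [Pretriangulated D]
  [IsTriangulated D]

/-- Brown representability for compactly generated categories. -/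
theorem isRepresentable_of_compactlyGenerated (hD : CohDer.IsCompactlyGenerated D)
    (H : Dᵒᵖ ⥤ AddCommGrpCat.{v}) [H.IsHomological]
    [∀ (κ : Type v), PreservesLimitsOfShape (Discrete κ) H] :
    (H ⋙ forget AddCommGrpCat.{v}).IsRepresentable := by
  haveI := hasColimitsOfShape_nat (D := D)
  obtain ⟨ι, E, hc, hg⟩ := hD
  let E' : ι × ULift.{v} ℤ → D := fun p ↦ (E p.1)⟦p.2.down⟧
  obtain ⟨X, u, hu⟩ := exists_representing H E'
    (fun p k ↦ ⟨(p.1, ⟨p.2.down + k⟩), ⟨(shiftFunctorAdd D p.2.down k).app (E p.1)⟩⟩)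
    (fun X p α ↦ exists_perfect_shift E (fun X i α => by
      obtain ⟨β, γ, h⟩ := exists_factor_of_compact (hc i) X α
      exact ⟨fun _ => i, β, γ, h⟩) X p α)
    (fun X hX ↦ hg X fun i n f => by
      have h1 := hX (i, ⟨-n⟩) (f⟦-n⟧' ≫ (shiftFunctorCompIsoId D n (-n) (by omega)).hom.app X)
      rw [← cancel_mono ((shiftFunctorCompIsoId D n (-n) (by omega)).inv.app X), Category.assoc, Iso.hom_inv_id_app,
        zero_comp] at h1
      refine (shiftFunctor D (-n)).map_injective ?_
      rw [Functor.map_zero]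
      exact (Category.comp_id _).symm.trans h1)
  exact isRepresentable_of_bijective H X u hu

variable {D' : Type*} [Category.{v} D'] [Preadditive D'] [HasZeroObject D'] [HasShift D' ℤ]
  [∀ n : ℤ, (shiftFunctor D' n).Additive] [Pretriangulated D']

omit [IsTriangulated D] in
/-- An exact functor commuting with coproducts is a left adjoint when Brown representability holds. -/
theorem isLeftAdjoint_of_representable
    (hrep : ∀ (H : Dᵒᵖ ⥤ AddCommGrpCat.{v}) [H.IsHomological]
      [∀ (κ : Type v), PreservesLimitsOfShape (Discrete κ) H], (H ⋙ forget AddCommGrpCat.{v}).IsRepresentable)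
    (F : D ⥤ D') [F.CommShift ℤ] [F.IsTriangulated]
    [∀ (κ : Type v), PreservesColimitsOfShape (Discrete κ) F] : F.IsLeftAdjoint := by
  have h : ∀ Y : D', ∃ G : D, Nonempty (((F.op ⋙ preadditiveYoneda.obj Y) ⋙ forget AddCommGrpCat.{v}).RepresentableBy G) := by
    intro Y
    haveI : ∀ (κ : Type v), PreservesLimitsOfShape (Discrete κ) F.op := fun κ => by
      haveI : PreservesColimitsOfShape (Discrete κ)ᵒᵖ F :=
        preservesColimitsOfShape_of_equiv (Discrete.opposite κ).symm F
      exact Limits.preservesLimitsOfShape_op _ F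
    have hh := hrep (F.op ⋙ preadditiveYoneda.obj Y)
    exact hh.1
  choose G hG using h
  let R := fun Y => (hG Y).some
  exact (Adjunction.adjunctionOfEquivRight (F := F) (G_obj := G) (fun X Y => ((R Y).homEquiv (X := X)).symm)
    (fun X' X Y f g => by
      apply (R Y).homEquiv.injective
      rw [(R Y).homEquiv_comp]
      exact ((R Y).homEquiv.apply_symm_apply _).trans (congrArg _ ((R Y).homEquiv.apply_symm_apply g)).symm)).isLeftAdjoint

end Groth.Agent.DerCat.Brown
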