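import Groth.Agent.S1076
import Groth.Prelude.Def_CohDer
import Mathlib

/-!
Compact objects as small objects; detection of isomorphisms by generators.
-/

set_option autoImplicit false

noncomputable section

universe w v u u'

open CategoryTheory Limits Opposite CategoryTheory.Pretriangulated

namespace Groth.Agent.DerCat

open Groth.Agent.S1076 (Small idem proj ι_proj_self ι_proj_ne ι_idem small_of_isCompactObject smallProp)

section

variable {D : Type u} [Category.{v} D] [Preadditive D] [HasCoproducts.{v} D]

lemma homSum_proj (K : D) {ι : Type v} (X : ι → D) (d : DirectSum ι (fun i => K ⟶ X i)) (j : ι) :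
    CohDer.homSumToHomCoprod K X d ≫ proj X j = d j := by
  classical
  induction d using DirectSum.induction_on with
  | zero => simp
  | of i a =>
    by_cases h : i = j
    · subst h
      simp [CohDer.homSumToHomCoprod, Preadditive.rightComp, Groth.Agent.S1076.ι_proj_self]
    · simp [CohDer.homSumToHomCoprod, Preadditive.rightComp, Groth.Agent.S1076.ι_proj_ne X h,
        DirectSum.of_eq_of_ne _ _ _ (Ne.symm h)]
  | add a b ha hb => simp [Preadditive.add_comp, ha, hb]

lemma isCompactObject_of_small {K : D} (hK : Small K) : CohDer.IsCompactObject K := by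
  classical
  intro ι X
  refine ⟨fun a b hab => DFunLike.ext _ _ fun j => by rw [← homSum_proj, ← homSum_proj, hab],
    fun f => ?_⟩
  obtain ⟨S, hS⟩ := hK ι X f
  refine ⟨∑ i ∈ S, DirectSum.of (fun i => K ⟶ X i) i (f ≫ proj X i), ?_⟩
  rw [map_sum]
  conv_rhs => rw [← hS, Groth.Agent.S1076.idem, Preadditive.comp_sum]
  refine Finset.sum_congr rfl fun i _ => ?_
  simp [CohDer.homSumToHomCoprod, Preadditive.rightComp]

lemma isCompactObject_iff_small {K : D} : CohDer.IsCompactObject K ↔ Small K :=
  ⟨small_of_isCompactObject, isCompactObject_of_small⟩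

end

section

variable {D : Type u} [Category.{v} D] [Preadditive D] [HasZeroObject D] [HasShift D ℤ]
    [∀ n : ℤ, (shiftFunctor D n).Additive] [Pretriangulated D]

/-- Isomorphisms are detected by a generating family. -/
lemma isIso_of_generates {ι : Type w} {S : ι → D} (hS : CohDer.Generates S) {X Y : D} (f : X ⟶ Y)
    (h : ∀ (i : ι) (n : ℤ), Function.Bijective
      (fun g : S i ⟶ (shiftFunctor D n).obj X => g ≫ (shiftFunctor D n).map f)) : IsIso f := by
  obtain ⟨Z, g, δ, hT⟩ := distinguished_cocone_triangle f
  refine (Triangle.isZero₃_iff_isIso₁ _ hT).1 (hS Z fun i n φ => ?_)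
  let F : D ⥤ AddCommGrpCat := preadditiveCoyoneda.obj (op (S i))
  have hiso : ∀ m : ℤ, IsIso ((F.shift m).map f) := fun m =>
    (ConcreteCategory.isIso_iff_bijective ((F.shift m).map f)).2 (h i m)
  have := hiso n
  have := hiso (n + 1)
  have h2 : (F.shift n).map g = 0 :=
    (F.homologySequence_epi_shift_map_mor₁_iff _ hT n).1 (inferInstanceAs (Epi ((F.shift n).map f)))
  have h3 : F.homologySequenceδ (Triangle.mk f g δ) n (n + 1) rfl = 0 :=
    (F.homologySequence_mono_shift_map_mor₁_iff _ hT n (n + 1) rfl).1
      (inferInstanceAs (Mono ((F.shift (n + 1)).map f)))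
  have h4 : IsZero ((F.shift n).obj Z) :=
    (F.homologySequence_exact₃ _ hT n (n + 1) rfl).isZero_X₂ h2 h3
  exact AddCommGrpCat.subsingleton_of_isZero h4 |>.elim φ 0

end

end Groth.Agent.DerCat
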