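import Groth.Agent.DerCat.KInjProducts
import Mathlib.Algebra.Homology.Functor
import Mathlib.CategoryTheory.Abelian.GrothendieckAxioms.Basic

/-!
Cohomology commutes with coproducts.
-/

universe w v u t

open CategoryTheory Limits HomologicalComplex

set_option backward.isDefEq.respectTransparency false
set_option backward.defeqAttrib.useBackward true

namespace Groth.Agent.DerCat

variable {A : Type u} [Category.{v} A] [Abelian A] {ι : Type t}
  [HasColimitsOfShape (Discrete ι) A] [HasExactColimitsOfShape (Discrete ι) A]

/-- The homology of a coproduct of complexes. -/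
theorem nonempty_homology_sigma (N : ι → CochainComplex A ℤ) (n : ℤ) :
    Nonempty ((∐ N).homology n ≅ ∐ fun i => (N i).homology n) := by
  let D : Discrete ι ⥤ CochainComplex A ℤ := Discrete.functor N
  let N' : HomologicalComplex (Discrete ι ⥤ A) (ComplexShape.up ℤ) :=
    { X := fun m => D ⋙ eval A (ComplexShape.up ℤ) m
      d := fun a b => { app := fun i => (D.obj i).d a b
                        naturality := fun i j f => by
                          obtain rfl : i = j := Discrete.ext (Discrete.eq_of_hom f)
                          simp }
      shape := fun a b h => by ext i; exact (D.obj i).shape a b h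
      d_comp_d' := fun a b c _ _ => by ext i; exact (D.obj i).d_comp_d a b c }
  haveI : (colim : (Discrete ι ⥤ A) ⥤ A).Additive :=
    haveI := preservesBinaryBiproducts_of_preservesBinaryCoproducts (colim : (Discrete ι ⥤ A) ⥤ A)
    Functor.additive_of_preservesBinaryBiproducts _
  haveI : PreservesFiniteLimits (colim : (Discrete ι ⥤ A) ⥤ A) :=
    HasExactColimitsOfShape.preservesFiniteLimits
  haveI : PreservesFiniteColimits (colim : (Discrete ι ⥤ A) ⥤ A) := inferInstance
  let W := ((colim : (Discrete ι ⥤ A) ⥤ A).mapHomologicalComplex (ComplexShape.up ℤ)).obj N'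
  have hc := fun m => isColimitOfPreserves (eval A (ComplexShape.up ℤ) m) (colimit.isColimit D)
  let e : ∐ N ≅ W := Hom.isoOfComponents
    (fun m => (hc m).coconePointUniqueUpToIso (colimit.isColimit _))
    (fun a b _ => (hc a).hom_ext fun i => by
      have h1 : ∀ m, (colimit.ι D i).f m ≫ ((hc m).coconePointUniqueUpToIso (colimit.isColimit _)).hom =
          colimit.ι (N'.X m) i := fun m => (hc m).comp_coconePointUniqueUpToIso_hom _ i
      change (colimit.ι D i).f a ≫ _ ≫ colim.map (N'.d a b) = (colimit.ι D i).f a ≫ _ ≫ _
      rw [← Category.assoc, h1, ← Category.assoc, Hom.comm, Category.assoc, h1]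
      exact ι_colimMap _ _)
  let eH : N'.homology n ≅ Discrete.functor fun i => (N i).homology n :=
    Discrete.natIso fun i => ((N'.sc n).mapHomologyIso ((evaluation (Discrete ι) A).obj i)).symm
  exact ⟨homologyMapIso e n ≪≫ (N'.sc n).mapHomologyIso colim ≪≫ colim.mapIso eH⟩

end Groth.Agent.DerCat
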