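import Mathlib.Algebra.Homology.DerivedCategory.TStructure
import Mathlib.Algebra.Homology.DerivedCategory.Fractions
import Mathlib.Algebra.Homology.DerivedCategory.Ext.ExactSequences
import Mathlib.Algebra.Homology.DerivedCategory.FullyFaithful

set_option autoImplicit false
set_option backward.isDefEq.respectTransparency false
set_option backward.defeqAttrib.useBackward true

namespace Groth.Agent.DerCat

open CategoryTheory Limits Category DerivedCategory Abelian

universe w v u

variable {C : Type u} [Category.{v} C] [Abelian C]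

/-- A map from an object to a positive shift of an object is killed by an epimorphism. -/
lemma exists_epi_single_comp_eq_zero [HasDerivedCategory.{w} C] (B D : C) (n : ℕ) (hn : n ≠ 0)
    (φ : (singleFunctor C 0).obj B ⟶ ((singleFunctor C 0).obj D)⟦(n : ℤ)⟧) :
    ∃ (B' : C) (p : B' ⟶ B), Epi p ∧ (singleFunctor C 0).map p ≫ φ = 0 := by
  let S := (CochainComplex.singleFunctor C 0)
  let L := (S.obj D)⟦(n : ℤ)⟧
  obtain ⟨ψ, rfl⟩ : ∃ ψ : Q.obj (S.obj B) ⟶ Q.obj L,
      φ = ψ ≫ (Q.commShiftIso (n : ℤ)).hom.app (S.obj D) :=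
    ⟨φ ≫ (Q.commShiftIso (n : ℤ)).inv.app (S.obj D), by
      rw [assoc, Iso.inv_hom_id_app]
      exact (comp_id _).symm⟩
  obtain ⟨K, hK, s, hs, k, rfl⟩ := right_fac_of_isStrictlyLE ψ 0
  have hqis : QuasiIso s := (DerivedCategory.isIso_Q_map_iff_quasiIso _ s).1 hs
  let j : S.obj (K.X 0) ⟶ K := HomologicalComplex.mkHomFromSingle (𝟙 _) (fun i hi => by
    exact (K.isZero_of_isStrictlyLE 0 i (by simp at hi; omega)).eq_of_tgt _ _)
  let p : K.X 0 ⟶ B := s.f 0 ≫ (HomologicalComplex.singleObjXSelf (.up ℤ) 0 B).hom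
  have hj : j ≫ s = S.map p := by
    apply HomologicalComplex.from_single_hom_ext
    simp [j, p, S, CochainComplex.singleFunctor, CochainComplex.singleFunctors,
      HomologicalComplex.single_map_f_self]
  have hk : j ≫ k = 0 := by
    apply HomologicalComplex.from_single_hom_ext
    exact (HomologicalComplex.isZero_single_obj_X (ComplexShape.up ℤ) 0 D ((0 : ℤ) + n)
      (by omega)).eq_of_tgt _ _
  refine ⟨K.X 0, p, ?_, ?_⟩
  · refine Preadditive.epi_of_cancel_zero _ fun {T} q hq => ?_
    have h : s ≫ S.map q = 0 := by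
      apply HomologicalComplex.to_single_hom_ext
      simp [p] at hq
      simp [S, CochainComplex.singleFunctor, CochainComplex.singleFunctors,
        HomologicalComplex.single_map_f_self, reassoc_of% hq]
    apply (singleFunctor C 0).map_injective
    rw [Functor.map_zero]
    show Q.map (S.map q) = 0
    rw [← cancel_epi (Q.map s), ← Functor.map_comp, h, Functor.map_zero, comp_zero]
  · show Q.map (S.map p) ≫ _ = 0
    rw [← hj, Functor.map_comp]
    simp only [assoc, IsIso.hom_inv_id_assoc]
    rw [← Functor.map_comp_assoc, hk, Functor.map_zero, zero_comp]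

/-- A positive degree class is killed by an epimorphism. -/
lemma exists_epi_mk₀_comp_eq_zero [HasExt.{w} C] (B D : C) (n : ℕ) (hn : n ≠ 0) (x : Ext B D n) :
    ∃ (B' : C) (p : B' ⟶ B), Epi p ∧ (Ext.mk₀ p).comp x (zero_add n) = 0 := by
  let := HasDerivedCategory.standard C
  obtain ⟨B', p, hp, h⟩ := exists_epi_single_comp_eq_zero B D n hn x.hom
  refine ⟨B', p, hp, ?_⟩
  ext
  rw [Ext.comp_hom, Ext.mk₀_hom, ShiftedHom.mk₀_comp, Ext.zero_hom]
  exact h

end Groth.Agent.DerCat
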