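import Groth.Agent.DerCat.PlusAcyclic
import Groth.Agent.GrothSS.Derived
import Mathlib.Algebra.Homology.DerivedCategory.KInjective

/-!
Acyclic objects for the right derived functor on `D⁺`.
-/

set_option autoImplicit false

noncomputable section

universe w w' v v' u u'

open CategoryTheory Limits

namespace Groth.Agent.DerCat

variable {A : Type u} [Category.{v} A] [Abelian A] {B : Type u'} [Category.{v'} B] [Abelian B]
  (F : A ⥤ B) [F.Additive]

lemma isIso_liftCycles_iff_exact {ι : Type*} {c : ComplexShape ι} (K : HomologicalComplex B c) {X : B}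
    (i j : ι) (hj : c.next i = j) (φ : X ⟶ K.X i) (hφ : φ ≫ K.d i j = 0) :
    IsIso (K.liftCycles φ j hj hφ) ↔ (ShortComplex.mk φ (K.d i j) hφ).Exact ∧ Mono φ := by
  refine Iff.trans ?_ (ShortComplex.exact_and_mono_f_iff_f_is_kernel _).symm
  constructor
  · intro h
    exact ⟨IsLimit.ofIsoLimit (K.cyclesIsKernel i j hj)
      (Fork.ext (asIso (K.liftCycles φ j hj hφ)).symm (by
        show inv (K.liftCycles φ j hj hφ) ≫ φ = K.iCycles i
        rw [IsIso.inv_comp_eq, K.liftCycles_i]))⟩
  · rintro ⟨h⟩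
    have : K.liftCycles φ j hj hφ = (IsLimit.conePointUniqueUpToIso h (K.cyclesIsKernel i j hj)).hom := by
      rw [← cancel_mono (K.iCycles i), K.liftCycles_i]
      exact (IsLimit.conePointUniqueUpToIso_hom_comp h (K.cyclesIsKernel i j hj) WalkingParallelPair.zero).symm
    rw [this]
    infer_instance

lemma mapIso_aux {C : Type u'} [Category.{v'} C] {P Q R S : C} {b : R ≅ S} {p : P ⟶ Q} {q : Q ⟶ S} {f : P ⟶ R}
    (h : f = p ≫ q ≫ b.inv) : f ≫ b.hom = p ≫ q := by simp [h]

variable [HasInjectiveResolutions A]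

/-- Acyclicity read on an injective resolution indexed by integers. -/
lemma quasiIso_map_ι'_iff {X : A} (R : InjectiveResolution X) :
    QuasiIso ((F.mapHomologicalComplex (ComplexShape.up ℤ)).map R.ι') ↔
      (IsIso (F.toRightDerivedZero.app X) ∧ ∀ i : ℕ, 0 < i → IsZero ((F.rightDerived i).obj X)) := by
  let φ := (F.mapHomologicalComplex (ComplexShape.up ℤ)).map R.ι'
  let S := (F.mapHomologicalComplex (ComplexShape.up ℤ)).obj ((CochainComplex.singleFunctor A 0).obj X)
  let T := (F.mapHomologicalComplex (ComplexShape.up ℤ)).obj R.cochainComplex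
  have hS : ∀ i : ℤ, i ≠ 0 → IsZero (S.X i) := fun i hi =>
    F.map_isZero (HomologicalComplex.isZero_single_obj_X _ _ _ _ hi)
  have hT : ∀ i : ℤ, i < 0 → IsZero (T.X i) := fun i hi =>
    F.map_isZero (R.cochainComplex.isZero_of_isStrictlyGE 0 i hi)
  have hz : QuasiIsoAt φ 0 ↔ IsIso (F.toRightDerivedZero.app X) := by
    rw [R.toRightDerivedZero_eq F, isIso_comp_right_iff]
    have h2 : (R.toRightDerivedZero' F) = ((F.mapHomologicalComplex _).obj R.cocomplex).liftCycles
        (F.map (R.ι.f 0)) 1 (by simp) (by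
          show F.map (R.ι.f 0) ≫ F.map (R.cocomplex.d 0 1) = 0
          rw [← F.map_comp, R.ι_f_zero_comp_complex_d, F.map_zero]) := rfl
    rw [h2, quasiIsoAt_iff_isIso_homologyMap]
    refine Iff.trans ?_ (isIso_liftCycles_iff_exact _ _ _ _ _ _).symm
    haveI : IsIso (S.homologyπ 0) := S.isIso_homologyπ (-1) 0 (by simp) ((hS (-1) (by omega)).eq_of_src _ _)
    haveI : IsIso (T.homologyπ 0) := T.isIso_homologyπ (-1) 0 (by simp) ((hT (-1) (by omega)).eq_of_src _ _)
    haveI : IsIso (S.iCycles 0) := S.isIso_iCycles 0 1 (by simp) ((hS 1 (by omega)).eq_of_tgt _ _)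
    have hφ : φ.f 0 ≫ T.d 0 1 = 0 := by
      rw [φ.comm, (hS 1 (by omega)).eq_of_src (φ.f 1) 0, comp_zero]
    have h3 : HomologicalComplex.cyclesMap φ 0 = S.iCycles 0 ≫ T.liftCycles (φ.f 0) 1 (by simp) hφ := by
      rw [← cancel_mono (T.iCycles 0), Category.assoc, T.liftCycles_i]
      exact HomologicalComplex.cyclesMap_i φ 0
    rw [← isIso_comp_left_iff (S.homologyπ 0), HomologicalComplex.homologyπ_naturality, isIso_comp_right_iff,
      h3, isIso_comp_left_iff, isIso_liftCycles_iff_exact]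
    have hf : φ.f 0 = F.map (HomologicalComplex.singleObjXSelf (ComplexShape.up ℤ) 0 X).hom ≫ F.map (R.ι.f 0) ≫
        F.map (R.cochainComplexXIso 0 0 rfl).inv := by
      show F.map (R.ι'.f 0) = _
      exact (congrArg F.map R.ι'_f_zero).trans ((F.map_comp _ _).trans (congrArg (F.map _ ≫ ·) (F.map_comp _ _)))
    let e : ShortComplex.mk (φ.f 0) (T.d 0 1) hφ ≅
        ShortComplex.mk (F.map (R.ι.f 0)) (((F.mapHomologicalComplex (ComplexShape.up ℕ)).obj R.cocomplex).d 0 1)
          (by show F.map (R.ι.f 0) ≫ F.map (R.cocomplex.d 0 1) = 0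
              rw [← F.map_comp, R.ι_f_zero_comp_complex_d, F.map_zero]) :=
      ShortComplex.isoMk (F.mapIso (HomologicalComplex.singleObjXSelf (ComplexShape.up ℤ) 0 X))
        (F.mapIso (R.cochainComplexXIso 0 0 rfl)) (F.mapIso (R.cochainComplexXIso 1 1 rfl))
        (by
          show F.map _ ≫ F.map (R.ι.f 0) = φ.f 0 ≫ F.map _
          exact (mapIso_aux (b := F.mapIso (R.cochainComplexXIso 0 0 rfl)) hf).symm)
        (by
          show F.map _ ≫ F.map (R.cocomplex.d 0 1) = F.map (R.cochainComplex.d 0 1) ≫ F.map _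
          rw [R.cochainComplex_d 0 1 0 1 rfl rfl, ← F.map_comp, ← F.map_comp]
          congr 1
          simp)
    refine and_congr (ShortComplex.exact_iff_of_iso e) ?_
    exact (MorphismProperty.monomorphisms B).arrow_mk_iso_iff
      (Arrow.isoMk (ShortComplex.π₁.mapIso e) (ShortComplex.π₂.mapIso e) e.hom.comm₁₂)
  have hne : ∀ n : ℤ, n ≠ 0 → (QuasiIsoAt φ n ↔ T.ExactAt n) := fun n hn =>
    quasiIsoAt_iff_exactAt φ n (HomologicalComplex.ExactAt.of_isZero (hS n hn))
  have hH : ∀ i : ℕ, T.ExactAt (i : ℤ) ↔ IsZero ((F.rightDerived i).obj X) := fun i => by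
    rw [HomologicalComplex.exactAt_iff_isZero_homology]
    exact ((HomologicalComplex.homologyFunctor B (ComplexShape.up ℤ) (i : ℤ)).mapIso
      (GrothSS.mapExtendIso F R.cocomplex) ≪≫
      HomologicalComplex.extendHomologyIso _ ComplexShape.embeddingUpNat (j := i) rfl ≪≫
      (R.isoRightDerivedObj F i).symm).isZero_iff
  constructor
  · intro h
    exact ⟨hz.1 inferInstance, fun i hi => (hH i).1 ((hne i (by omega)).1 inferInstance)⟩
  · rintro ⟨h0, h1⟩
    refine ⟨fun n => ?_⟩
    rcases lt_trichotomy n 0 with hn | rfl | hn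
    · exact (hne n hn.ne).2 (HomologicalComplex.ExactAt.of_isZero (hT n hn))
    · exact hz.2 h0
    · obtain ⟨i, rfl⟩ : ∃ i : ℕ, n = i := ⟨n.toNat, by omega⟩
      exact (hne i (by omega)).2 ((hH i).2 (h1 i (by omega)))

/-- Objects with vanishing higher derived functors. -/
def acyclicObj : ObjectProperty A :=
  fun X => ∀ i : ℕ, 0 < i → IsZero ((F.rightDerived i).obj X)

instance : (acyclicObj F).IsClosedUnderIsomorphisms where
  of_iso e h i hi := (h i hi).of_iso ((F.rightDerived i).mapIso e).symm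

lemma acyclicObj_biprod {X Y : A} (hX : acyclicObj F X) (hY : acyclicObj F Y) : acyclicObj F (X ⊞ Y) :=
  fun i hi => by
    haveI := preservesBinaryBiproducts_of_preservesBiproducts (F.rightDerived i)
    exact IsZero.of_iso (biprod_isZero_iff _ _ |>.2 ⟨hX i hi, hY i hi⟩) ((F.rightDerived i).mapBiprod X Y)

lemma acyclicObj_ses [EnoughInjectives A] [PreservesFiniteLimits F] (S : ShortComplex A) (hS : S.ShortExact)
    (h1 : acyclicObj F S.X₁) (h2 : acyclicObj F S.X₂) : acyclicObj F S.X₃ ∧ (S.map F).ShortExact := by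
  let L := RDerLES.derivedLES F
  refine ⟨fun i hi => ?_, ?_⟩
  · exact (L.exact₃ S hS i (i + 1) rfl).isZero_X₂ ((h2 i hi).eq_of_src _ _) ((h1 (i + 1) (by omega)).eq_of_tgt _ _)
  · haveI := hS.mono_f
    haveI : Mono (S.map F).f := inferInstanceAs (Mono (F.map S.f))
    haveI : Epi ((F.rightDerived 0).map S.g) :=
      (L.exact₃ S hS 0 1 rfl).epi_f ((h1 1 one_pos).eq_of_tgt _ _)
    haveI : Epi (S.map F).g := by
      show Epi (F.map S.g)
      have := F.toRightDerivedZero.naturality S.g
      have e : F.map S.g = F.toRightDerivedZero.app S.X₂ ≫ (F.rightDerived 0).map S.g ≫ inv (F.toRightDerivedZero.app S.X₃) := by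
        rw [← reassoc_of% this, IsIso.hom_inv_id, Category.comp_id]
      rw [e]
      infer_instance
    refine ShortComplex.ShortExact.mk (ShortComplex.exact_of_f_is_kernel _ ?_)
    exact KernelFork.mapIsLimit _ hS.fIsKernel F

end Groth.Agent.DerCat
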