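import Mathlib.CategoryTheory.Functor.Derived.PointwiseRightDerived
import Mathlib.CategoryTheory.Localization.CalculusOfFractions

/-!
Right derived functors from enough acyclic objects: if every object has a `W`-resolution by an object of a
class `P` and `F` inverts the maps of `W` between objects of `P`, then `F` has a pointwise right derived
functor, whose unit is an isomorphism on `P`.
-/

set_option autoImplicit false
set_option backward.isDefEq.respectTransparency false
set_option backward.defeqAttrib.useBackward true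

universe v v' v'' u u' u''

open CategoryTheory Limits MorphismProperty

namespace Groth.Agent.DerCat.RightDeriv

variable {C : Type u} [Category.{v} C] {D : Type u'} [Category.{v'} D] {H : Type u''} [Category.{v''} H]
  (L : C ⥤ D) (W : MorphismProperty C) [L.IsLocalization W] [W.HasLeftCalculusOfFractions]
  (F : C ⥤ H) (P : ObjectProperty C)
  (hres : ∀ X, ∃ (Y : C) (s : X ⟶ Y), P Y ∧ W s)
  (hinv : ∀ ⦃X Y : C⦄ (s : X ⟶ Y), P X → P Y → W s → IsIso (F.map s))

include hres in
/-- Every map in the localized category into an object of `P` is a roof with apex in `P`. -/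
lemma exists_roof {P₀ Z : C} (g : L.obj Z ⟶ L.obj P₀) :
    ∃ (P' : C) (t : P₀ ⟶ P') (b : Z ⟶ P'), P P' ∧ W t ∧ g ≫ L.map t = L.map b := by
  obtain ⟨φ, rfl⟩ := Localization.exists_leftFraction L W g
  obtain ⟨P', r, hP', hr⟩ := hres φ.Y'
  refine ⟨P', φ.s ≫ r, φ.f ≫ r, hP', W.comp_mem _ _ φ.hs hr, ?_⟩
  rw [L.map_comp, L.map_comp, LeftFraction.map_comp_map_s_assoc]

include hres hinv in
lemma existsUnique_map {P₀ Z : C} (h₀ : P P₀) (g : L.obj Z ⟶ L.obj P₀) :
    ∃! m : F.obj Z ⟶ F.obj P₀, ∀ (P' : C) (t : P₀ ⟶ P') (b : Z ⟶ P'),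
      P P' → W t → g ≫ L.map t = L.map b → m ≫ F.map t = F.map b := by
  obtain ⟨P₁, t₁, b₁, hP₁, ht₁, e₁⟩ := exists_roof L W P hres g
  haveI := hinv t₁ h₀ hP₁ ht₁
  refine ⟨F.map b₁ ≫ inv (F.map t₁), fun P' t b hP' ht e => ?_, fun m hm => ?_⟩
  · obtain ⟨ψ, hψ⟩ := (RightFraction.mk t₁ ht₁ t).exists_leftFraction
    dsimp at hψ
    obtain ⟨P₂, r, hP₂, hr⟩ := hres ψ.Y'
    have hL : L.map (b ≫ ψ.s ≫ r) = L.map (b₁ ≫ ψ.f ≫ r) := by
      simp only [L.map_comp, ← e₁, ← e, Category.assoc]
      simp only [← L.map_comp, reassoc_of% hψ]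
    obtain ⟨Z', q, hq, eq⟩ := (map_eq_iff_postcomp L W _ _).1 hL
    obtain ⟨P₃, r', hP₃, hr'⟩ := hres Z'
    have hW : W (ψ.s ≫ r ≫ q ≫ r') :=
      W.comp_mem _ _ ψ.hs (W.comp_mem _ _ hr (W.comp_mem _ _ hq hr'))
    haveI := hinv _ hP' hP₃ hW
    haveI := hinv t h₀ hP' ht
    rw [← cancel_mono (F.map (ψ.s ≫ r ≫ q ≫ r'))]
    have h3 : F.map t₁ ≫ F.map (ψ.f ≫ r ≫ q ≫ r') = F.map t ≫ F.map (ψ.s ≫ r ≫ q ≫ r') := by
      rw [← F.map_comp, ← F.map_comp, reassoc_of% hψ]
    simp only [Category.assoc]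
    rw [← h3, IsIso.inv_hom_id_assoc, ← F.map_comp, ← F.map_comp]
    simp only [Category.assoc] at eq
    rw [reassoc_of% eq]
  · rw [IsIso.eq_comp_inv]
    exact hm P₁ t₁ b₁ hP₁ ht₁ e₁

variable {X : C} {P₀ : C} (s : X ⟶ P₀) (h₀ : P P₀) (hs : W s)

include hres hinv h₀ in
lemma existsUnique_map' (j : CostructuredArrow L (L.obj X)) :
    ∃! m : F.obj j.left ⟶ F.obj P₀, ∀ (P' : C) (t : P₀ ⟶ P') (b : j.left ⟶ P'),
      P P' → W t → (j.hom ≫ L.map s) ≫ L.map t = L.map b → m ≫ F.map t = F.map b :=
  existsUnique_map L W F P hres hinv h₀ (j.hom ≫ L.map s)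

/-- The colimit cocone with vertex the value on a resolution. -/
noncomputable def cocone : Cocone (CostructuredArrow.proj L (L.obj X) ⋙ F) where
  pt := F.obj P₀
  ι :=
    { app := fun j => (existsUnique_map' L W F P hres hinv s h₀ j).choose
      naturality := fun j j' φ => by
        obtain ⟨P', t, b, hP', ht, e⟩ := exists_roof L W P hres (j'.hom ≫ L.map s)
        have h1 := (existsUnique_map' L W F P hres hinv s h₀ j').choose_spec.1 P' t b hP' ht e
        have h2 := (existsUnique_map' L W F P hres hinv s h₀ j).choose_spec.1 P' t (φ.left ≫ b) hP' ht (by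
          rw [L.map_comp, ← e, ← CostructuredArrow.w φ]
          simp)
        haveI := hinv t h₀ hP' ht
        dsimp
        refine Eq.trans ?_ (Category.comp_id _).symm
        exact (cancel_mono (F.map t)).1
          ((Category.assoc _ _ _).trans ((congrArg (F.map φ.left ≫ ·) h1).trans ((F.map_comp _ _).symm.trans h2.symm))) }

include hs in
lemma cocone_ι_self :
    haveI := Localization.inverts L W s hs
    (cocone L W F P hres hinv s h₀).ι.app (CostructuredArrow.mk (inv (L.map s))) = 𝟙 (F.obj P₀) := by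
  haveI := Localization.inverts L W s hs
  refine ((existsUnique_map' L W F P hres hinv s h₀ (CostructuredArrow.mk (inv (L.map s)))).choose_spec.2
    (𝟙 (F.obj P₀)) (fun P' t b hP' ht e => ?_)).symm
  dsimp at e
  rw [IsIso.inv_hom_id, Category.id_comp] at e
  obtain ⟨Z', q, hq, eq⟩ := (map_eq_iff_postcomp L W _ _).1 e
  obtain ⟨P₃, r, hP₃, hr⟩ := hres Z'
  haveI := hinv _ hP' hP₃ (W.comp_mem _ _ hq hr)
  dsimp
  rw [Category.id_comp, ← cancel_mono (F.map (q ≫ r)), ← F.map_comp, ← F.map_comp, reassoc_of% eq]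

include hs in
/-- The cocone is a colimit. -/
noncomputable def isColimit : IsColimit (cocone L W F P hres hinv s h₀) :=
  haveI := Localization.inverts L W s hs
  { desc := fun c => c.ι.app (CostructuredArrow.mk (inv (L.map s)))
    fac := fun c j => by
      obtain ⟨P', t, b, hP', ht, e⟩ := exists_roof L W P hres (j.hom ≫ L.map s)
      haveI := Localization.inverts L W t ht
      have h1 := (existsUnique_map' L W F P hres hinv s h₀ j).choose_spec.1 P' t b hP' ht e
      let j' : CostructuredArrow L (L.obj X) := CostructuredArrow.mk (inv (L.map t) ≫ inv (L.map s))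
      let φt : CostructuredArrow.mk (inv (L.map s)) ⟶ j' := CostructuredArrow.homMk t (by simp [j'])
      let φb : j ⟶ j' := CostructuredArrow.homMk b (by simp [j', ← e])
      have wt : F.map t ≫ c.ι.app j' = c.ι.app (CostructuredArrow.mk (inv (L.map s))) := c.w φt
      have wb : F.map b ≫ c.ι.app j' = c.ι.app j := c.w φb
      exact ((congrArg (_ ≫ ·) wt.symm).trans (Category.assoc _ _ _).symm).trans
        ((congrArg (· ≫ c.ι.app j') h1).trans wb)
    uniq := fun c m hm => by
      rw [← hm (CostructuredArrow.mk (inv (L.map s))), cocone_ι_self L W F P hres hinv s h₀ hs]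
      exact (Category.id_comp m).symm }

include hres hinv in
/-- Enough acyclic objects: the pointwise right derived functor exists. -/
theorem hasPointwiseRightDerivedFunctor : F.HasPointwiseRightDerivedFunctor W := fun X => by
  rw [Functor.hasPointwiseRightDerivedFunctorAt_iff F W.Q W]
  obtain ⟨P₀, s, h₀, hs⟩ := hres X
  exact ⟨⟨⟨_, isColimit W.Q W F P hres hinv s h₀ hs⟩⟩⟩

include hres hinv in
theorem hasRightDerivedFunctor : F.HasRightDerivedFunctor W :=
  haveI := hasPointwiseRightDerivedFunctor W F P hres hinv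
  inferInstance

include hres hinv in
/-- The right derived functor is computed by the objects of `P`. -/
theorem isIso_unit_app [F.HasRightDerivedFunctor W] {P₀ : C} (h₀ : P P₀) :
    IsIso ((F.totalRightDerivedUnit L W).app P₀) := by
  haveI := hasPointwiseRightDerivedFunctor W F P hres hinv
  let E := Functor.LeftExtension.mk _ (F.totalRightDerivedUnit L W)
  have hE : E.IsPointwiseLeftKanExtension :=
    Functor.isPointwiseLeftKanExtensionOfHasPointwiseRightDerivedFunctor _ _ W
  let hC := isColimit L W F P hres hinv (𝟙 P₀) h₀ (W.id_mem _)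
  let j₀ : CostructuredArrow L (L.obj P₀) := CostructuredArrow.mk (inv (L.map (𝟙 P₀)))
  have e := IsColimit.comp_coconePointUniqueUpToIso_hom (hE (L.obj P₀)) hC j₀
  rw [cocone_ι_self L W F P hres hinv (𝟙 P₀) h₀ (W.id_mem _)] at e
  have h' : IsIso ((E.coconeAt (L.obj P₀)).ι.app j₀) := by
    haveI : IsIso ((E.coconeAt (L.obj P₀)).ι.app j₀ ≫ (IsColimit.coconePointUniqueUpToIso (hE (L.obj P₀)) hC).hom) :=
      e ▸ inferInstanceAs (IsIso (𝟙 (F.obj P₀)))
    exact IsIso.of_isIso_comp_right _ (IsColimit.coconePointUniqueUpToIso (hE (L.obj P₀)) hC).hom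
  have key : ∀ g : L.obj P₀ ⟶ L.obj P₀, g = 𝟙 _ →
      IsIso ((E.coconeAt (L.obj P₀)).ι.app (CostructuredArrow.mk g)) →
      IsIso ((F.totalRightDerivedUnit L W).app P₀) := by
    rintro g rfl h
    simp [E] at h
    exact h
  exact key _ (by simp) h'

end Groth.Agent.DerCat.RightDeriv
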