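import Groth.Agent.S11168
import Groth.Agent.DerCat.RightDeriv
import Groth.Agent.DerCat.PlusAcyclicUse
import Groth.Agent.RDerLES.LES
import Mathlib.Algebra.Homology.DerivedCategory.Basic
import Mathlib.Algebra.Homology.HomotopyCategory.Triangulated
import Mathlib.CategoryTheory.Abelian.RightDerived

/-!
Functors of finite cohomological dimension on unbounded complexes.
-/

set_option autoImplicit false
set_option backward.isDefEq.respectTransparency false
set_option backward.defeqAttrib.useBackward true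

noncomputable section

universe w w' v u v' u'

open CategoryTheory CategoryTheory.Limits HomologicalComplex Pretriangulated

namespace Groth.Agent.DerCat.FiniteCd

variable {A : Type u} [Category.{v} A] [Abelian A] [HasInjectiveResolutions A]
  {B : Type u'} [Category.{v'} B] [Abelian B] (F : A ⥤ B) [F.Additive] [PreservesFiniteLimits F]

/-- Acyclic objects. -/
def Acy : ObjectProperty A := fun X => ∀ i : ℕ, 0 < i → IsZero ((F.rightDerived i).obj X)

lemma enoughInjectives : EnoughInjectives A :=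
  ⟨fun X => ⟨{ J := (injectiveResolution X).cocomplex.X 0, f := (injectiveResolution X).ι.f 0 }⟩⟩

omit [PreservesFiniteLimits F] in
lemma exists_mono_acy (X : A) : ∃ (Y : A) (i : X ⟶ Y), Acy F Y ∧ Mono i := by
  haveI := enoughInjectives (A := A)
  refine ⟨Injective.under X, Injective.ι X, fun i hi => ?_, inferInstance⟩
  obtain ⟨j, rfl⟩ : ∃ j, i = j + 1 := ⟨i - 1, by omega⟩
  exact F.isZero_rightDerived_obj_injective_succ j _

lemma acy_iff (S : ShortComplex A) (hS : S.ShortExact) (h1 : Acy F S.X₁) : Acy F S.X₂ ↔ Acy F S.X₃ := by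
  let L := RDerLES.derivedLES F
  exact ⟨fun h2 i hi => (L.exact₃ S hS i (i + 1) rfl).isZero_X₂ ((h2 i hi).eq_of_src _ _) ((h1 (i + 1) (by omega)).eq_of_tgt _ _),
    fun h3 i hi => (L.exact₂ S hS i).isZero_X₂ ((h1 i hi).eq_of_src _ _) ((h3 i hi).eq_of_tgt _ _)⟩

omit [HasInjectiveResolutions A] in
lemma ses_kernel {X Y Z : A} (f : X ⟶ Y) (g : Y ⟶ Z) (w : f ≫ g = 0) (hex : (ShortComplex.mk f g w).Exact) :
    (ShortComplex.mk (kernel.ι f) (kernel.lift g f w)
      (by rw [← cancel_mono (kernel.ι g), Category.assoc, kernel.lift_ι, kernel.condition, zero_comp])).ShortExact := by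
  haveI : Epi (kernel.lift g f w) := hex.epi_kernelLift
  have hk : ∀ {T : A} (k : T ⟶ X), k ≫ kernel.lift g f w = 0 → k ≫ f = 0 := fun {T} k hk =>
    (congrArg (k ≫ ·) (kernel.lift_ι g f w).symm).trans
      ((Category.assoc _ _ _).symm.trans ((congrArg (· ≫ kernel.ι g) hk).trans zero_comp))
  refine { exact := ShortComplex.exact_of_f_is_kernel _ ?_ }
  exact KernelFork.IsLimit.ofι' _ _ fun {T} k h => kernel.lift' f k (hk k h)

variable {n : ℕ} (hn : ∀ X : A, IsZero ((F.rightDerived n).obj X))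

include hn

lemma vanish (m : ℕ) (hm : n ≤ m) : ∀ X : A, IsZero ((F.rightDerived m).obj X) := by
  induction m, hm using Nat.le_induction with
  | base => exact hn
  | succ m _ ih =>
    intro X
    haveI := enoughInjectives (A := A)
    let S : ShortComplex A := ShortComplex.mk (Injective.ι X) (cokernel.π _) (cokernel.condition _)
    have hS : S.ShortExact := { exact := ShortComplex.exact_of_g_is_cokernel _ (cokernelIsCokernel _) }
    exact ((RDerLES.derivedLES F).exact₁ S hS m (m + 1) rfl).isZero_X₂ ((ih _).eq_of_src _ _)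
      ((F.isZero_rightDerived_obj_injective_succ m (Injective.under X)).eq_of_tgt _ _)

lemma step {S : ShortComplex A} (hS : S.ShortExact) (h2 : Acy F S.X₂) (q : ℕ) (hq : 0 < q)
    (h1 : IsZero ((F.rightDerived (q + 1)).obj S.X₁)) : IsZero ((F.rightDerived q).obj S.X₃) :=
  ((RDerLES.derivedLES F).exact₃ S hS q (q + 1) rfl).isZero_X₂ ((h2 q hq).eq_of_src _ _) (h1.eq_of_tgt _ _)

/-- The last term of an exact sequence of acyclics is acyclic. -/
lemma acy_last (K : CochainComplex A ℕ) (m : ℕ) (hm : n ≤ m) (h1 : ∀ i : ℕ, 1 ≤ i → i ≤ m → K.ExactAt i)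
    (h2 : ∀ i : ℕ, m < i → IsZero (K.X i)) (h3 : ∀ i : ℕ, i < m → Acy F (K.X i)) : Acy F (K.X m) := by
  have key : ∀ j, j ≤ m → ∀ q, 0 < q → m ≤ q + j → IsZero ((F.rightDerived q).obj (kernel (K.d j (j + 1)))) := by
    intro j
    induction j with
    | zero => exact fun _ q _ h => vanish F hn q (by omega) _
    | succ j ih =>
      intro hj q hq h
      let g : K.X j ⟶ kernel (K.d (j + 1) (j + 1 + 1)) := kernel.lift _ (K.d j (j + 1)) (K.d_comp_d _ _ _)
      have hz : kernel.ι (K.d j (j + 1)) ≫ g = 0 := by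
        rw [← cancel_mono (kernel.ι (K.d (j + 1) (j + 1 + 1))), Category.assoc, kernel.lift_ι, kernel.condition, zero_comp]
      have hex := h1 (j + 1) (by omega) hj
      rw [exactAt_iff' _ j (j + 1) (j + 1 + 1) (by simp) (by simp)] at hex
      exact step F hn (ses_kernel _ _ (K.d_comp_d _ _ _) hex) (h3 j (by omega)) q hq
        (ih (by omega) (q + 1) (by omega) (by omega))
  haveI : IsIso (kernel.ι (K.d m (m + 1))) := by
    have h0 : K.d m (m + 1) = 0 := (h2 _ (by omega)).eq_of_tgt _ _
    rw [h0]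
    infer_instance
  exact fun q hq => (key m le_rfl q hq (by omega)).of_iso
    ((F.rightDerived q).mapIso (asIso (kernel.ι (K.d m (m + 1))))).symm

/-- An acyclic complex of acyclic objects stays acyclic. -/
lemma acyclic_map (L : CochainComplex A ℤ) (hL : L.Acyclic) (hP : ∀ k, Acy F (L.X k)) :
    HomologicalComplex.Acyclic ((F.mapHomologicalComplex (ComplexShape.up ℤ)).obj L) := by
  haveI := enoughInjectives (A := A)
  let g : ∀ k, L.X k ⟶ kernel (L.d (k + 1) (k + 1 + 1)) := fun k => kernel.lift _ (L.d k (k + 1)) (L.d_comp_d _ _ _)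
  have hz : ∀ k, kernel.ι (L.d k (k + 1)) ≫ g k = 0 := fun k => by
    rw [← cancel_mono (kernel.ι (L.d (k + 1) (k + 1 + 1))), Category.assoc, kernel.lift_ι, kernel.condition, zero_comp]
  have hS : ∀ k, (ShortComplex.mk _ (g k) (hz k)).ShortExact := fun k => by
    have hex := hL (k + 1)
    rw [exactAt_iff' _ k (k + 1) (k + 1 + 1) (by simp) (by simp)] at hex
    exact ses_kernel _ _ (L.d_comp_d _ _ _) hex
  have key : ∀ j : ℕ, ∀ k : ℤ, ∀ q, 0 < q → n ≤ q + j → IsZero ((F.rightDerived q).obj (kernel (L.d k (k + 1)))) := by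
    intro j
    induction j with
    | zero => exact fun k q _ h => vanish F hn q (by omega) _
    | succ j ih =>
      intro k q hq h
      obtain ⟨k', rfl⟩ : ∃ k', k = k' + 1 := ⟨k - 1, by omega⟩
      exact step F hn (hS k') (hP k') q hq (ih k' (q + 1) (by omega) (by omega))
  have hZ : ∀ k, Acy F (kernel (L.d k (k + 1))) := fun k q hq => key n k q hq (by omega)
  intro k'
  obtain ⟨k, rfl⟩ : ∃ k, k' = k + 1 := ⟨k' - 1, by omega⟩
  have e1 := (DerCat.acyclicObj_ses F _ (hS k) (hZ k) (hP k)).2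
  have e2 := (DerCat.acyclicObj_ses F _ (hS (k + 1)) (hZ (k + 1)) (hP (k + 1))).2
  haveI : Epi (F.map (g k)) := e1.epi_g
  haveI : Mono (F.map (kernel.ι (L.d (k + 1 + 1) (k + 1 + 1 + 1)))) := inferInstance
  rw [exactAt_iff' _ k (k + 1) (k + 1 + 1) (by simp) (by simp), ShortComplex.exact_iff_exact_up_to_refinements]
  intro T x hx
  change x ≫ F.map (L.d (k + 1) (k + 1 + 1)) = 0 at hx
  rw [← kernel.lift_ι (L.d (k + 1 + 1) (k + 1 + 1 + 1)) (L.d (k + 1) (k + 1 + 1)) (L.d_comp_d _ _ _), F.map_comp,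
    ← Category.assoc] at hx
  have hx' : x ≫ F.map (g (k + 1)) = 0 := (cancel_mono _).1 (hx.trans zero_comp.symm)
  haveI := e2.mono_f
  obtain ⟨T', p, hp, z, hz'⟩ := surjective_up_to_refinements_of_epi (F.map (g k)) (e2.exact.lift x hx')
  refine ⟨T', p, hp, z, ?_⟩
  change p ≫ x = z ≫ F.map (L.d k (k + 1))
  conv_lhs => rw [← e2.exact.lift_f x hx']
  change p ≫ e2.exact.lift x hx' ≫ F.map (kernel.ι (L.d (k + 1) (k + 1 + 1))) = _
  rw [reassoc_of% hz', ← F.map_comp, kernel.lift_ι]

omit [PreservesFiniteLimits F] hn in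
lemma acyclic_of_isZero [HasDerivedCategory.{w} A] {M : CochainComplex A ℤ} (h : IsZero (DerivedCategory.Q.obj M)) :
    M.Acyclic := fun i => by
  rw [exactAt_iff_isZero_homology]
  exact (Functor.map_isZero (DerivedCategory.homologyFunctor A i) h).of_iso ((DerivedCategory.homologyFunctorFactors A i).app M).symm

omit [HasInjectiveResolutions A] [PreservesFiniteLimits F] hn in
lemma isZero_of_acyclic [HasDerivedCategory.{w'} B] {M : CochainComplex B ℤ} (h : M.Acyclic) :
    IsZero (DerivedCategory.Q.obj M) := by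
  haveI : QuasiIso (0 : M ⟶ M) := ⟨fun i => by
    rw [quasiIsoAt_iff_isIso_homologyMap]
    exact Limits.IsZero.isIso ((h i).isZero_homology) ((h i).isZero_homology) _⟩
  haveI := (inferInstance : IsIso (DerivedCategory.Q.map (0 : M ⟶ M)))
  rw [IsZero.iff_id_eq_zero, ← cancel_mono (DerivedCategory.Q.map (0 : M ⟶ M))]
  simp

/-- The class of complexes with acyclic terms. -/
def AcyK : ObjectProperty (HomotopyCategory A (ComplexShape.up ℤ)) := fun Z => ∀ k, Acy F (Z.as.X k)

lemma hres (Z : HomotopyCategory A (ComplexShape.up ℤ)) : ∃ (Y : HomotopyCategory A (ComplexShape.up ℤ)) (s : Z ⟶ Y),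
    AcyK F Y ∧ HomotopyCategory.quasiIso A (ComplexShape.up ℤ) s := by
  obtain ⟨I, f, hf, hI⟩ := Groth.Agent.S11168.main (Acy F) (exists_mono_acy F) (acy_iff F) (max n 1) (le_max_right _ _)
    (fun K h1 h2 _ h3 => acy_last F hn K _ (le_max_left _ _) h1 h2 h3) Z.as
  exact ⟨_, (HomotopyCategory.quotient A _).map f, hI, (HomotopyCategory.quotient_map_mem_quasiIso_iff f).2 hf⟩

lemma hinv [HasDerivedCategory.{w} A] [HasDerivedCategory.{w'} B] ⦃X Y : HomotopyCategory A (ComplexShape.up ℤ)⦄
    (s : X ⟶ Y) (hX : AcyK F X) (hY : AcyK F Y) (hs : HomotopyCategory.quasiIso A (ComplexShape.up ℤ) s) :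
    IsIso ((F.mapHomotopyCategory (ComplexShape.up ℤ) ⋙ DerivedCategory.Qh).map s) := by
  obtain ⟨f, rfl⟩ := (HomotopyCategory.quotient A (ComplexShape.up ℤ)).map_surjective s
  have hT := HomotopyCategory.mappingCone_triangleh_distinguished f
  have h1 := DerivedCategory.Qh.map_distinguished _ hT
  have h2 := (F.mapHomotopyCategory (ComplexShape.up ℤ) ⋙ DerivedCategory.Qh).map_distinguished _ hT
  have hc : (CochainComplex.mappingCone f).Acyclic := acyclic_of_isZero
    (((Triangle.isZero₃_iff_isIso₁ _ h1).2 (Localization.inverts DerivedCategory.Qh _ _ hs)).of_iso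
      ((DerivedCategory.quotientCompQhIso A).app _).symm)
  have hP : ∀ k, Acy F ((CochainComplex.mappingCone f).X k) := fun k => by
    refine (Groth.Agent.S11168.split_iff (Acy F) (acy_iff F) ((CochainComplex.mappingCone.inr f).f k)
      ((CochainComplex.mappingCone.fst f).1.v k (k + 1) rfl) ((CochainComplex.mappingCone.snd f).v k k (add_zero k))
      ((CochainComplex.mappingCone.inl f).v (k + 1) k (by omega)) (by simp) (by simp) (by simp) ?_ (hY k)).2 (hX (k + 1))
    rw [add_comm]
    exact CochainComplex.mappingCone.id_X f k (k + 1) rfl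
  refine (Triangle.isZero₃_iff_isIso₁ _ h2).1 ?_
  exact (isZero_of_acyclic (acyclic_map F hn _ hc hP)).of_iso ((DerivedCategory.quotientCompQhIso B).app _)

end Groth.Agent.DerCat.FiniteCd
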