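import Groth.Agent.DerCat.Devissage

set_option autoImplicit false
set_option backward.isDefEq.respectTransparency false
set_option backward.defeqAttrib.useBackward true

namespace Groth.Agent.DerCat

open CategoryTheory Limits Category Pretriangulated ZeroObject DerivedCategory

universe w v u

variable {C : Type u} [Category.{v} C] [Abelian C] [HasDerivedCategory.{w} C]

/-- A map to an object concentrated in degree `n` from an object `≤ n` is determined by `Hⁿ`. -/
lemma eq_zero_of_homology_eq_zero {X Y : DerivedCategory C} (n : ℤ) [X.IsLE n] [Y.IsGE n]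
    [Y.IsLE n] (f : X ⟶ Y) (hf : (homologyFunctor C n).map f = 0) : f = 0 := by
  obtain ⟨e⟩ := exists_iso_single_homology Y n
  let t := DerivedCategory.TStructure.t (C := C)
  have hT := t.triangleLEGT_distinguished (n - 1) X
  have h1 : (t.truncLEι (n - 1)).app X ≫ f = 0 := t.zero _ (n - 1) n
  obtain ⟨g, hg⟩ := Triangle.yoneda_exact₂ _ hT f h1
  have : ((t.truncGT (n - 1)).obj X).IsGE n := inferInstance
  have : ((t.truncGT (n - 1)).obj X).IsLE n := by
    rw [DerivedCategory.isLE_iff]
    intro i hi
    have := isIso_homology_truncGTπ X (n - 1) i (by omega)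
    exact (isZero_of_isLE X n i hi).of_iso
      (asIso ((homologyFunctor C i).map ((t.truncGTπ (n - 1)).app X))).symm
  obtain ⟨e'⟩ := exists_iso_single_homology ((t.truncGT (n - 1)).obj X) n
  obtain ⟨h, hh⟩ := (singleFunctor C n).map_surjective (e'.inv ≫ g ≫ e.hom)
  have := isIso_homology_truncGTπ X (n - 1) n (by omega)
  have hg0 : (homologyFunctor C n).map g = 0 := by
    rw [← cancel_epi ((homologyFunctor C n).map ((t.truncGTπ (n - 1)).app X)), ← Functor.map_comp,
      comp_zero]
    exact (congrArg _ hg).symm.trans hf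
  have h0 : (homologyFunctor C n).map ((singleFunctor C n).map h) = 0 := by
    rw [hh, Functor.map_comp, Functor.map_comp, hg0, zero_comp, comp_zero]
  have h0' : h = 0 := by
    have e := NatIso.naturality_1 (singleFunctorCompHomologyFunctorIso C n) h
    dsimp at e
    rw [← e, h0]
    simp
  rw [h0', Functor.map_zero] at hh
  have : g = 0 := by
    rw [← cancel_epi e'.inv, ← cancel_mono e.hom, assoc, ← hh, comp_zero, zero_comp]
  rw [hg, this, comp_zero]

open DerivedCategory.TStructure in
/-- A map out of an object `≤ c` killing `H^c` factors through the `≤ c - 1` truncation. -/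
lemma exists_factor_truncLE {X Y : DerivedCategory C} (c : ℤ) [X.IsLE c] (f : X ⟶ Y)
    (hf : (homologyFunctor C c).map f = 0) :
    ∃ g : X ⟶ (t.truncLE (c - 1)).obj Y, g ≫ (t.truncLEι (c - 1)).app Y = f := by
  obtain ⟨f', hf'⟩ : ∃ f', f' ≫ (t.truncLEι c).app Y = f := ⟨_, t.liftTruncLE_ι f c⟩
  have h0 : (homologyFunctor C c).map f' = 0 := by
    have := isIso_homology_truncLEι Y c c le_rfl
    rw [← cancel_mono ((homologyFunctor C c).map ((t.truncLEι c).app Y)), ← Functor.map_comp, hf',
      hf, zero_comp]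
  let W := (t.truncLE c).obj Y
  have : ((t.truncGT (c - 1)).obj W).IsGE c := inferInstance
  have : ((t.truncGT (c - 1)).obj W).IsLE c := by
    rw [DerivedCategory.isLE_iff]
    intro i hi
    have := isIso_homology_truncGTπ W (c - 1) i (by omega)
    exact (isZero_of_isLE W c i hi).of_iso
      (asIso ((homologyFunctor C i).map ((t.truncGTπ (c - 1)).app W))).symm
  have hz : f' ≫ (t.truncGTπ (c - 1)).app W = 0 :=
    eq_zero_of_homology_eq_zero c _ (by rw [Functor.map_comp, h0, zero_comp])
  obtain ⟨g, hg⟩ := Triangle.coyoneda_exact₂ _ (t.triangleLEGT_distinguished (c - 1) W) f' hz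
  refine ⟨g ≫ (t.truncLE (c - 1)).map ((t.truncLEι c).app Y), ?_⟩
  rw [← hf', hg, assoc]
  erw [(t.truncLEι (c - 1)).naturality]
  simp

/-- A chain of `m` maps killing homology factors through the truncation `≤ c - m`. -/
lemma exists_factor_of_chain (K : ℕ → DerivedCategory C) (f : ∀ i, K i ⟶ K (i + 1))
    (F : ∀ i, K 0 ⟶ K i) (hF0 : F 0 = 𝟙 _) (c : ℤ) (m : ℕ)
    (hF : ∀ i, i < m → F (i + 1) = F i ≫ f i) (hK : (K 0).IsLE c)
    (hf : ∀ i, i < m → (homologyFunctor C (c - i)).map (f i) = 0) :
    ∃ g : K 0 ⟶ ((TStructure.t (C := C)).truncLE (c - m)).obj (K m),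
      g ≫ ((TStructure.t (C := C)).truncLEι (c - m)).app (K m) = F m := by
  induction m with
  | zero =>
    have : (K 0).IsLE (c - ((0 : ℕ) : ℤ)) := by simpa using hK
    exact ⟨inv ((TStructure.t.truncLEι (c - ((0 : ℕ) : ℤ))).app (K 0)), by simp [hF0]⟩
  | succ m hm =>
    obtain ⟨g, hg⟩ := hm (fun i hi => hF i (by omega)) (fun i hi => hf i (by omega))
    obtain ⟨g', hg'⟩ := exists_factor_truncLE (c - (m : ℤ))
      ((TStructure.t.truncLEι (c - m)).app (K m) ≫ f m)
      (by rw [Functor.map_comp, hf m (by omega), comp_zero])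
    rw [show c - ((m + 1 : ℕ) : ℤ) = c - (m : ℤ) - 1 by omega]
    exact ⟨g ≫ g', by rw [assoc, hg', hF m (by omega), ← hg, assoc]⟩

end Groth.Agent.DerCat
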