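import Groth.Agent.DerCat.Ghost

set_option autoImplicit false
set_option backward.isDefEq.respectTransparency false
set_option backward.defeqAttrib.useBackward true

namespace Groth.Agent.DerCat

open CategoryTheory Limits Category Pretriangulated ZeroObject DerivedCategory

universe w v u

variable {C : Type u} [Category.{v} C] [Abelian C] [HasDerivedCategory.{w} C]

open DerivedCategory.TStructure in
lemma eq_zero_of_homology_eq_zero' {X Y : DerivedCategory C} (c : ℤ) [X.IsGE c] [X.IsLE c]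
    [Y.IsGE c] (f : X ⟶ Y) (hf : (homologyFunctor C c).map f = 0) : f = 0 := by
  obtain ⟨f', rfl⟩ : ∃ f', f' ≫ (t.truncLEι c).app Y = f := ⟨_, t.liftTruncLE_ι f c⟩
  have : ((t.truncLE c).obj Y).IsGE c := by
    rw [DerivedCategory.isGE_iff]
    intro i hi
    have := isIso_homology_truncLEι Y c i hi.le
    exact (isZero_of_isGE Y c i hi).of_iso
      (asIso ((homologyFunctor C i).map ((t.truncLEι c).app Y)))
  have := isIso_homology_truncLEι Y c c le_rfl
  rw [Functor.map_comp] at hf
  rw [eq_zero_of_homology_eq_zero c f' ((cancel_mono _).1 (hf.trans zero_comp.symm)), zero_comp]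

open DerivedCategory.TStructure in
lemma exists_factor_truncGT {X Y : DerivedCategory C} (c : ℤ) [Y.IsGE c] (f : X ⟶ Y)
    (hf : (homologyFunctor C c).map f = 0) :
    ∃ g : (t.truncGT c).obj X ⟶ Y, (t.truncGTπ c).app X ≫ g = f := by
  obtain ⟨f', hf'⟩ : ∃ f', (t.truncGTπ (c - 1)).app X ≫ f' = f :=
    ⟨_, t.π_descTruncGT f (c - 1) c (by omega)⟩
  let Z := (t.truncGT (c - 1)).obj X
  have : Z.IsGE c := inferInstance
  have h0 : (homologyFunctor C c).map f' = 0 := by
    have := isIso_homology_truncGTπ X (c - 1) c (by omega)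
    rw [← cancel_epi ((homologyFunctor C c).map ((t.truncGTπ (c - 1)).app X)), ← Functor.map_comp,
      hf', hf, comp_zero]
  let W := (t.truncLE c).obj Z
  have : W.IsGE c := by
    rw [DerivedCategory.isGE_iff]
    intro i hi
    have := isIso_homology_truncLEι Z c i hi.le
    exact (isZero_of_isGE Z c i hi).of_iso
      (asIso ((homologyFunctor C i).map ((t.truncLEι c).app Z)))
  have hz : (t.truncLEι c).app Z ≫ f' = 0 :=
    eq_zero_of_homology_eq_zero' c _ (by rw [Functor.map_comp, h0, comp_zero])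
  obtain ⟨g, hg⟩ := Triangle.yoneda_exact₂ _ (t.triangleLEGT_distinguished c Z) f' hz
  refine ⟨(t.truncGT c).map ((t.truncGTπ (c - 1)).app X) ≫ g, ?_⟩
  rw [← hf', hg, ← assoc]
  erw [← (t.truncGTπ c).naturality]
  simp only [assoc]
  rfl

lemma exists_factor_of_chain' (K : ℕ → DerivedCategory C) (f : ∀ i, K (i + 1) ⟶ K i)
    (F : ∀ i, K i ⟶ K 0) (hF0 : F 0 = 𝟙 _) (c : ℤ) (m : ℕ)
    (hF : ∀ i, i < m → F (i + 1) = f i ≫ F i) (hK : (K 0).IsGE c)
    (hf : ∀ i, i < m → (homologyFunctor C (c + i)).map (f i) = 0) :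
    ∃ g : ((TStructure.t (C := C)).truncGT (c + m - 1)).obj (K m) ⟶ K 0,
      ((TStructure.t (C := C)).truncGTπ (c + m - 1)).app (K m) ≫ g = F m := by
  induction m with
  | zero =>
    have : (K 0).IsGE (c + ((0 : ℕ) : ℤ)) := by simpa using hK
    exact ⟨TStructure.t.descTruncGT (𝟙 (K 0)) _ (c + ((0 : ℕ) : ℤ)) (by omega), by
      rw [Triangulated.TStructure.π_descTruncGT, hF0]⟩
  | succ m hm =>
    obtain ⟨g, hg⟩ := hm (fun i hi => hF i (by omega)) (fun i hi => hf i (by omega))
    have : ((TStructure.t.truncGT (c + (m : ℤ) - 1)).obj (K m)).IsGE (c + m) :=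
      TStructure.t.isGE_truncGT_obj (K m) _ _ (by omega)
    obtain ⟨g', hg'⟩ := exists_factor_truncGT (c + (m : ℤ))
      (f m ≫ (TStructure.t.truncGTπ (c + (m : ℤ) - 1)).app (K m))
      (by rw [Functor.map_comp, hf m (by omega), zero_comp])
    rw [show c + ((m + 1 : ℕ) : ℤ) - 1 = c + (m : ℤ) by omega]
    exact ⟨g' ≫ g, by rw [← assoc, hg', hF m (by omega), ← hg, assoc]⟩

open DerivedCategory.TStructure in
lemma exists_lift_ιTruncLE {X : DerivedCategory C} (K : CochainComplex C ℤ) (c : ℤ) [X.IsLE c]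
    (f : X ⟶ Q.obj K) : ∃ g : X ⟶ Q.obj (K.truncLE c), g ≫ Q.map (K.ιTruncLE c) = f := by
  have : (K.truncLE c).IsLE c := inferInstance
  let u := t.liftTruncLE (Q.map (K.ιTruncLE c)) c
  have : IsIso u := by
    rw [DerivedCategory.isIso_iff]
    intro i
    by_cases hi : i ≤ c
    · have := isIso_homology_truncLEι (Q.obj K) c i hi
      have : IsIso ((homologyFunctor C i).map (Q.map (K.ιTruncLE c))) := by
        have := K.quasiIsoAt_ιTruncLE c i hi
        rw [quasiIsoAt_iff_isIso_homologyMap] at this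
        exact (NatIso.isIso_map_iff (homologyFunctorFactors C i) (K.ιTruncLE c)).2 this
      exact IsIso.of_isIso_fac_right
        ((Functor.map_comp _ _ _).symm.trans (congrArg _ (t.liftTruncLE_ι _ c)))
    · exact ⟨0, (isZero_of_isLE _ c i (by omega)).eq_of_src _ _,
        (isZero_of_isLE _ c i (by omega)).eq_of_src _ _⟩
  exact ⟨t.liftTruncLE f c ≫ inv u, by
    rw [assoc, (IsIso.inv_comp_eq u).2 (t.liftTruncLE_ι (Q.map (K.ιTruncLE c)) c).symm,
      t.liftTruncLE_ι]⟩

open DerivedCategory.TStructure in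
lemma exists_desc_πTruncGE {X : DerivedCategory C} (K : CochainComplex C ℤ) (c : ℤ) [X.IsGE c]
    (f : Q.obj K ⟶ X) : ∃ g : Q.obj (K.truncGE c) ⟶ X, Q.map (K.πTruncGE c) ≫ g = f := by
  have : (K.truncGE c).IsGE c := inferInstance
  let u := t.descTruncGT (Q.map (K.πTruncGE c)) (c - 1) c (by omega)
  have : IsIso u := by
    rw [DerivedCategory.isIso_iff]
    intro i
    by_cases hi : c ≤ i
    · have := isIso_homology_truncGTπ (Q.obj K) (c - 1) i (by omega)
      have : IsIso ((homologyFunctor C i).map (Q.map (K.πTruncGE c))) := by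
        have := K.quasiIsoAt_πTruncGE c i hi
        rw [quasiIsoAt_iff_isIso_homologyMap] at this
        exact (NatIso.isIso_map_iff (homologyFunctorFactors C i) (K.πTruncGE c)).2 this
      exact IsIso.of_isIso_fac_left
        ((Functor.map_comp _ _ _).symm.trans (congrArg _ (t.π_descTruncGT _ (c - 1) c (by omega))))
    · have : ((t.truncGT (c - 1)).obj (Q.obj K)).IsGE c := inferInstance
      exact ⟨0, (isZero_of_isGE _ c i (by omega)).eq_of_src _ _,
        (isZero_of_isGE _ c i (by omega)).eq_of_src _ _⟩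
  exact ⟨inv u ≫ t.descTruncGT f (c - 1) c (by omega), by
    rw [← assoc, (IsIso.comp_inv_eq u).2 (t.π_descTruncGT (Q.map (K.πTruncGE c)) (c - 1) c (by omega)).symm,
      t.π_descTruncGT]⟩

end Groth.Agent.DerCat
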