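import Groth.Agent.DerCat.RightResolution
import Mathlib.Algebra.Homology.Opposite
import Mathlib.CategoryTheory.Abelian.Opposite

/-!
Left resolutions of bounded above complexes by objects of a class covering every object.
-/

set_option autoImplicit false

noncomputable section

universe v u

open CategoryTheory Limits Opposite

namespace Groth.Agent.DerCat.LeftRes

variable {A : Type u} [Category.{v} A] [Abelian A]

/-- The opposite complex, reindexed. -/
def opC (K : CochainComplex A ℤ) : CochainComplex Aᵒᵖ ℤ where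
  X n := op (K.X (-n))
  d i j := (K.d (-j) (-i)).op
  shape i j h := by
    rw [K.shape, op_zero]
    simp only [ComplexShape.up_Rel] at h ⊢
    omega
  d_comp_d' _ _ _ _ _ := by rw [← op_comp, K.d_comp_d, op_zero]

/-- The opposite complex of a complex in the opposite category. -/
def unopC (L : CochainComplex Aᵒᵖ ℤ) : CochainComplex A ℤ where
  X n := (L.X (-n)).unop
  d i j := (L.d (-j) (-i)).unop
  shape i j h := by
    rw [L.shape, unop_zero]
    simp only [ComplexShape.up_Rel] at h ⊢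
    omega
  d_comp_d' _ _ _ _ _ := by rw [← unop_comp, L.d_comp_d, unop_zero]

/-- The opposite of a map. -/
def unopMapC {L M : CochainComplex Aᵒᵖ ℤ} (α : L ⟶ M) : unopC M ⟶ unopC L where
  f n := (α.f (-n)).unop
  comm' i j _ := by
    show (α.f (-i)).unop ≫ (L.d (-j) (-i)).unop = (M.d (-j) (-i)).unop ≫ (α.f (-j)).unop
    rw [← unop_comp, ← unop_comp, α.comm]

lemma quasiIso_unopMapC {L M : CochainComplex Aᵒᵖ ℤ} (α : L ⟶ M) [QuasiIso α] : QuasiIso (unopMapC α) := by
  refine ⟨fun n => ?_⟩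
  have h : QuasiIsoAt α (-n) := inferInstance
  rw [quasiIsoAt_iff' _ (n - 1) n (n + 1) (by simp) (by simp)]
  rw [quasiIsoAt_iff' _ (-(n + 1)) (-n) (-(n - 1)) (by simp; omega) (by simp; omega)] at h
  exact (ShortComplex.quasiIso_opMap_iff _).1 h

/-- Reindexing back. -/
def unopOpIso (K : CochainComplex A ℤ) : unopC (opC K) ≅ K :=
  HomologicalComplex.Hom.isoOfComponents (fun n => K.XIsoOfEq (neg_neg n)) fun i j _ => by
    show (K.XIsoOfEq (neg_neg i)).hom ≫ K.d i j = K.d (- -i) (- -j) ≫ (K.XIsoOfEq (neg_neg j)).hom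
    simp

variable (P : A → Prop) (hP : ∀ X : A, ∃ (Y : A) (π : Y ⟶ X), P Y ∧ Epi π) {Z : A} (hZ : IsZero Z) (hPZ : P Z)

include hP hZ hPZ in
/-- A quasi-isomorphism from a complex of the class, epimorphic in each degree. -/
theorem exists_resolution (K : CochainComplex A ℤ) (a : ℤ) [K.IsStrictlyLE a] :
    ∃ (Q : CochainComplex A ℤ) (α : Q ⟶ K), Q.IsStrictlyLE a ∧ (∀ n, P (Q.X n)) ∧ (∀ n, Epi (α.f n)) ∧
      QuasiIso α := by
  haveI : (opC K).IsStrictlyGE (-a) := (CochainComplex.isStrictlyGE_iff _ _).2 fun n hn =>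
    (K.isZero_of_isStrictlyLE a (-n) (by omega)).op
  obtain ⟨L, β, hL, hLP, hmono, hq⟩ := RightRes.exists_resolution (fun X : Aᵒᵖ => P X.unop) (opC K)
    (fun X => by
      obtain ⟨Y, π, hY, hπ⟩ := hP X.unop
      exact ⟨op Y, π.op, hY, inferInstanceAs (Mono π.op)⟩)
    (-a) (Z := op Z) hZ.op hPZ
  haveI := quasiIso_unopMapC β
  refine ⟨unopC L, unopMapC β ≫ (unopOpIso K).hom, (CochainComplex.isStrictlyLE_iff _ _).2 fun n hn =>
    (L.isZero_of_isStrictlyGE (-a) (-n) (by omega)).unop, fun n => hLP (-n), fun n => ?_, inferInstance⟩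
  haveI := hmono (-n)
  haveI : Epi ((unopMapC β).f n) := inferInstanceAs (Epi (β.f (-n)).unop)
  rw [HomologicalComplex.comp_f]
  infer_instance

end Groth.Agent.DerCat.LeftRes
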