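import Groth.Agent.DerCat.RightResolution
import Groth.Agent.RDerLES.LES
import Mathlib.Algebra.Homology.DerivedCategory.RightDerivedFunctorPlus
import Mathlib.Algebra.Homology.HomotopyCategory.MappingCone
import Mathlib.CategoryTheory.Abelian.Injective.Extend

/-!
Complexes of acyclic objects and the right derived functor on `D⁺`.
-/

set_option autoImplicit false

noncomputable section

universe w w' v v' u u'

open CategoryTheory Limits ZeroObject

namespace Groth.Agent.DerCat

variable {A : Type u} [Category.{v} A] [Abelian A] {B : Type u'} [Category.{v'} B] [Abelian B]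
  (F : A ⥤ B) [F.Additive]

/-- The cycles sequence of an exact complex. -/
def cyclesSeq (K : CochainComplex A ℤ) (n : ℤ) : ShortComplex A :=
  ShortComplex.mk (K.iCycles n) (K.toCycles n (n + 1)) (by
    rw [← cancel_mono (K.iCycles (n + 1)), Category.assoc, K.toCycles_i, K.iCycles_d, zero_comp])

lemma shortExact_cyclesSeq (K : CochainComplex A ℤ) (hex : ∀ n, K.ExactAt n) (n : ℤ) :
    (cyclesSeq K n).ShortExact := by
  haveI : Epi (K.toCycles n (n + 1)) := by
    rw [Preadditive.epi_iff_cancel_zero]
    intro T g hg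
    let d := (K.homologyIsCokernel n (n + 1) (by simp)).desc (CokernelCofork.ofπ g hg)
    have hd : K.homologyπ (n + 1) ≫ d = g :=
      (K.homologyIsCokernel n (n + 1) (by simp)).fac _ WalkingParallelPair.one
    rw [← hd, (((HomologicalComplex.exactAt_iff_isZero_homology _ _).1 (hex (n + 1))).eq_of_src d 0), comp_zero]
  haveI : Mono (cyclesSeq K n).f := inferInstanceAs (Mono (K.iCycles n))
  haveI : Epi (cyclesSeq K n).g := inferInstanceAs (Epi (K.toCycles n (n + 1)))
  refine ShortComplex.ShortExact.mk ?_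
  refine ShortComplex.exact_of_f_is_kernel _ ?_
  exact KernelFork.IsLimit.ofι' _ _ fun {T} g hg => ⟨K.liftCycles g (n + 1) (by simp) (by
      have := congrArg (· ≫ K.iCycles (n + 1)) hg
      change (g ≫ K.toCycles n (n + 1)) ≫ K.iCycles (n + 1) = (0 : T ⟶ K.cycles (n + 1)) ≫ K.iCycles (n + 1) at this
      rw [Category.assoc] at this
      exact ((congrArg (g ≫ ·) (K.toCycles_i n (n + 1))).symm.trans this).trans zero_comp), K.liftCycles_i _ _ _ _⟩

/-- An additive functor preserves exactness of bounded below exact complexes of a suitable class. -/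
lemma exactAt_map (P : ObjectProperty A) [P.IsClosedUnderIsomorphisms] (h0 : ∀ Z, IsZero Z → P Z)
    (h2 : ∀ S : ShortComplex A, S.ShortExact → P S.X₁ → P S.X₂ → P S.X₃ ∧ (S.map F).ShortExact)
    (K : CochainComplex A ℤ) (a : ℤ) [K.IsStrictlyGE a] (hex : ∀ n, K.ExactAt n) (hP : ∀ n, P (K.X n))
    (n : ℤ) : ((F.mapHomologicalComplex (ComplexShape.up ℤ)).obj K).ExactAt n := by
  have hZ : ∀ m, P (K.cycles m) := by
    intro m
    by_cases hm : m < a
    · refine h0 _ ?_
      rw [IsZero.iff_id_eq_zero, ← cancel_mono (K.iCycles m)]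
      exact (K.isZero_of_isStrictlyGE a m hm).eq_of_tgt _ _
    obtain ⟨k, rfl⟩ : ∃ k : ℕ, m = a + k := ⟨(m - a).toNat, by omega⟩
    clear hm
    induction k with
    | zero =>
      have hlt : a - 1 < a := by omega
      have h := (h2 _ (shortExact_cyclesSeq K hex (a - 1)) (h0 _ (by
        show IsZero (K.cycles (a - 1))
        rw [IsZero.iff_id_eq_zero, ← cancel_mono (K.iCycles (a - 1))]
        exact (K.isZero_of_isStrictlyGE a (a - 1) hlt).eq_of_tgt _ _)) (hP _)).1
      have h' : P (K.cycles (a - 1 + 1)) := h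
      simpa using h'
    | succ k ih =>
      have h := (h2 _ (shortExact_cyclesSeq K hex (a + k)) ih (hP _)).1
      have h' : P (K.cycles (a + k + 1)) := h
      simpa [add_assoc] using h'
  have hS : ∀ m, ((cyclesSeq K m).map F).ShortExact := fun m =>
    (h2 _ (shortExact_cyclesSeq K hex m) (hZ _) (hP _)).2
  obtain ⟨m, rfl⟩ : ∃ m, n = m + 1 := ⟨n - 1, by omega⟩
  haveI : Epi (F.map (K.toCycles m (m + 1))) := (hS m).epi_g
  haveI : Mono (F.map (K.iCycles (m + 2))) := (hS (m + 2)).mono_f
  rw [HomologicalComplex.exactAt_iff' _ m (m + 1) (m + 2) (by simp) (by simp; omega)]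
  let S₁ : ShortComplex B := ShortComplex.mk (F.map (K.toCycles m (m + 1) ≫ K.iCycles (m + 1)))
    (F.map (K.toCycles (m + 1) (m + 2))) (by
      have : K.iCycles (m + 1) ≫ K.toCycles (m + 1) (m + 2) = 0 := by
        rw [← cancel_mono (K.iCycles (m + 2)), Category.assoc, K.toCycles_i, K.iCycles_d, zero_comp]
      rw [← F.map_comp, Category.assoc, this, comp_zero, F.map_zero])
  have h₁ : S₁.Exact := by
    have he := (hS (m + 1)).exact
    let φ : S₁ ⟶ (cyclesSeq K (m + 1)).map F :=
      { τ₁ := F.map (K.toCycles m (m + 1))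
        τ₂ := 𝟙 _
        τ₃ := eqToHom (by simp [S₁, cyclesSeq, add_assoc])
        comm₁₂ := by
          show F.map (K.toCycles m (m + 1)) ≫ F.map (K.iCycles (m + 1)) = F.map (K.toCycles m (m + 1) ≫ K.iCycles (m + 1)) ≫ 𝟙 _
          rw [Category.comp_id, F.map_comp]
        comm₂₃ := by
          simp only [S₁, cyclesSeq, ShortComplex.map_g, Category.id_comp]
          have key : ∀ (j : ℤ) (hj : j = m + 2), F.map (K.toCycles (m + 1) j) =
              F.map (K.toCycles (m + 1) (m + 2)) ≫ eqToHom (by rw [hj]) := by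
            rintro j rfl; simp
          exact (Category.id_comp _).trans (key _ (show m + 1 + 1 = m + 2 by ring)) }
    haveI : Epi φ.τ₁ := inferInstanceAs (Epi (F.map (K.toCycles m (m + 1))))
    haveI : IsIso φ.τ₂ := inferInstanceAs (IsIso (𝟙 _))
    haveI : Mono φ.τ₃ := by dsimp [φ]; infer_instance
    exact (ShortComplex.exact_iff_of_epi_of_isIso_of_mono φ).2 he
  let ψ : S₁ ⟶ ((F.mapHomologicalComplex (ComplexShape.up ℤ)).obj K).sc' m (m + 1) (m + 2) :=
    { τ₁ := 𝟙 _
      τ₂ := 𝟙 _
      τ₃ := F.map (K.iCycles (m + 2))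
      comm₁₂ := by
        show 𝟙 _ ≫ F.map (K.d m (m + 1)) = F.map (K.toCycles m (m + 1) ≫ K.iCycles (m + 1)) ≫ 𝟙 _
        rw [Category.id_comp, Category.comp_id, K.toCycles_i]
      comm₂₃ := by
        show 𝟙 _ ≫ F.map (K.d (m + 1) (m + 2)) = F.map (K.toCycles (m + 1) (m + 2)) ≫ F.map (K.iCycles (m + 2))
        rw [Category.id_comp, ← F.map_comp, K.toCycles_i] }
  haveI : Epi ψ.τ₁ := inferInstanceAs (Epi (𝟙 _))
  haveI : IsIso ψ.τ₂ := inferInstanceAs (IsIso (𝟙 _))
  haveI : Mono ψ.τ₃ := inferInstanceAs (Mono (F.map (K.iCycles (m + 2))))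
  exact (ShortComplex.exact_iff_of_epi_of_isIso_of_mono ψ).1 h₁

section Cone

variable [HasDerivedCategory.{w} A] [HasDerivedCategory.{w'} B]

lemma quasiIso_iff_exactAt_cone {C : Type u} [Category.{v} C] [Abelian C] [HasDerivedCategory.{w} C]
    {K L : CochainComplex C ℤ} (φ : K ⟶ L) :
    QuasiIso φ ↔ ∀ n, (CochainComplex.mappingCone φ).ExactAt n := by
  rw [← DerivedCategory.isIso_Q_map_iff_quasiIso]
  have hT := DerivedCategory.mappingCone_triangle_distinguished φ
  refine (Pretriangulated.Triangle.isZero₃_iff_isIso₁ _ hT).symm.trans ?_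
  constructor
  · intro hz n
    rw [HomologicalComplex.exactAt_iff_isZero_homology]
    exact ((DerivedCategory.homologyFunctor C n).map_isZero hz).of_iso
      ((DerivedCategory.homologyFunctorFactors C n).app (CochainComplex.mappingCone φ)).symm
  · intro h
    show IsZero (DerivedCategory.Q.obj (CochainComplex.mappingCone φ))
    haveI : QuasiIso (0 : CochainComplex.mappingCone φ ⟶ (0 : CochainComplex C ℤ)) := ⟨fun n => by
      rw [quasiIsoAt_iff_exactAt _ _ (h n)]
      exact HomologicalComplex.ExactAt.of_isZero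
        ((HomologicalComplex.eval C _ n).map_isZero (isZero_zero _))⟩
    exact (DerivedCategory.Q.map_isZero (isZero_zero _)).of_iso
      (asIso (DerivedCategory.Q.map (0 : CochainComplex.mappingCone φ ⟶ (0 : CochainComplex C ℤ))))

/-- An additive functor preserves quasi-isomorphisms of bounded below complexes of a suitable class. -/
lemma quasiIso_map (P : ObjectProperty A) [P.IsClosedUnderIsomorphisms] (h0 : ∀ Z, IsZero Z → P Z)
    (h2 : ∀ S : ShortComplex A, S.ShortExact → P S.X₁ → P S.X₂ → P S.X₃ ∧ (S.map F).ShortExact)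
    {K L : CochainComplex A ℤ} (φ : K ⟶ L) [QuasiIso φ] (a : ℤ)
    [(CochainComplex.mappingCone φ).IsStrictlyGE a] (hP : ∀ n, P ((CochainComplex.mappingCone φ).X n)) :
    QuasiIso ((F.mapHomologicalComplex (ComplexShape.up ℤ)).map φ) := by
  rw [quasiIso_iff_exactAt_cone]
  intro n
  exact HomologicalComplex.ExactAt.of_iso
    (exactAt_map F P h0 h2 _ a ((quasiIso_iff_exactAt_cone φ).1 inferInstance) hP n)
    (CochainComplex.mappingCone.mapHomologicalComplexIso φ F)

lemma isStrictlyGE_cone {K L : CochainComplex A ℤ} (φ : K ⟶ L) (a : ℤ) [K.IsStrictlyGE a] [L.IsStrictlyGE a] :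
    (CochainComplex.mappingCone φ).IsStrictlyGE (a - 1) := by
  rw [CochainComplex.isStrictlyGE_iff]
  intro n hn
  refine IsZero.of_iso ?_ (HomologicalComplex.homotopyCofiber.XIsoBiprod φ n (n + 1) rfl)
  rw [biprod_isZero_iff]
  exact ⟨K.isZero_of_isStrictlyGE a _ (by omega), L.isZero_of_isStrictlyGE a _ (by omega)⟩

end Cone

section Derived

variable [HasDerivedCategory.{w} A] [HasDerivedCategory.{w'} B] [EnoughInjectives A]

/-- The unit at a complex with a given injective resolution. -/
lemma isIso_unit_iff {K L : CochainComplex.Plus A} (s : K ⟶ L) [QuasiIso s.hom]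
    (hL : ∀ n, Injective (L.obj.X n)) :
    IsIso (F.rightDerivedFunctorPlusUnit.app ((HomotopyCategory.Plus.quotient A).obj K)) ↔
      QuasiIso ((F.mapHomologicalComplex (ComplexShape.up ℤ)).map s.hom) := by
  let q := HomotopyCategory.Plus.quotient A
  let L' : CochainComplex.Plus (InjectiveObject A) :=
    ⟨HomologicalComplex.liftObjectProperty _ L.obj hL, L.property.choose, by
      have := L.property.choose_spec
      rw [← CochainComplex.isStrictlyGE_mapHomologicalComplex_obj_iff _ (InjectiveObject.ι A)]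
      exact this⟩
  haveI hu : IsIso (F.rightDerivedFunctorPlusUnit.app (q.obj L)) :=
    inferInstanceAs (IsIso (F.rightDerivedFunctorPlusUnit.app
      ((HomotopyCategory.Plus.quotient A).obj ((InjectiveObject.ι A).mapCochainComplexPlus.obj L'))))
  have hnat := F.rightDerivedFunctorPlusUnit.naturality (q.map s)
  dsimp at hnat
  haveI : IsIso (DerivedCategory.Plus.Qh.map (q.map s)) := by
    have : IsIso (DerivedCategory.Plus.ι.map (DerivedCategory.Plus.Qh.map (q.map s))) := by
      show IsIso (DerivedCategory.Qh.map ((HomotopyCategory.quotient A _).map s.hom))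
      exact (NatIso.isIso_map_iff (DerivedCategory.quotientCompQhIso A).symm _).1
        ((DerivedCategory.isIso_Q_map_iff_quasiIso _ s.hom).2 inferInstance)
    exact isIso_of_reflects_iso _ DerivedCategory.Plus.ι
  have h1 : IsIso (F.rightDerivedFunctorPlusUnit.app (q.obj K)) ↔
      IsIso (DerivedCategory.Plus.Qh.map (F.mapHomotopyCategoryPlus.map (q.map s))) := by
    constructor
    · intro hK
      have : IsIso (DerivedCategory.Plus.Qh.map (F.mapHomotopyCategoryPlus.map (q.map s)) ≫
          F.rightDerivedFunctorPlusUnit.app (q.obj L)) := by rw [hnat]; infer_instance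
      exact IsIso.of_isIso_comp_right _ (F.rightDerivedFunctorPlusUnit.app (q.obj L))
    · intro h
      have : IsIso (F.rightDerivedFunctorPlusUnit.app (q.obj K) ≫
          F.rightDerivedFunctorPlus.map (DerivedCategory.Plus.Qh.map (q.map s))) := by
        rw [← hnat]; infer_instance
      exact IsIso.of_isIso_comp_right _ (F.rightDerivedFunctorPlus.map (DerivedCategory.Plus.Qh.map (q.map s)))
  rw [h1, ← isIso_iff_of_reflects_iso _ DerivedCategory.Plus.ι, ← DerivedCategory.isIso_Q_map_iff_quasiIso]
  exact (NatIso.isIso_map_iff (DerivedCategory.quotientCompQhIso B) _)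

omit [HasDerivedCategory.{w} A] in
/-- An injective resolution. -/
lemma exists_injective_plus (K : CochainComplex A ℤ) (a : ℤ) [K.IsStrictlyGE a] :
    ∃ (L : CochainComplex A ℤ) (s : K ⟶ L), QuasiIso s ∧ (∀ n, Injective (L.X n)) ∧ L.IsStrictlyGE a := by
  obtain ⟨L, i, hi, hL, hL'⟩ := CochainComplex.Plus.modelCategoryQuillen.exists_quasiIso_injective K a
  exact ⟨L, i, hi, hL, hL'⟩

end Derived

end Groth.Agent.DerCat
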