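import Mathlib.Algebra.Homology.Embedding.CochainComplex
import Mathlib.Algebra.Homology.ShortComplex.Abelian
import Mathlib.Algebra.Homology.QuasiIso
import Mathlib.CategoryTheory.Abelian.CommSq
import Mathlib.CategoryTheory.Abelian.Refinements

/-!
Right resolutions of bounded below complexes by objects of a class receiving monomorphisms from every object.
-/

set_option autoImplicit false

noncomputable section

universe v u

open CategoryTheory Limits

namespace Groth.Agent.DerCat.RightRes

variable {A : Type u} [Category.{v} A] [Abelian A] (I : A → Prop) (K : CochainComplex A ℤ)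

/-- One degree of the resolution. -/
structure St (n : ℤ) where
  L : A
  mem : I L
  α : K.X n ⟶ L
  hα : Mono α
  Q : A
  π : L ⟶ Q
  hπ : Epi π
  c : K.opcycles n ⟶ Q
  hc : Mono c
  comm : K.pOpcycles n ≫ c = α ≫ π

/-- Two consecutive degrees. -/
def Step {m n : ℤ} (s : St I K m) (t : St I K n) : Prop :=
  ∃ δ : s.Q ⟶ t.L, s.c ≫ δ = K.fromOpcycles m n ≫ t.α ∧
    (δ ≫ t.π = 0 ∧ ∀ ⦃T : A⦄ (g : t.L ⟶ T), δ ≫ g = 0 → ∃ g' : t.Q ⟶ T, t.π ≫ g' = g) ∧
      ∀ ⦃T : A⦄ (x : T ⟶ s.Q), x ≫ δ = 0 → ∃ y : T ⟶ K.opcycles m, y ≫ s.c = x ∧ y ≫ K.fromOpcycles m n = 0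

variable (hI : ∀ X : A, ∃ (Y : A) (ι : X ⟶ Y), I Y ∧ Mono ι)

lemma exists_next {m n : ℤ} (h : m + 1 = n) (s : St I K m) (hI : ∀ X : A, ∃ (Y : A) (ι : X ⟶ Y), I Y ∧ Mono ι) :
    ∃ t : St I K n, Step I K s t := by
  haveI := s.hc
  let f := K.fromOpcycles m n
  obtain ⟨Y, ι, hY, hι⟩ := hI (pushout f s.c)
  haveI : Mono (pushout.inl f s.c) := inferInstance
  let δ : s.Q ⟶ Y := pushout.inr f s.c ≫ ι
  let α : K.X n ⟶ Y := pushout.inl f s.c ≫ ι
  have hcomm : s.c ≫ δ = f ≫ α := by
    simp only [δ, α, ← Category.assoc, pushout.condition]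
  have hd : K.d m n ≫ α ≫ cokernel.π δ = 0 := by
    rw [← K.p_fromOpcycles m n, Category.assoc, ← Category.assoc (K.fromOpcycles m n), ← hcomm]
    simp
  let c : K.opcycles n ⟶ cokernel δ :=
    K.descOpcycles (α ≫ cokernel.π δ) m ((ComplexShape.up ℤ).prev_eq' h) hd
  have hc : Mono c := by
    rw [Preadditive.mono_iff_cancel_zero]
    intro T x hx
    obtain ⟨T', p, _, z, hz⟩ := surjective_up_to_refinements_of_epi (K.pOpcycles n) x
    have h0 : (z ≫ α) ≫ cokernel.π δ = 0 := by
      have := congrArg (p ≫ ·) hx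
      simp only [comp_zero] at this
      rw [← Category.assoc, hz, Category.assoc, HomologicalComplex.p_descOpcycles] at this
      rw [Category.assoc]; exact this
    obtain ⟨T'', q, _, w, hw⟩ := (ShortComplex.exact_of_g_is_cokernel (ShortComplex.mk δ (cokernel.π δ) (cokernel.condition δ))
      (cokernelIsCokernel δ)).exact_up_to_refinements (z ≫ α) h0
    have hw' : (q ≫ z) ≫ pushout.inl f s.c = w ≫ pushout.inr f s.c := by
      rw [← cancel_mono ι]
      simpa [α, δ] using hw
    have hfp : f ≫ K.pOpcycles n = 0 := by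
      rw [← cancel_epi (K.pOpcycles m), ← Category.assoc, K.p_fromOpcycles, K.d_pOpcycles, comp_zero]
    let r : pushout f s.c ⟶ K.opcycles n := pushout.desc (K.pOpcycles n) 0 (by rw [hfp, comp_zero])
    have h1 := congrArg (· ≫ r) hw'
    simp only [Category.assoc, r, pushout.inl_desc, pushout.inr_desc, comp_zero] at h1
    rw [← hz] at h1
    rw [← Category.assoc] at h1
    exact (cancel_epi (q ≫ p)).1 (h1.trans comp_zero.symm)
  refine ⟨⟨Y, hY, α, inferInstance, cokernel δ, cokernel.π δ, inferInstance, c, hc, ?_⟩,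
    δ, hcomm, ⟨cokernel.condition δ, fun T g hg => ⟨cokernel.desc δ g hg, cokernel.π_desc _ _ _⟩⟩, ?_⟩
  · exact K.p_descOpcycles _ _ _ _
  · intro T x hx
    have hx' : x ≫ pushout.inr f s.c = 0 := by
      rw [← cancel_mono ι, Category.assoc, zero_comp]; exact hx
    let φ := kernel.map f (pushout.inr f s.c) s.c (pushout.inl f s.c) pushout.condition
    haveI : Epi φ := Abelian.epi_kernel_map_of_isPushout (IsPushout.of_hasPushout f s.c)
    haveI : Mono φ := mono_of_mono_fac (kernel.lift_ι _ _ _ : φ ≫ kernel.ι _ = kernel.ι f ≫ s.c)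
    haveI : IsIso φ := isIso_of_mono_of_epi φ
    refine ⟨kernel.lift _ x hx' ≫ inv φ ≫ kernel.ι f, ?_, ?_⟩
    · have hφ : φ ≫ kernel.ι (pushout.inr f s.c) = kernel.ι f ≫ s.c := kernel.lift_ι _ _ _
      rw [Category.assoc, Category.assoc, ← hφ, IsIso.inv_hom_id_assoc, kernel.lift_ι]
    · simp [f]

variable (a : ℤ) [K.IsStrictlyGE a] {Z : A} (hZ : IsZero Z) (hIZ : I Z)

/-- The zero degrees. -/
def base (n : ℤ) (h : n < a) : St I K n where
  L := Z
  mem := hIZ
  α := 0
  hα := ⟨fun _ _ _ => (K.isZero_of_isStrictlyGE a n h).eq_of_tgt _ _⟩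
  Q := Z
  π := 𝟙 Z
  hπ := inferInstance
  c := 0
  hc := by
    have h0 : IsZero (K.opcycles n) := by
      rw [IsZero.iff_id_eq_zero, ← cancel_epi (K.pOpcycles n)]
      exact (K.isZero_of_isStrictlyGE a n h).eq_of_src _ _
    exact ⟨fun _ _ _ => h0.eq_of_tgt _ _⟩
  comm := by simp

/-- All degrees. -/
def st (n : ℤ) : St I K n :=
  if h : n < a then base I K a hIZ n h
  else (exists_next I K (show n - 1 + 1 = n by omega) (st (n - 1)) hI).choose
termination_by (n - a + 1).toNat
decreasing_by omega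

include hZ in
lemma step_st (n : ℤ) : Step I K (st I K hI a hIZ n) (st I K hI a hIZ (n + 1)) := by
  suffices h : ∀ m k : ℤ, m + 1 = k → Step I K (st I K hI a hIZ m) (st I K hI a hIZ k) from h n _ rfl
  intro m k hk
  obtain rfl : m = k - 1 := by omega
  conv => arg 4; rw [st]
  split_ifs with h
  · rw [st, dif_pos (show k - 1 < a by omega)]
    exact ⟨0, hZ.eq_of_tgt _ _,
      ⟨zero_comp, fun T g _ => ⟨g, Category.id_comp _⟩⟩,
      fun T x _ => ⟨0, hZ.eq_of_tgt _ _, zero_comp⟩⟩
  · exact (exists_next I K (show k - 1 + 1 = k by omega) (st I K hI a hIZ (k - 1)) hI).choose_spec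

include hI hZ hIZ in
/-- A quasi-isomorphism into a complex of the class, monomorphic in each degree. -/
theorem exists_resolution :
    ∃ (L : CochainComplex A ℤ) (α : K ⟶ L), L.IsStrictlyGE a ∧ (∀ n, I (L.X n)) ∧ (∀ n, Mono (α.f n)) ∧
      QuasiIso α := by
  let S := st I K hI a hIZ
  choose δ hδc hδcok hδker using fun n => step_st I K hI a hZ hIZ n
  let L : CochainComplex A ℤ := CochainComplex.of (fun n => (S n).L) (fun n => (S n).π ≫ δ n) (fun n => by
    rw [Category.assoc, reassoc_of% (hδcok n).1, zero_comp, comp_zero])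
  have hL : ∀ n, L.d n (n + 1) = (S n).π ≫ δ n := fun n => by simp [L]
  let α : K ⟶ L :=
    { f := fun n => (S n).α
      comm' := fun i j (h : i + 1 = j) => by
        subst h
        show (S i).α ≫ L.d i (i + 1) = K.d i (i + 1) ≫ (S (i + 1)).α
        rw [hL, ← Category.assoc, ← (S i).comm, Category.assoc]
        erw [hδc i]
        rw [← Category.assoc, K.p_fromOpcycles] }
  refine ⟨L, α, (CochainComplex.isStrictlyGE_iff _ _).2 fun n hn => ?_, fun n => (S n).mem, fun n => (S n).hα,
    ⟨fun n => ?_⟩⟩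
  · show IsZero (S n).L
    simp only [S]
    rw [st, dif_pos hn]
    exact hZ
  · haveI := (S n).hπ
    haveI := (S n).hc
    have hd0 : L.d (n - 1) n ≫ (S n).π = 0 := by
      obtain ⟨m, rfl⟩ : ∃ m, n = m + 1 := ⟨n - 1, by omega⟩
      rw [show m + 1 - 1 = m by omega, hL, Category.assoc, (hδcok m).1, comp_zero]
    let e : L.opcycles n ⟶ (S n).Q := L.descOpcycles (S n).π (n - 1) (by simp) hd0
    have he : L.pOpcycles n ≫ e = (S n).π := L.p_descOpcycles _ _ _ _
    obtain ⟨e', he'⟩ : ∃ e' : (S n).Q ⟶ L.opcycles n, (S n).π ≫ e' = L.pOpcycles n := by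
      obtain ⟨m, rfl⟩ : ∃ m, n = m + 1 := ⟨n - 1, by omega⟩
      refine (hδcok m).2 _ ?_
      haveI := (S m).hπ
      rw [← cancel_epi (S m).π, ← Category.assoc, ← hL, comp_zero, L.d_pOpcycles]
    haveI : IsIso e := ⟨e', by rw [← cancel_epi (L.pOpcycles n), reassoc_of% he, he', Category.comp_id],
      by rw [← cancel_epi (S n).π, reassoc_of% he', he, Category.comp_id]⟩
    have hop : HomologicalComplex.opcyclesMap α n ≫ e = (S n).c := by
      rw [← cancel_epi (K.pOpcycles n), HomologicalComplex.p_opcyclesMap_assoc, he, (S n).comm]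
    have hfrom : e ≫ δ n = L.fromOpcycles n (n + 1) := by
      rw [← cancel_epi (L.pOpcycles n), reassoc_of% he, L.p_fromOpcycles, hL]
    rw [quasiIsoAt_iff_isIso_homologyMap]
    haveI : Mono (HomologicalComplex.homologyMap α n) := by
      have : Mono (HomologicalComplex.homologyMap α n ≫ L.homologyι n ≫ e) := by
        rw [HomologicalComplex.homologyι_naturality_assoc, hop]; infer_instance
      exact mono_of_mono _ (L.homologyι n ≫ e)
    haveI : Epi (HomologicalComplex.homologyMap α n) := by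
      obtain ⟨y, hy, hy0⟩ := hδker n (L.homologyι n ≫ e) (by
        rw [Category.assoc, hfrom, L.homologyι_comp_fromOpcycles])
      let z : L.homology n ⟶ K.homology n :=
        (K.homologyIsKernel n (n + 1) (by simp)).lift (KernelFork.ofι y hy0)
      have hz : z ≫ K.homologyι n = y :=
        (K.homologyIsKernel n (n + 1) (by simp)).fac _ WalkingParallelPair.zero
      have hzid : z ≫ HomologicalComplex.homologyMap α n = 𝟙 _ := by
        rw [← cancel_mono (L.homologyι n), Category.assoc, HomologicalComplex.homologyι_naturality,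
          reassoc_of% hz, ← cancel_mono e, Category.assoc, hop, hy, Category.id_comp]
      exact (SplitEpi.mk z hzid).epi
    exact isIso_of_mono_of_epi _

end Groth.Agent.DerCat.RightRes
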