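import Groth.Agent.DerCat.LeftResolution
import Mathlib.Algebra.Homology.HomologySequenceLemmas
import Mathlib.Algebra.Homology.HomologicalComplexAbelian
import Mathlib.CategoryTheory.Preadditive.Injective.Basic
import Mathlib.CategoryTheory.Preadditive.Projective.Basic

/-!
Injective and projective resolutions of short exact sequences of bounded complexes.
-/

set_option autoImplicit false

noncomputable section

universe v u

open CategoryTheory Limits

namespace Groth.Agent.DerCat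

variable {A : Type u} [Category.{v} A] [Abelian A]

lemma mono_f' {K L : CochainComplex A ℤ} (f : K ⟶ L) [Mono f] (k : ℤ) : Mono (f.f k) :=
  inferInstanceAs (Mono ((HomologicalComplex.eval A (ComplexShape.up ℤ) k).map f))

lemma epi_f' {K L : CochainComplex A ℤ} (f : K ⟶ L) [Epi f] (k : ℤ) : Epi (f.f k) :=
  inferInstanceAs (Epi ((HomologicalComplex.eval A (ComplexShape.up ℤ) k).map f))

section FiveLemma

open HomologicalComplex HomologicalComplex.HomologySequence ComposableArrows Abelian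

variable {S₁ S₂ : ShortComplex (CochainComplex A ℤ)} (φ : S₁ ⟶ S₂) (h₁ : S₁.ShortExact) (h₂ : S₂.ShortExact)

include h₁ h₂

lemma quasiIso_τ₂ (q₁ : QuasiIso φ.τ₁) (q₃ : QuasiIso φ.τ₃) : QuasiIso φ.τ₂ := by
  refine ⟨fun i => ?_⟩
  rw [quasiIsoAt_iff_isIso_homologyMap]
  have hm : Mono (homologyMap φ.τ₂ i) := by
    apply mono_of_epi_of_mono_of_mono
      ((δ₀Functor ⋙ δ₀Functor).map (mapComposableArrows₅ φ h₁ h₂ (i - 1) i (by simp)))
    · exact (composableArrows₅_exact h₁ (i - 1) i (by simp)).δ₀.δ₀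
    · exact (composableArrows₅_exact h₂ (i - 1) i (by simp)).δ₀.δ₀
    · exact inferInstanceAs (Epi (homologyMap φ.τ₃ (i - 1)))
    · exact inferInstanceAs (Mono (homologyMap φ.τ₁ i))
    · exact inferInstanceAs (Mono (homologyMap φ.τ₃ i))
  have he : Epi (homologyMap φ.τ₂ i) := by
    apply epi_of_epi_of_epi_of_mono
      ((δlastFunctor ⋙ δlastFunctor).map (mapComposableArrows₅ φ h₁ h₂ i (i + 1) (by simp)))
    · exact (composableArrows₅_exact h₁ i (i + 1) (by simp)).δlast.δlast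
    · exact (composableArrows₅_exact h₂ i (i + 1) (by simp)).δlast.δlast
    · exact inferInstanceAs (Epi (homologyMap φ.τ₁ i))
    · exact inferInstanceAs (Epi (homologyMap φ.τ₃ i))
    · exact inferInstanceAs (Mono (homologyMap φ.τ₁ (i + 1)))
  exact isIso_of_mono_of_epi _

lemma quasiIso_τ₁ (q₂ : QuasiIso φ.τ₂) (q₃ : QuasiIso φ.τ₃) : QuasiIso φ.τ₁ := by
  refine ⟨fun i => ?_⟩
  rw [quasiIsoAt_iff_isIso_homologyMap]
  have hm : Mono (homologyMap φ.τ₁ i) := by
    apply mono_of_epi_of_mono_of_mono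
      ((δ₀Functor ⋙ δlastFunctor).map (mapComposableArrows₅ φ h₁ h₂ (i - 1) i (by simp)))
    · exact (composableArrows₅_exact h₁ (i - 1) i (by simp)).δ₀.δlast
    · exact (composableArrows₅_exact h₂ (i - 1) i (by simp)).δ₀.δlast
    · exact inferInstanceAs (Epi (homologyMap φ.τ₂ (i - 1)))
    · exact inferInstanceAs (Mono (homologyMap φ.τ₃ (i - 1)))
    · exact inferInstanceAs (Mono (homologyMap φ.τ₂ i))
  have he : Epi (homologyMap φ.τ₁ i) := by
    apply epi_of_epi_of_epi_of_mono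
      ((δ₀Functor ⋙ δ₀Functor).map (mapComposableArrows₅ φ h₁ h₂ (i - 1) i (by simp)))
    · exact (composableArrows₅_exact h₁ (i - 1) i (by simp)).δ₀.δ₀
    · exact (composableArrows₅_exact h₂ (i - 1) i (by simp)).δ₀.δ₀
    · exact inferInstanceAs (Epi (homologyMap φ.τ₃ (i - 1)))
    · exact inferInstanceAs (Epi (homologyMap φ.τ₂ i))
    · exact inferInstanceAs (Mono (homologyMap φ.τ₃ i))
  exact isIso_of_mono_of_epi _

end FiveLemma

theorem exists_injective_ses [EnoughInjectives A] (S : ShortComplex (CochainComplex A ℤ)) (hS : S.ShortExact)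
    (n : ℤ) [S.X₁.IsStrictlyGE n] [S.X₂.IsStrictlyGE n] [S.X₃.IsStrictlyGE n] :
    ∃ (T : ShortComplex (CochainComplex A ℤ)) (φ : S ⟶ T), T.ShortExact ∧
      T.X₁.IsStrictlyGE n ∧ T.X₂.IsStrictlyGE n ∧ T.X₃.IsStrictlyGE n ∧
      (∀ k : ℤ, Injective (T.X₁.X k) ∧ Injective (T.X₂.X k) ∧ Injective (T.X₃.X k)) ∧
      QuasiIso φ.τ₁ ∧ QuasiIso φ.τ₂ ∧ QuasiIso φ.τ₃ := by
  have hI : ∀ X : A, ∃ (Y : A) (ι : X ⟶ Y), Injective Y ∧ Mono ι := fun X =>
    ⟨Injective.under X, Injective.ι X, inferInstance, inferInstance⟩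
  obtain ⟨Z, hZ⟩ : ∃ Z : A, IsZero Z := HasZeroObject.zero
  obtain ⟨I₁, α, hI₁, hI₁', hαm, hα⟩ := RightRes.exists_resolution _ S.X₁ hI n hZ hZ.injective
  haveI := hS.mono_f
  haveI := hS.epi_g
  haveI : Mono α := HomologicalComplex.mono_of_mono_f α hαm
  let P := pushout α S.f
  let gP : P ⟶ S.X₃ := pushout.desc (0 : I₁ ⟶ S.X₃) S.g (by rw [comp_zero, S.zero])
  let U : ShortComplex (CochainComplex A ℤ) :=
    ShortComplex.mk (pushout.inl α S.f) gP (pushout.inl_desc _ _ _)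
  let ψ : S ⟶ U :=
    { τ₁ := α
      τ₂ := pushout.inr α S.f
      τ₃ := 𝟙 _
      comm₁₂ := pushout.condition
      comm₂₃ := (pushout.inr_desc _ _ _).trans (Category.comp_id _).symm }
  haveI : Mono U.f := inferInstanceAs (Mono (pushout.inl α S.f))
  haveI : Epi U.g := epi_of_epi_fac (pushout.inr_desc (0 : I₁ ⟶ S.X₃) S.g (by rw [comp_zero, S.zero]))
  have hU : U.ShortExact := by
    refine ShortComplex.ShortExact.mk (ShortComplex.exact_of_g_is_cokernel _ ?_)
    refine CokernelCofork.IsColimit.ofπ' _ _ fun {T} k hk => ⟨hS.exact.desc (pushout.inr α S.f ≫ k) (by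
      rw [← reassoc_of% (pushout.condition (f := α) (g := S.f))]
      simp only [U] at hk
      rw [hk, comp_zero]), ?_⟩
    apply pushout.hom_ext
    · show pushout.inl α S.f ≫ gP ≫ _ = pushout.inl α S.f ≫ k
      rw [← Category.assoc, pushout.inl_desc, zero_comp]
      exact hk.symm
    · show pushout.inr α S.f ≫ gP ≫ _ = pushout.inr α S.f ≫ k
      rw [← Category.assoc, pushout.inr_desc, hS.exact.g_desc]
  have hq₂ : QuasiIso ψ.τ₂ :=
    quasiIso_τ₂ ψ hS hU hα (inferInstanceAs (QuasiIso (𝟙 S.X₃)))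
  haveI hP : P.IsStrictlyGE n := (CochainComplex.isStrictlyGE_iff _ _).2 fun i hi =>
    ((hU.map_of_exact (HomologicalComplex.eval A (ComplexShape.up ℤ) i)).exact).isZero_X₂
      ((I₁.isZero_of_isStrictlyGE n i hi).eq_of_src _ _) ((S.X₃.isZero_of_isStrictlyGE n i hi).eq_of_tgt _ _)
  obtain ⟨I₂, β, hI₂, hI₂', hβm, hβ⟩ := RightRes.exists_resolution _ P hI n hZ hZ.injective
  haveI : Mono β := HomologicalComplex.mono_of_mono_f β hβm
  let f' : I₁ ⟶ I₂ := pushout.inl α S.f ≫ β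
  let T : ShortComplex (CochainComplex A ℤ) := ShortComplex.mk f' (cokernel.π f') (cokernel.condition f')
  haveI : Mono T.f := mono_comp _ _
  haveI : Epi T.g := inferInstanceAs (Epi (cokernel.π f'))
  have hT : T.ShortExact :=
    ShortComplex.ShortExact.mk (ShortComplex.exact_of_g_is_cokernel _ (cokernelIsCokernel f'))
  let χ : U ⟶ T :=
    { τ₁ := 𝟙 _
      τ₂ := β
      τ₃ := hU.exact.desc (β ≫ cokernel.π f') (by rw [← Category.assoc]; exact cokernel.condition f')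
      comm₁₂ := Category.id_comp _
      comm₂₃ := (hU.exact.g_desc _ _).symm }
  have hq₃ : QuasiIso χ.τ₃ :=
    HomologicalComplex.HomologySequence.quasiIso_τ₃ χ hU hT (inferInstanceAs (QuasiIso (𝟙 I₁))) hβ
  have hspl : ∀ k, Injective (T.X₃.X k) := fun k => by
    haveI : Mono (T.f.f k) := mono_f' T.f k
    haveI : Injective (T.X₁.X k) := hI₁' k
    haveI : Injective (T.map (HomologicalComplex.eval A (ComplexShape.up ℤ) k)).X₁ := hI₁' k
    let r : T.X₂.X k ⟶ T.X₁.X k := Injective.factorThru (𝟙 (T.X₁.X k)) (T.f.f k)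
    have hr : T.f.f k ≫ r = 𝟙 _ := Injective.comp_factorThru _ _
    let sp := ShortComplex.Splitting.ofExactOfRetraction (T.map (HomologicalComplex.eval A (ComplexShape.up ℤ) k))
      (hT.map_of_exact _).exact r hr (hT.map_of_exact _).epi_g
    haveI : Injective (T.X₂.X k) := hI₂' k
    exact Retract.injective (Y := T.X₂.X k) ⟨sp.s, T.g.f k, sp.s_g⟩
  haveI : QuasiIso ψ.τ₁ := hα
  refine ⟨T, ψ ≫ χ, hT, hI₁, hI₂, (CochainComplex.isStrictlyGE_iff _ _).2 fun i hi => ?_,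
    fun k => ⟨hI₁' k, hI₂' k, hspl k⟩, ?_, ?_, ?_⟩
  · haveI : Epi (T.g.f i) := epi_f' T.g i
    rw [IsZero.iff_id_eq_zero, ← cancel_epi (T.g.f i)]
    exact (I₂.isZero_of_isStrictlyGE n i hi).eq_of_src _ _
  · show QuasiIso (ψ.τ₁ ≫ 𝟙 _)
    infer_instance
  · haveI := hq₂
    haveI : QuasiIso χ.τ₂ := hβ
    show QuasiIso (ψ.τ₂ ≫ χ.τ₂)
    infer_instance
  · haveI := hq₃
    show QuasiIso (𝟙 _ ≫ χ.τ₃)
    infer_instance

theorem exists_projective_ses [EnoughProjectives A] (S : ShortComplex (CochainComplex A ℤ)) (hS : S.ShortExact)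
    (n : ℤ) [S.X₁.IsStrictlyLE n] [S.X₂.IsStrictlyLE n] [S.X₃.IsStrictlyLE n] :
    ∃ (T : ShortComplex (CochainComplex A ℤ)) (φ : T ⟶ S), T.ShortExact ∧
      T.X₁.IsStrictlyLE n ∧ T.X₂.IsStrictlyLE n ∧ T.X₃.IsStrictlyLE n ∧
      (∀ k : ℤ, Projective (T.X₁.X k) ∧ Projective (T.X₂.X k) ∧ Projective (T.X₃.X k)) ∧
      QuasiIso φ.τ₁ ∧ QuasiIso φ.τ₂ ∧ QuasiIso φ.τ₃ := by
  have hP : ∀ X : A, ∃ (Y : A) (π : Y ⟶ X), Projective Y ∧ Epi π := fun X =>
    ⟨Projective.over X, Projective.π X, inferInstance, inferInstance⟩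
  obtain ⟨Z, hZ⟩ : ∃ Z : A, IsZero Z := HasZeroObject.zero
  obtain ⟨P₃, α, hP₃, hP₃', hαm, hα⟩ := LeftRes.exists_resolution _ hP hZ hZ.projective S.X₃ n
  haveI := hS.mono_f
  haveI := hS.epi_g
  haveI : Epi α := HomologicalComplex.epi_of_epi_f α hαm
  let Q := pullback α S.g
  let fQ : S.X₁ ⟶ Q := pullback.lift (0 : S.X₁ ⟶ P₃) S.f (by rw [zero_comp, S.zero])
  let U : ShortComplex (CochainComplex A ℤ) :=
    ShortComplex.mk fQ (pullback.fst α S.g) (pullback.lift_fst _ _ _)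
  let ψ : U ⟶ S :=
    { τ₁ := 𝟙 _
      τ₂ := pullback.snd α S.g
      τ₃ := α
      comm₁₂ := (Category.id_comp _).trans (pullback.lift_snd _ _ _).symm
      comm₂₃ := pullback.condition.symm }
  haveI : Epi U.g := inferInstanceAs (Epi (pullback.fst α S.g))
  haveI : Mono U.f := mono_of_mono_fac (pullback.lift_snd (0 : S.X₁ ⟶ P₃) S.f (by rw [zero_comp, S.zero]))
  have hU : U.ShortExact := by
    refine ShortComplex.ShortExact.mk (ShortComplex.exact_of_f_is_kernel _ ?_)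
    refine KernelFork.IsLimit.ofι' _ _ fun {T} k hk => ⟨hS.exact.lift (k ≫ pullback.snd α S.g) (by
      rw [Category.assoc, ← pullback.condition]
      simp only [U] at hk
      rw [reassoc_of% hk, zero_comp]), ?_⟩
    apply pullback.hom_ext
    · show (_ ≫ fQ) ≫ pullback.fst α S.g = k ≫ pullback.fst α S.g
      rw [Category.assoc, pullback.lift_fst, comp_zero]
      exact hk.symm
    · show (_ ≫ fQ) ≫ pullback.snd α S.g = k ≫ pullback.snd α S.g
      rw [Category.assoc, pullback.lift_snd, hS.exact.lift_f]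
  have hq₂ : QuasiIso ψ.τ₂ :=
    quasiIso_τ₂ ψ hU hS (inferInstanceAs (QuasiIso (𝟙 S.X₁))) hα
  haveI hQ : Q.IsStrictlyLE n := (CochainComplex.isStrictlyLE_iff _ _).2 fun i hi =>
    ((hU.map_of_exact (HomologicalComplex.eval A (ComplexShape.up ℤ) i)).exact).isZero_X₂
      ((S.X₁.isZero_of_isStrictlyLE n i hi).eq_of_src _ _) ((P₃.isZero_of_isStrictlyLE n i hi).eq_of_tgt _ _)
  obtain ⟨P₂, β, hP₂, hP₂', hβm, hβ⟩ := LeftRes.exists_resolution _ hP hZ hZ.projective Q n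
  haveI : Epi β := HomologicalComplex.epi_of_epi_f β hβm
  let g' : P₂ ⟶ P₃ := β ≫ pullback.fst α S.g
  let T : ShortComplex (CochainComplex A ℤ) := ShortComplex.mk (kernel.ι g') g' (kernel.condition g')
  haveI : Epi T.g := epi_comp _ _
  haveI : Mono T.f := inferInstanceAs (Mono (kernel.ι g'))
  have hT : T.ShortExact :=
    ShortComplex.ShortExact.mk (ShortComplex.exact_of_f_is_kernel _ (kernelIsKernel g'))
  let χ : T ⟶ U :=
    { τ₁ := hU.exact.lift (kernel.ι g' ≫ β) (by rw [Category.assoc]; exact kernel.condition g')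
      τ₂ := β
      τ₃ := 𝟙 _
      comm₁₂ := hU.exact.lift_f _ _
      comm₂₃ := (Category.comp_id _).symm }
  have hq₁ : QuasiIso χ.τ₁ :=
    quasiIso_τ₁ χ hT hU hβ (inferInstanceAs (QuasiIso (𝟙 P₃)))
  have hspl : ∀ k, Projective (T.X₁.X k) := fun k => by
    haveI : Epi (T.g.f k) := epi_f' T.g k
    haveI : Projective (T.X₃.X k) := hP₃' k
    haveI : Projective (T.map (HomologicalComplex.eval A (ComplexShape.up ℤ) k)).X₃ := hP₃' k
    let r : T.X₃.X k ⟶ T.X₂.X k := Projective.factorThru (𝟙 (T.X₃.X k)) (T.g.f k)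
    have hr : r ≫ T.g.f k = 𝟙 _ := Projective.factorThru_comp _ _
    let sp := ShortComplex.Splitting.ofExactOfSection (T.map (HomologicalComplex.eval A (ComplexShape.up ℤ) k))
      (hT.map_of_exact _).exact r hr (hT.map_of_exact _).mono_f
    haveI : Projective (T.X₂.X k) := hP₂' k
    exact Retract.projective (Y := T.X₂.X k) ⟨T.f.f k, sp.r, sp.f_r⟩
  haveI : QuasiIso ψ.τ₃ := hα
  refine ⟨T, χ ≫ ψ, hT, (CochainComplex.isStrictlyLE_iff _ _).2 fun i hi => ?_, hP₂, hP₃,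
    fun k => ⟨hspl k, hP₂' k, hP₃' k⟩, ?_, ?_, ?_⟩
  · haveI : Mono (T.f.f i) := mono_f' T.f i
    rw [IsZero.iff_id_eq_zero, ← cancel_mono (T.f.f i)]
    exact (P₂.isZero_of_isStrictlyLE n i hi).eq_of_tgt _ _
  · haveI := hq₁
    show QuasiIso (χ.τ₁ ≫ 𝟙 _)
    infer_instance
  · haveI := hq₂
    haveI : QuasiIso χ.τ₂ := hβ
    show QuasiIso (χ.τ₂ ≫ ψ.τ₂)
    infer_instance
  · show QuasiIso (𝟙 _ ≫ ψ.τ₃)
    infer_instance

end Groth.Agent.DerCat
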