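import Groth.Agent.DerCat.TestHom
import Mathlib.Algebra.Homology.Refinements
import Mathlib.CategoryTheory.Adjunction.Additive

/-!
Test objects seeing the cohomology of complexes, and right adjoints of such.
-/

universe w v v' u u'

open CategoryTheory Limits HomologicalComplex

set_option backward.isDefEq.respectTransparency false
set_option backward.defeqAttrib.useBackward true

namespace Groth.Agent.DerCat

variable {A : Type u} [Category.{v} A] [Abelian A]

/-- `G` sees the cohomology of `W` by cycles and boundaries. -/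
def Nice (G : A) (W : CochainComplex A ℤ) : Prop :=
  ∀ n : ℤ, (∀ g : G ⟶ W.homology n, ∃ z, z ≫ W.homologyπ n = g) ∧
    ∀ z : G ⟶ W.cycles n, z ≫ W.homologyπ n = 0 → ∃ h : G ⟶ W.X (n - 1), h ≫ W.toCycles (n - 1) n = z

lemma Nice.of_iso {G G' : A} {W : CochainComplex A ℤ} (h : Nice G W) (e : G ≅ G') : Nice G' W := fun n => by
  refine ⟨fun g => ?_, fun z hz => ?_⟩
  · obtain ⟨z, hz⟩ := (h n).1 (e.hom ≫ g)
    exact ⟨e.inv ≫ z, by rw [Category.assoc, hz, Iso.inv_hom_id_assoc]⟩
  · obtain ⟨k, hk⟩ := (h n).2 (e.hom ≫ z) (by rw [Category.assoc, hz, comp_zero])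
    exact ⟨e.inv ≫ k, by rw [Category.assoc, hk, Iso.inv_hom_id_assoc]⟩

/-- A K-injective complex is seen by every object computing its cohomology. -/
theorem nice_of_isKInjective [HasDerivedCategory.{w} A] (G : A) (I : CochainComplex A ℤ) [I.IsKInjective]
    (hev : ∀ n, Function.Bijective (TruncLim.ev n G (DerivedCategory.Q.obj I))) : Nice G I := fun n => by
  let S : CochainComplex A ℤ := (CochainComplex.singleFunctor A n).obj G
  let σ := singleObjHomologySelfIso (ComplexShape.up ℤ) n G
  let τ : G ⟶ S.homology n := (DerivedCategory.singleFunctorCompHomologyFunctorIso A n).inv.app G ≫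
    (DerivedCategory.homologyFunctorFactors A n).hom.app S
  haveI : IsIso τ := by dsimp only [τ]; infer_instance
  have hτ : ∀ f : S ⟶ I, TruncLim.ev n G (DerivedCategory.Q.obj I) (DerivedCategory.Q.map f) =
      τ ≫ homologyMap f n ≫ (DerivedCategory.homologyFunctorFactors A n).inv.app I := fun f => by
    simp only [τ, TruncLim.ev, Category.assoc]
    refine congrArg ((DerivedCategory.singleFunctorCompHomologyFunctorIso A n).inv.app G ≫ ·) ?_
    exact (NatIso.naturality_2 (DerivedCategory.homologyFunctorFactors A n) f).symm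
  refine ⟨fun g => ?_, fun z hz => ?_⟩
  · obtain ⟨ξ, hξ⟩ := (hev n).2 (τ ≫ σ.hom ≫ g ≫ (DerivedCategory.homologyFunctorFactors A n).inv.app I)
    obtain ⟨φ, rfl⟩ := Q_map_surjective (K := S) (L := I) ξ
    rw [hτ, cancel_epi, ← Category.assoc σ.hom, cancel_mono] at hξ
    refine ⟨(singleObjCyclesSelfIso (ComplexShape.up ℤ) n G).inv ≫ cyclesMap φ n, ?_⟩
    rw [Category.assoc, ← homologyπ_naturality]
    exact (Category.assoc _ _ _).symm.trans
      (((congrArg (· ≫ _) (singleObjCyclesSelfIso_inv_homologyπ _ _ _)).trans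
        (congrArg (σ.inv ≫ ·) hξ)).trans (Iso.inv_hom_id_assoc _ _))
  · obtain ⟨f, hf, hfg⟩ := exists_fromSingle n z
    rw [hz] at hfg
    have h0 : DerivedCategory.Q.map f = DerivedCategory.Q.map (0 : S ⟶ I) := by
      apply (hev n).1
      have h1 : homologyMap f n = 0 := by rw [← cancel_epi σ.inv, hfg, comp_zero]
      erw [hτ, hτ, h1, homologyMap_zero]
    obtain ⟨H⟩ := (Q_map_eq_iff _ _).1 h0
    refine ⟨(singleObjXSelf (ComplexShape.up ℤ) n G).inv ≫ H.hom n (n - 1), ?_⟩
    rw [← cancel_mono (I.iCycles n), Category.assoc, Category.assoc, toCycles_i]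
    have e := H.comm n
    rw [dNext_eq H.hom (show (ComplexShape.up ℤ).Rel n (n + 1) from rfl),
      prevD_eq H.hom (show (ComplexShape.up ℤ).Rel (n - 1) n by simp)] at e
    have hz0 : S.d n (n + 1) = 0 := single_obj_d ..
    have hd : S.d n (n + 1) ≫ H.hom (n + 1) n = 0 := by rw [hz0, zero_comp]
    simp only [sub_zero, zero_f, add_zero, hf] at e
    exact (congrArg ((singleObjXSelf (ComplexShape.up ℤ) n G).inv ≫ ·)
      (e.trans ((congrArg (· + _) hd).trans (zero_add _))).symm).trans (Iso.inv_hom_id_assoc _ _)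

section Adj

variable {B : Type u'} [Category.{v'} B] [Abelian B] {L : B ⥤ A} {R : A ⥤ B} (adj : L ⊣ R) [R.Additive]

/-- Cycles of `R W` as cycles of `W`. -/
noncomputable def cycEquiv (G : B) (W : CochainComplex A ℤ) (n : ℤ) :
    (G ⟶ ((R.mapHomologicalComplex (ComplexShape.up ℤ)).obj W).cycles n) ≃ (L.obj G ⟶ W.cycles n) where
  toFun z := W.liftCycles ((adj.homEquiv _ _).symm (z ≫ iCycles _ n)) (n + 1) (by simp) (by
    rw [← adj.homEquiv_naturality_right_symm, Category.assoc]
    exact ((congrArg (adj.homEquiv _ _).symm ((congrArg (z ≫ ·) (iCycles_d _ n (n + 1))).trans comp_zero))).trans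
      (by haveI := adj.left_adjoint_additive; rw [Adjunction.homEquiv_counit]; erw [Functor.map_zero, zero_comp]))
  invFun w := liftCycles _ ((adj.homEquiv _ _) (w ≫ W.iCycles n)) (n + 1) (by simp) (by
    refine (adj.homEquiv_naturality_right _ _).symm.trans ?_
    rw [Category.assoc, iCycles_d, comp_zero, Adjunction.homEquiv_unit, Functor.map_zero, comp_zero])
  left_inv z := by
    rw [← cancel_mono (iCycles _ n)]
    simp
  right_inv w := by
    rw [← cancel_mono (iCycles _ n)]
    simp

lemma cycEquiv_iCycles {G : B} {W : CochainComplex A ℤ} {n : ℤ}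
    (z : G ⟶ ((R.mapHomologicalComplex (ComplexShape.up ℤ)).obj W).cycles n) :
    cycEquiv adj G W n z ≫ W.iCycles n = (adj.homEquiv _ _).symm (z ≫ iCycles _ n) := by
  simp [cycEquiv]

lemma cycEquiv_comp {G : B} {W W' : CochainComplex A ℤ} (c : W ⟶ W') {n : ℤ}
    (z : G ⟶ ((R.mapHomologicalComplex (ComplexShape.up ℤ)).obj W).cycles n) :
    cycEquiv adj G W' n (z ≫ cyclesMap ((R.mapHomologicalComplex _).map c) n) =
      cycEquiv adj G W n z ≫ cyclesMap c n := by
  rw [← cancel_mono (W'.iCycles n), cycEquiv_iCycles, Category.assoc, Category.assoc, cyclesMap_i, cyclesMap_i,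
    reassoc_of% cycEquiv_iCycles adj z, ← adj.homEquiv_naturality_right_symm, Category.assoc]
  rfl

lemma cycEquiv_toCycles {G : B} {W : CochainComplex A ℤ} {n m : ℤ} (h : G ⟶ R.obj (W.X m)) :
    cycEquiv adj G W n
        (h ≫ ((R.mapHomologicalComplex (ComplexShape.up ℤ)).obj W).toCycles m n) =
      (adj.homEquiv _ _).symm h ≫ W.toCycles m n := by
  rw [← cancel_mono (W.iCycles n), cycEquiv_iCycles, Category.assoc, Category.assoc, toCycles_i, toCycles_i,
    ← adj.homEquiv_naturality_right_symm]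
  rfl

lemma cycEquiv_precomp {G G' : B} (p : G' ⟶ G) {W : CochainComplex A ℤ} {n : ℤ}
    (z : G ⟶ ((R.mapHomologicalComplex (ComplexShape.up ℤ)).obj W).cycles n) :
    cycEquiv adj G' W n (p ≫ z) = L.map p ≫ cycEquiv adj G W n z := by
  rw [← cancel_mono (W.iCycles n), cycEquiv_iCycles, Category.assoc, Category.assoc, cycEquiv_iCycles,
    ← adj.homEquiv_naturality_left_symm]

lemma cycEquiv_symm_toCycles {G : B} {W : CochainComplex A ℤ} {n m : ℤ} (h : L.obj G ⟶ W.X m) :
    (cycEquiv adj G W n).symm (h ≫ W.toCycles m n) =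
      adj.homEquiv _ _ h ≫ ((R.mapHomologicalComplex (ComplexShape.up ℤ)).obj W).toCycles m n := by
  apply (cycEquiv adj G W n).injective
  rw [Equiv.apply_symm_apply, cycEquiv_toCycles, Equiv.symm_apply_apply]

lemma cycEquiv_add {G : B} {W : CochainComplex A ℤ} {n : ℤ}
    (z z' : G ⟶ ((R.mapHomologicalComplex (ComplexShape.up ℤ)).obj W).cycles n) :
    cycEquiv adj G W n (z + z') = cycEquiv adj G W n z + cycEquiv adj G W n z' := by
  rw [← cancel_mono (W.iCycles n), Preadditive.add_comp, cycEquiv_iCycles, cycEquiv_iCycles, cycEquiv_iCycles,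
    Preadditive.add_comp, adj.homEquiv_counit, adj.homEquiv_counit, adj.homEquiv_counit]
  haveI := adj.left_adjoint_additive
  rw [L.map_add, Preadditive.add_comp]

variable {ι : Type*} (G : ι → B) {W W' : CochainComplex A ℤ} (c : W ⟶ W')
  (hW : ∀ i, Nice (L.obj (G i)) W) (hW' : ∀ i, Nice (L.obj (G i)) W')

include adj hW hW' in
/-- Quasi-isomorphisms between complexes seen by the test objects are preserved. -/
theorem quasiIso_map_rightAdjoint [QuasiIso c]
    (hgen : ∀ {M N : B} (f : M ⟶ N), (∀ i (g : G i ⟶ M), g ≫ f = 0) → f = 0) :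
    QuasiIso ((R.mapHomologicalComplex (ComplexShape.up ℤ)).map c) := by
  refine ⟨fun n => ?_⟩
  rw [quasiIsoAt_iff_isIso_homologyMap]
  let W₁ := (R.mapHomologicalComplex (ComplexShape.up ℤ)).obj W
  let W₂ := (R.mapHomologicalComplex (ComplexShape.up ℤ)).obj W'
  let φ := (R.mapHomologicalComplex (ComplexShape.up ℤ)).map c
  haveI : Epi (homologyMap φ n) := by
    refine Preadditive.epi_of_cancel_zero _ fun {T} q hq => ?_
    rw [← cancel_epi (W₂.homologyπ n), comp_zero]
    refine hgen _ fun i g => ?_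
    let z' := cycEquiv adj (G i) W' n g
    obtain ⟨w, hw⟩ := (hW i n).1 (z' ≫ W'.homologyπ n ≫ inv (homologyMap c n))
    obtain ⟨h, hh⟩ := (hW' i n).2 (w ≫ cyclesMap c n - z') (by
      rw [Preadditive.sub_comp, Category.assoc, ← homologyπ_naturality, reassoc_of% hw]
      simp)
    have hg : (cycEquiv adj (G i) W n).symm w ≫ cyclesMap φ n =
        adj.homEquiv _ _ h ≫ W₂.toCycles (n - 1) n + g := by
      apply (cycEquiv adj (G i) W' n).injective
      rw [cycEquiv_comp, cycEquiv_add, cycEquiv_toCycles, Equiv.apply_symm_apply, Equiv.symm_apply_apply, hh,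
        sub_add_cancel]
    have hg' : g = (cycEquiv adj (G i) W n).symm w ≫ cyclesMap φ n -
        adj.homEquiv _ _ h ≫ W₂.toCycles (n - 1) n := by rw [hg, add_sub_cancel_left]
    rw [hg', Preadditive.sub_comp, Category.assoc, Category.assoc, toCycles_comp_homologyπ_assoc, zero_comp,
      comp_zero, sub_zero, ← homologyπ_naturality_assoc, hq, comp_zero, comp_zero]
  haveI : Mono (homologyMap φ n) := by
    refine Preadditive.mono_of_cancel_zero _ fun {T} k hk => ?_
    obtain ⟨T', p, _, x, hx, hp⟩ := W₁.eq_liftCycles_homologyπ_up_to_refinements k (n + 1) (by simp)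
    let z := W₁.liftCycles x (n + 1) (by simp) hx
    have hz : (z ≫ cyclesMap φ n) ≫ W₂.homologyπ n = 0 := by
      rw [Category.assoc, ← homologyπ_naturality, ← Category.assoc]
      erw [← hp]
      rw [Category.assoc, hk, comp_zero]
    obtain ⟨T'', p', _, y, hy⟩ := (W₂.comp_homologyπ_eq_zero_iff_up_to_refinements (n - 1) n (by simp) _).1 hz
    have hS : pullback.fst (cyclesMap φ n) (W₂.toCycles (n - 1) n) ≫ W₁.homologyπ n = 0 := by
      refine hgen _ fun i g => ?_
      let a := g ≫ pullback.fst (cyclesMap φ n) (W₂.toCycles (n - 1) n)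
      let b := g ≫ pullback.snd (cyclesMap φ n) (W₂.toCycles (n - 1) n)
      have hab : cycEquiv adj (G i) W n a ≫ cyclesMap c n = (adj.homEquiv _ _).symm b ≫ W'.toCycles (n - 1) n := by
        rw [← cycEquiv_comp, ← cycEquiv_toCycles]
        simp [a, b, pullback.condition, φ, W₂]
      obtain ⟨h, hh⟩ := (hW i n).2 (cycEquiv adj (G i) W n a) (by
        rw [← cancel_mono (homologyMap c n), Category.assoc, homologyπ_naturality, reassoc_of% hab,
          toCycles_comp_homologyπ, comp_zero, zero_comp])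
      have ha : a = adj.homEquiv _ _ h ≫ W₁.toCycles (n - 1) n := by
        rw [← cycEquiv_symm_toCycles, hh, Equiv.symm_apply_apply]
      rw [← Category.assoc]
      change a ≫ _ = 0
      rw [ha, Category.assoc, toCycles_comp_homologyπ, comp_zero]
    rw [← cancel_epi p, ← cancel_epi p', comp_zero, comp_zero, hp]
    have hl := pullback.lift_fst (f := cyclesMap φ n) (g := W₂.toCycles (n - 1) n) (p' ≫ z) y
      (by rw [Category.assoc]; exact hy)
    rw [← Category.assoc]
    change (p' ≫ z) ≫ _ = 0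
    rw [← hl, Category.assoc, hS, comp_zero]
  exact isIso_of_mono_of_epi _

include adj hW hW' in
/-- If `R c` is a quasi-isomorphism then `c` is bijective on cohomology as seen by the test objects. -/
theorem test_of_quasiIso_map [QuasiIso ((R.mapHomologicalComplex (ComplexShape.up ℤ)).map c)] (i : ι) (n : ℤ) :
    (∀ g : L.obj (G i) ⟶ W.homology n, g ≫ homologyMap c n = 0 → g = 0) ∧
      ∀ g : L.obj (G i) ⟶ W'.homology n, g ≫ cokernel.π (homologyMap c n) = 0 := by
  haveI := adj.isLeftAdjoint
  let W₁ := (R.mapHomologicalComplex (ComplexShape.up ℤ)).obj W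
  let W₂ := (R.mapHomologicalComplex (ComplexShape.up ℤ)).obj W'
  let φ := (R.mapHomologicalComplex (ComplexShape.up ℤ)).map c
  refine ⟨fun g hg => ?_, fun g => ?_⟩
  · obtain ⟨z, rfl⟩ := (hW i n).1 g
    obtain ⟨h, hh⟩ := (hW' i n).2 (z ≫ cyclesMap c n) (by
      rw [Category.assoc, ← homologyπ_naturality, ← Category.assoc, hg])
    let a := (cycEquiv adj (G i) W n).symm z
    have ha : a ≫ cyclesMap φ n = adj.homEquiv _ _ h ≫ W₂.toCycles (n - 1) n := by
      apply (cycEquiv adj (G i) W' n).injective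
      rw [cycEquiv_comp, cycEquiv_toCycles, Equiv.symm_apply_apply, hh]
      simp [a]
    have h0 : a ≫ W₁.homologyπ n = 0 := by
      rw [← cancel_mono (homologyMap φ n), zero_comp, Category.assoc, homologyπ_naturality, reassoc_of% ha,
        toCycles_comp_homologyπ, comp_zero]
    obtain ⟨T, p, _, x, hx⟩ := (W₁.comp_homologyπ_eq_zero_iff_up_to_refinements (n - 1) n (by simp) a).1 h0
    replace hx := congrArg (cycEquiv adj T W n) hx
    rw [cycEquiv_precomp, cycEquiv_toCycles, Equiv.apply_symm_apply] at hx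
    rw [← cancel_epi (L.map p), comp_zero, reassoc_of% hx, toCycles_comp_homologyπ, comp_zero]
  · obtain ⟨z, rfl⟩ := (hW' i n).1 g
    let a := (cycEquiv adj (G i) W' n).symm z
    obtain ⟨T, p, _, x, hx, hp⟩ := W₁.eq_liftCycles_homologyπ_up_to_refinements
      (a ≫ W₂.homologyπ n ≫ inv (homologyMap φ n)) (n + 1) (by simp)
    let w := W₁.liftCycles x (n + 1) (by simp) hx
    have h0 : (p ≫ a - w ≫ cyclesMap φ n) ≫ W₂.homologyπ n = 0 := by
      rw [Preadditive.sub_comp, Category.assoc, Category.assoc, ← homologyπ_naturality, sub_eq_zero]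
      refine Eq.trans ?_ ((congrArg (· ≫ homologyMap φ n) hp).trans (Category.assoc _ _ _))
      simp
    obtain ⟨T', p', _, y, hy⟩ := (W₂.comp_homologyπ_eq_zero_iff_up_to_refinements (n - 1) n (by simp) _).1 h0
    have hy' : (p' ≫ p) ≫ a = y ≫ W₂.toCycles (n - 1) n + (p' ≫ w) ≫ cyclesMap φ n := by
      rw [← hy, Preadditive.comp_sub, Category.assoc, Category.assoc, sub_add_cancel]
    replace hy' := congrArg (cycEquiv adj T' W' n) hy'
    rw [cycEquiv_precomp, cycEquiv_add, cycEquiv_toCycles, cycEquiv_comp, Equiv.apply_symm_apply] at hy'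
    rw [← cancel_epi (L.map (p' ≫ p)), comp_zero, Category.assoc, reassoc_of% hy', Preadditive.add_comp,
      Category.assoc, Category.assoc, toCycles_comp_homologyπ_assoc, zero_comp, comp_zero, zero_add,
      ← homologyπ_naturality_assoc, cokernel.condition, comp_zero, comp_zero]

end Adj

end Groth.Agent.DerCat
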