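import Groth.Agent.CohTopLib.DerivedHom
import Groth.Agent.DerCat.Devissage
import Mathlib.CategoryTheory.Triangulated.TStructure.TruncLEGT
import Mathlib.CategoryTheory.Limits.Shapes.Products

/-!
Maps from test objects without higher extensions into the cohomology objects: such maps compute the
cohomology of unbounded objects, and objects are then the derived limits of their truncations.
-/

noncomputable section

universe w v u

open CategoryTheory Limits DerivedCategory Pretriangulated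

set_option backward.isDefEq.respectTransparency false
set_option backward.defeqAttrib.useBackward true

namespace Groth.Agent.DerCat.TruncLim

variable {C : Type u} [Category.{v} C] [Abelian C] [HasDerivedCategory.{w} C]

local notation "H" => DerivedCategory.homologyFunctor C
local notation "tt" => (DerivedCategory.TStructure.t : Triangulated.TStructure (DerivedCategory C))

/-- No higher extensions from `G` to `M`. -/
def Acyc (G M : C) : Prop :=
  ∀ p : ℤ, 0 < p → ∀ ξ : (singleFunctor C 0).obj G ⟶ ((singleFunctor C 0).obj M)⟦p⟧, ξ = 0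

/-- No higher extensions from `G` to the cohomology of `K`. -/
def AcycD (G : C) (K : DerivedCategory C) : Prop := ∀ q, Acyc G ((H q).obj K)

lemma Acyc.of_iso {G M M' : C} (h : Acyc G M) (e : M ≅ M') : Acyc G M' := fun p hp ξ => by
  have := h p hp (ξ ≫ (((singleFunctor C 0).map e.inv))⟦p⟧')
  rw [← cancel_mono ((((singleFunctor C 0).map e.inv))⟦p⟧'), zero_comp]
  exact this

lemma AcycD.of_iso {G : C} {K K' : DerivedCategory C} (h : AcycD G K) (e : K ≅ K') : AcycD G K' :=
  fun q => (h q).of_iso ((H q).mapIso e)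

lemma AcycD.shift {G : C} {K : DerivedCategory C} (h : AcycD G K) (n : ℤ) : AcycD G (K⟦n⟧) := fun q =>
  (h (n + q)).of_iso ((((H 0).shiftIso n q (n + q) rfl).app K).symm)

lemma isGE_shift {K : DerivedCategory C} {a : ℤ} [K.IsGE a] (n b : ℤ) (h : n + b = a) : (K⟦n⟧).IsGE b :=
  (tt).isGE_shift K a n b h

/-- The value of a map from a single object on cohomology. -/
def ev (n : ℤ) (G : C) (K : DerivedCategory C) (ξ : (singleFunctor C n).obj G ⟶ K) : G ⟶ (H n).obj K :=
  (singleFunctorCompHomologyFunctorIso C n).inv.app G ≫ (H n).map ξ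

lemma ev_comp (n : ℤ) (G : C) {K K' : DerivedCategory C} (ξ : (singleFunctor C n).obj G ⟶ K) (f : K ⟶ K') :
    ev n G K' (ξ ≫ f) = ev n G K ξ ≫ (H n).map f := by
  simp [ev]

lemma ev_map_comp (n : ℤ) {G G' : C} (a : G' ⟶ G) {K : DerivedCategory C}
    (ξ : (singleFunctor C n).obj G ⟶ K) :
    ev n G' K ((singleFunctor C n).map a ≫ ξ) = a ≫ ev n G K ξ := by
  rw [ev, ev, Functor.map_comp, ← Category.assoc, ← Category.assoc]
  exact congrArg (· ≫ _) ((singleFunctorCompHomologyFunctorIso C n).inv.naturality a).symm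

/-- Maps from a single object in degree `n` as maps from degree zero. -/
def shiftEquivSingle (n : ℤ) (G : C) (K : DerivedCategory C) :
    ((singleFunctor C n).obj G ⟶ K) ≃ ((singleFunctor C 0).obj G ⟶ K⟦n⟧) :=
  ((Functor.FullyFaithful.ofFullyFaithful (shiftFunctor (DerivedCategory C) n)).homEquiv).trans
    ((((singleFunctors C).shiftIso n 0 n (by omega)).app G).homFromEquiv)

lemma shiftEquivSingle_apply (n : ℤ) (G : C) {K : DerivedCategory C} (ξ : (singleFunctor C n).obj G ⟶ K) :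
    shiftEquivSingle n G K ξ = ((singleFunctors C).shiftIso n 0 n (by omega)).inv.app G ≫ ξ⟦n⟧' := rfl

lemma exists_ev_eq (n : ℤ) (G : C) : ∃ κ : G ≅ G, ∀ (K : DerivedCategory C)
    (ξ : (singleFunctor C n).obj G ⟶ K),
      ev n G K ξ = κ.hom ≫ ev 0 G (K⟦n⟧) (shiftEquivSingle n G K ξ) ≫
        (((H 0).shiftIso n 0 n (by omega)).hom.app K) := by
  let σ := ((singleFunctors C).shiftIso n 0 n (by omega)).app G
  let ι := (H 0).shiftIso n 0 n (by omega)
  refine ⟨((singleFunctorCompHomologyFunctorIso C n).app G).symm ≪≫ (ι.app _).symm ≪≫ (H 0).mapIso σ ≪≫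
    (singleFunctorCompHomologyFunctorIso C 0).app G, fun K ξ => ?_⟩
  have e : (H n).map ξ = ι.inv.app _ ≫ (H 0).map (ξ⟦n⟧') ≫ ι.hom.app K :=
    (NatIso.naturality_1 ι ξ).symm
  simp only [ev, shiftEquivSingle_apply, Iso.trans_hom, Iso.symm_hom, Functor.mapIso_hom, Iso.app_hom,
    Iso.app_inv, Category.assoc, Iso.hom_inv_id_app_assoc, Functor.map_comp, e]
  refine congrArg ((singleFunctorCompHomologyFunctorIso C n).inv.app G ≫ ι.inv.app _ ≫ ·) ?_
  exact (((H 0).mapIso σ).hom_inv_id_assoc _).symm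

lemma bijective_ev_iff (n : ℤ) (G : C) (K : DerivedCategory C) :
    Function.Bijective (ev n G K) ↔ Function.Bijective (ev 0 G (K⟦n⟧)) := by
  obtain ⟨κ, hκ⟩ := exists_ev_eq n G
  let c : (G ⟶ (H 0).obj (K⟦n⟧)) ≃ (G ⟶ (H n).obj K) :=
    (Iso.homToEquiv (((H 0).shiftIso n 0 n (by omega)).app K)).trans (κ.symm.homFromEquiv)
  have : ev n G K = c ∘ ev 0 G (K⟦n⟧) ∘ shiftEquivSingle n G K := funext fun ξ => hκ K ξ
  rw [this, c.comp_bijective]
  exact Function.Bijective.of_comp_iff _ (shiftEquivSingle n G K).bijective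

lemma hom_single_eq_zero {G M : C} (hM : Acyc G M) {a : ℤ} (ha : a < 0)
    (ξ : (singleFunctor C 0).obj G ⟶ (singleFunctor C a).obj M) : ξ = 0 := by
  let e := ((singleFunctors C).shiftIso (-a) a 0 (by omega)).app M
  rw [← cancel_mono e.inv, zero_comp]
  exact hM (-a) (by omega) _

lemma hom_single_shift_eq_zero {G M : C} (hM : Acyc G M) {a : ℤ} (ha : a < 0)
    (ξ : (singleFunctor C 0).obj G ⟶ ((singleFunctor C a).obj M)⟦(1 : ℤ)⟧) : ξ = 0 := by
  let e := ((singleFunctors C).shiftIso (1 : ℤ) (a - 1) a (by omega)).app M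
  rw [← cancel_mono e.hom, zero_comp]
  exact hom_single_eq_zero hM (by omega) _

lemma bijective_ev_zero_of_isGE {G : C} : ∀ (k : ℕ) (K : DerivedCategory C) [K.IsGE (-(k : ℤ))],
    AcycD G K → Function.Bijective (ev 0 G K) := by
  intro k
  induction k with
  | zero =>
    intro K hge _
    haveI : K.IsGE 0 := by simpa using hge
    exact CohTopLib.homology_map_bijective (A := G) K
  | succ k ih =>
    intro K _ hK
    let a : ℤ := -((k + 1 : ℕ) : ℤ)
    haveI : K.IsGE a := ‹_›
    let A := ((tt).truncLE a).obj K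
    let B := ((tt).truncGT a).obj K
    have hT := (tt).triangleLEGT_distinguished a K
    haveI hBge : B.IsGE (-(k : ℤ)) := (tt).isGE_truncGT_obj _ _ _ (by omega)
    haveI : A.IsLE a := inferInstanceAs ((tt).IsLE (((tt).truncLE a).obj K) a)
    haveI : A.IsGE a := by
      rw [DerivedCategory.isGE_iff]
      intro i hi
      haveI := DerCat.isIso_homology_truncLEι K a i hi.le
      exact (isZero_of_isGE K a i hi).of_iso (asIso ((H i).map (((tt).truncLEι a).app K)))
    have hAM : Acyc G ((H a).obj A) := by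
      haveI := DerCat.isIso_homology_truncLEι K a a le_rfl
      exact (hK a).of_iso (asIso ((H a).map (((tt).truncLEι a).app K))).symm
    obtain ⟨Y, ⟨e⟩⟩ := exists_iso_singleFunctor_obj_of_isGE_of_isLE A a
    have hY : Acyc G Y :=
      hAM.of_iso ((H a).mapIso e ≪≫ (singleFunctorCompHomologyFunctorIso C a).app Y)
    have hA0 : ∀ ξ : (singleFunctor C 0).obj G ⟶ A, ξ = 0 := fun ξ => by
      rw [← cancel_mono e.hom, zero_comp]
      exact hom_single_eq_zero hY (by omega) _
    have hA1 : ∀ ξ : (singleFunctor C 0).obj G ⟶ A⟦(1 : ℤ)⟧, ξ = 0 := fun ξ => by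
      rw [← cancel_mono (e.hom⟦(1 : ℤ)⟧'), zero_comp]
      exact hom_single_shift_eq_zero hY (by omega) _
    have hB : AcycD G B := fun q => by
      by_cases hq : a < q
      · haveI := DerCat.isIso_homology_truncGTπ K a q hq
        exact (hK q).of_iso (asIso ((H q).map (((tt).truncGTπ a).app K)))
      · intro p hp ξ
        have hz : IsZero ((H q).obj B) := isZero_of_isGE B (-(k : ℤ)) q (by omega)
        exact (((shiftFunctor _ p).map_isZero ((singleFunctor C 0).map_isZero hz))).eq_of_tgt _ _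
    have hb := ih B hB
    haveI hπ := DerCat.isIso_homology_truncGTπ K a 0 (by omega)
    let π := ((tt).truncGTπ a).app K
    have hinj : Function.Injective fun ξ : (singleFunctor C 0).obj G ⟶ K => ξ ≫ π := by
      intro ξ ξ' h
      rw [← sub_eq_zero]
      obtain ⟨ψ, hψ⟩ := Triangle.coyoneda_exact₂ _ hT (ξ - ξ')
        (by
          show (ξ - ξ') ≫ π = 0
          rw [Preadditive.sub_comp, sub_eq_zero]
          exact h)
      rw [hψ, hA0 ψ]
      exact zero_comp
    have hsurj : Function.Surjective fun ξ : (singleFunctor C 0).obj G ⟶ K => ξ ≫ π := fun η => by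
      obtain ⟨ξ, hξ⟩ := Triangle.coyoneda_exact₃ _ hT η (hA1 _)
      exact ⟨ξ, hξ.symm⟩
    let c : (G ⟶ (H 0).obj K) ≃ (G ⟶ (H 0).obj B) := Iso.homToEquiv (asIso ((H 0).map π))
    have hc : c ∘ ev 0 G K = ev 0 G B ∘ fun ξ => ξ ≫ π :=
      funext fun ξ => (ev_comp 0 G ξ π).symm
    rw [← c.comp_bijective, hc]
    exact hb.comp ⟨hinj, hsurj⟩

/-- Bounded below objects. -/
theorem bijective_ev_of_isGE {G : C} (n a : ℤ) (K : DerivedCategory C) [K.IsGE a] (hK : AcycD G K) :
    Function.Bijective (ev n G K) := by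
  rw [bijective_ev_iff]
  haveI := isGE_shift (K := K) (a := a) n (a - n) (by omega)
  haveI : (K⟦n⟧).IsGE (-(((n - a).toNat : ℕ) : ℤ)) := (tt).isGE_of_ge (K⟦n⟧) _ (a - n) (by omega)
  exact bijective_ev_zero_of_isGE (n - a).toNat _ (hK.shift n)

/-- `X` sees the cohomology of an object from a single test cycle. -/
theorem exists_epi_ev (n : ℤ) (T : DerivedCategory C) :
    ∃ (Z : C) (ξ : (singleFunctor C n).obj Z ⟶ T), Epi (ev n Z T ξ) := by
  suffices h : ∀ T : DerivedCategory C, ∃ (Z : C) (ξ : (singleFunctor C 0).obj Z ⟶ T), Epi (ev 0 Z T ξ) by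
    obtain ⟨Z, η, hη⟩ := h (T⟦n⟧)
    obtain ⟨κ, hκ⟩ := exists_ev_eq n Z
    refine ⟨Z, (shiftEquivSingle n Z T).symm η, ?_⟩
    rw [hκ, Equiv.apply_symm_apply]
    infer_instance
  intro T
  let T₀ := ((tt).truncLE 0).obj T
  haveI : T₀.IsLE 0 := inferInstanceAs ((tt).IsLE (((tt).truncLE 0).obj T) 0)
  haveI := DerCat.isIso_homology_truncLEι T 0 0 le_rfl
  obtain ⟨L, _, ⟨e⟩⟩ := exists_iso_Q_obj_of_isLE T₀ 0
  have hd : L.d 0 1 = 0 := (L.isZero_of_isStrictlyLE 0 1 (by omega)).eq_of_tgt _ _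
  let f : (CochainComplex.singleFunctor C 0).obj (L.X 0) ⟶ L :=
    HomologicalComplex.mkHomFromSingle (𝟙 _) fun k (hk : (0 : ℤ) + 1 = k) => by
      subst hk; rw [Category.id_comp]; exact hd
  haveI : IsIso (f.f 0) := by
    rw [HomologicalComplex.mkHomFromSingle_f]
    infer_instance
  haveI h1 : Epi (HomologicalComplex.homologyMap f 0) := by
    haveI : Epi (HomologicalComplex.cyclesMap f 0) := by
      haveI : IsIso (L.iCycles 0) := L.isIso_iCycles 0 1 (by simp) hd
      haveI : IsIso (((CochainComplex.singleFunctor C 0).obj (L.X 0)).iCycles 0) :=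
        HomologicalComplex.isIso_iCycles _ 0 1 (by simp) (HomologicalComplex.single_obj_d ..)
      haveI : IsIso (HomologicalComplex.cyclesMap f 0 ≫ L.iCycles 0) := by
        rw [HomologicalComplex.cyclesMap_i]
        infer_instance
      haveI := IsIso.of_isIso_comp_right (HomologicalComplex.cyclesMap f 0) (L.iCycles 0)
      infer_instance
    haveI : Epi (((CochainComplex.singleFunctor C 0).obj (L.X 0)).homologyπ 0 ≫
        HomologicalComplex.homologyMap f 0) := by
      rw [HomologicalComplex.homologyπ_naturality]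
      exact epi_comp _ _
    exact epi_of_epi (((CochainComplex.singleFunctor C 0).obj (L.X 0)).homologyπ 0) _
  haveI : Epi ((H 0).map (Q.map f)) := by
    have := (homologyFunctorFactors C 0).hom.naturality f
    haveI : Epi ((Q ⋙ H 0).map f ≫ (homologyFunctorFactors C 0).hom.app L) := by
      rw [this]
      exact @epi_comp _ _ _ _ _ _ _ _ h1
    exact (epi_comp_iff_of_isIso _ _).1 this
  refine ⟨L.X 0, Q.map f ≫ e.inv ≫ ((tt).truncLEι 0).app T, ?_⟩
  rw [ev, Functor.map_comp, Functor.map_comp]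
  infer_instance

section Tower

variable (E : DerivedCategory C)

/-- The truncation tower. -/
abbrev tow (m : ℕ) : DerivedCategory C := ((tt).truncGE (-(m : ℤ))).obj E

/-- The map to a truncation. -/
abbrev towπ (m : ℕ) : E ⟶ tow E m := ((tt).truncGEπ (-(m : ℤ))).app E

/-- The transition maps. -/
abbrev towMap (m : ℕ) : tow E (m + 1) ⟶ tow E m :=
  ((tt).natTransTruncGEOfLE (-((m + 1 : ℕ) : ℤ)) (-(m : ℤ))
    (Int.neg_le_neg (Int.ofNat_le.mpr (Nat.le_succ m)))).app E

lemma towπ_map (m : ℕ) : towπ E (m + 1) ≫ towMap E m = towπ E m :=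
  (tt).π_natTransTruncGEOfLE_app _ _ _ E

lemma isIso_H_towπ (m : ℕ) (i : ℤ) (hi : -(m : ℤ) ≤ i) : IsIso ((H i).map (towπ E m)) := by
  have hT := (tt).triangleLTGE_distinguished (-(m : ℤ)) E
  haveI : (((tt).truncLT (-(m : ℤ))).obj E).IsLE (-(m : ℤ) - 1) :=
    inferInstanceAs ((tt).IsLE (((tt).truncLT (-(m : ℤ))).obj E) (-(m : ℤ) - 1))
  have z₁ : IsZero ((H i).obj (((tt).truncLT (-(m : ℤ))).obj E)) :=
    isZero_of_isLE _ (-(m : ℤ) - 1) _ (by omega)
  have z₂ : IsZero ((H (i + 1)).obj (((tt).truncLT (-(m : ℤ))).obj E)) :=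
    isZero_of_isLE _ (-(m : ℤ) - 1) _ (by omega)
  have : Mono ((H i).map (towπ E m)) :=
    (HomologySequence.mono_homologyMap_mor₂_iff _ hT i).2 (z₁.eq_of_src _ _)
  have : Epi ((H i).map (towπ E m)) :=
    (HomologySequence.epi_homologyMap_mor₂_iff _ hT i (i + 1) rfl).2 (z₂.eq_of_tgt _ _)
  exact isIso_of_mono_of_epi ((H i).map (towπ E m))

variable {E} {ι : Type*} (G : ι → C)

lemma acycD_tow {i : ι} (hE : AcycD (G i) E) (m : ℕ) : AcycD (G i) (tow E m) := fun q => by
  by_cases hq : -(m : ℤ) ≤ q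
  · haveI := isIso_H_towπ E m q hq
    exact (hE q).of_iso (asIso ((H q).map (towπ E m)))
  · intro p hp ξ
    haveI : (tow E m).IsGE (-(m : ℤ)) := inferInstanceAs ((tt).IsGE (((tt).truncGE _).obj E) _)
    have hz : IsZero ((H q).obj (tow E m)) := isZero_of_isGE _ (-(m : ℤ)) q (by omega)
    exact (((shiftFunctor _ p).map_isZero ((singleFunctor C 0).map_isZero hz))).eq_of_tgt _ _

lemma bijective_comp_towMap {i : ι} (hE : AcycD (G i) E) (n : ℤ) (m : ℕ) (hm : -(m : ℤ) ≤ n) :
    Function.Bijective fun ξ : (singleFunctor C n).obj (G i) ⟶ tow E (m + 1) => ξ ≫ towMap E m := by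
  haveI h₁ := isIso_H_towπ E (m + 1) n (by omega)
  haveI h₂ := isIso_H_towπ E m n hm
  haveI : IsIso ((H n).map (towMap E m)) := by
    have : (H n).map (towπ E (m + 1)) ≫ (H n).map (towMap E m) = (H n).map (towπ E m) := by
      rw [← Functor.map_comp, towπ_map]
    exact IsIso.of_isIso_fac_left this
  haveI : ∀ k, (tow E k).IsGE (-(k : ℤ)) := fun k => inferInstanceAs ((tt).IsGE (((tt).truncGE _).obj E) _)
  have b₁ := bijective_ev_of_isGE n (-((m + 1 : ℕ) : ℤ)) (tow E (m + 1)) (acycD_tow G hE (m + 1))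
  have b₂ := bijective_ev_of_isGE n (-(m : ℤ)) (tow E m) (acycD_tow G hE m)
  have hc : ev n (G i) (tow E m) ∘ (fun ξ => ξ ≫ towMap E m) =
      (Iso.homToEquiv (asIso ((H n).map (towMap E m)))) ∘ ev n (G i) (tow E (m + 1)) :=
    funext fun ξ => ev_comp n (G i) ξ _
  refine (Function.Bijective.of_comp_iff' b₂ _).1 ?_
  rw [hc]
  exact (Equiv.bijective _).comp b₁

variable (E) [HasProduct (tow E)]

/-- `identity - transition`. -/
abbrev towD : ∏ᶜ tow E ⟶ ∏ᶜ tow E :=
  Pi.lift fun m => Pi.π (tow E) m - Pi.π (tow E) (m + 1) ≫ towMap E m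

variable {E}

lemma exists_towD_lift {i : ι} (hE : AcycD (G i) E) (n : ℤ)
    (η : (singleFunctor C n).obj (G i) ⟶ ∏ᶜ tow E) : ∃ ζ, ζ ≫ towD E = η := by
  classical
  let N := (-n).toNat
  let S := (singleFunctor C n).obj (G i)
  choose g hg using fun (m : ℕ) (hm : N ≤ m) (y : S ⟶ tow E m) =>
    (bijective_comp_towMap G hE n m (by omega)).2 y
  let up : ∀ m, N ≤ m → (S ⟶ tow E m) := fun m hm =>
    Nat.leRec (motive := fun m _ => S ⟶ tow E m) 0 (fun m hm x => g m hm (x - η ≫ Pi.π (tow E) m)) hm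
  have hup : ∀ m (hm : N ≤ m), up (m + 1) (hm.trans (Nat.le_succ m)) ≫ towMap E m =
      up m hm - η ≫ Pi.π (tow E) m := fun m hm => by
    simp only [up]
    rw [Nat.leRec_succ _ _ hm]
    exact hg m hm _
  let down : ℕ → ∀ m, S ⟶ tow E m := fun d =>
    Nat.rec (motive := fun _ => ∀ m, S ⟶ tow E m) (fun m => if h : N ≤ m then up m h else 0)
      (fun _ f m => if h : N ≤ m then up m h else η ≫ Pi.π (tow E) m + f (m + 1) ≫ towMap E m) d
  let z : ∀ m, S ⟶ tow E m := fun m => down (N - m) m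
  have hge : ∀ m (hm : N ≤ m), z m = up m hm := fun m hm => by
    simp only [z, down, show N - m = 0 by omega]
    exact dif_pos hm
  have hlt : ∀ m, ¬ N ≤ m → z m = η ≫ Pi.π (tow E) m + z (m + 1) ≫ towMap E m := fun m hm => by
    simp only [z, down, show N - m = (N - (m + 1)) + 1 by omega]
    exact dif_neg hm
  refine ⟨Pi.lift z, Pi.hom_ext _ _ fun m => ?_⟩
  simp only [towD, Category.assoc, Pi.lift_π, Preadditive.comp_sub, Pi.lift_π_assoc]
  by_cases hm : N ≤ m
  · rw [hge m hm, hge (m + 1) (hm.trans (Nat.le_succ m)), hup m hm, sub_sub_cancel]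
  · rw [hlt m hm, add_sub_cancel_right]

lemma eq_zero_of_comp_towD {i : ι} (hE : AcycD (G i) E) (n : ℤ)
    (η : (singleFunctor C n).obj (G i) ⟶ ∏ᶜ tow E) (hη : η ≫ towD E = 0)
    (h0 : η ≫ Pi.π (tow E) (-n).toNat = 0) : η = 0 := by
  let N := (-n).toNat
  have step : ∀ m, η ≫ Pi.π (tow E) m = (η ≫ Pi.π (tow E) (m + 1)) ≫ towMap E m := fun m => by
    have := congrArg (· ≫ Pi.π (tow E) m) hη
    simpa [towD, sub_eq_zero, Preadditive.comp_sub] using this
  have hup : ∀ j, η ≫ Pi.π (tow E) (N + j) = 0 := fun j => by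
    induction j with
    | zero => exact h0
    | succ j ih =>
      refine (bijective_comp_towMap G hE n (N + j) (by omega)).1 ?_
      dsimp only
      rw [zero_comp, ← ih]
      exact (step (N + j)).symm
  have hdown : ∀ k, η ≫ Pi.π (tow E) (N - k) = 0 := fun k => by
    induction k with
    | zero => exact h0
    | succ k ih =>
      by_cases hk : k + 1 ≤ N
      · have ih' : η ≫ Pi.π (tow E) (N - (k + 1) + 1) = 0 := by
          rw [show N - (k + 1) + 1 = N - k by omega]
          exact ih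
        rw [step, ih', zero_comp]
      · rw [show N - (k + 1) = N - k by omega]
        exact ih
  refine Pi.hom_ext _ _ fun m => ?_
  rw [zero_comp]
  by_cases hm : N ≤ m
  · rw [show m = N + (m - N) by omega]
    exact hup _
  · rw [show m = N - (N - m) by omega]
    exact hdown _

variable (hgen : ∀ {M N : C} (f : M ⟶ N), (∀ (i : ι) (g : G i ⟶ M), g ≫ f = 0) → f = 0)
  (hE : ∀ i, AcycD (G i) E)

lemma eq_zero_of_comp_eq_zero {T : DerivedCategory C} {a : T ⟶ ∏ᶜ tow E} {b : ∏ᶜ tow E ⟶ T⟦(1 : ℤ)⟧}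
    (hT : Triangle.mk a (towD E) b ∈ distTriang (DerivedCategory C)) {i : ι} (hE : AcycD (G i) E) (n : ℤ)
    (ξ : (singleFunctor C n).obj (G i) ⟶ T) (h : ξ ≫ a = 0) : ξ = 0 := by
  let σ := ((singleFunctors C).shiftIso (1 : ℤ) (n - 1) n (by omega)).app (G i)
  apply (shiftFunctor (DerivedCategory C) (1 : ℤ)).map_injective
  rw [Functor.map_zero, ← cancel_epi σ.inv, comp_zero]
  obtain ⟨ζ, hζ⟩ := Triangle.coyoneda_exact₁ _ hT (σ.inv ≫ ξ⟦(1 : ℤ)⟧') (by
    show (σ.inv ≫ ξ⟦(1 : ℤ)⟧') ≫ a⟦(1 : ℤ)⟧' = 0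
    rw [Category.assoc, ← Functor.map_comp, h, Functor.map_zero, comp_zero])
  obtain ⟨ζ', hζ'⟩ := exists_towD_lift G hE (n - 1) ζ
  rw [hζ, ← hζ']
  exact (Category.assoc _ _ _).trans
    ((congrArg (ζ' ≫ ·) (comp_distTriang_mor_zero₂₃ _ hT)).trans comp_zero)

include hgen hE in
/-- An object without higher extensions from the test objects is the derived limit of its truncations. -/
theorem exists_triangle_tow :
    ∃ c : ∏ᶜ tow E ⟶ E⟦(1 : ℤ)⟧,
      Triangle.mk (Pi.lift (towπ E)) (towD E) c ∈ distTriang (DerivedCategory C) := by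
  obtain ⟨T, a, b, hT⟩ := distinguished_cocone_triangle₁ (towD E)
  have hl : Pi.lift (towπ E) ≫ towD E = 0 := Pi.hom_ext _ _ fun m => by
    simp [towD, Preadditive.comp_sub, towπ_map]
  obtain ⟨e, he⟩ := Triangle.coyoneda_exact₂ _ hT (Pi.lift (towπ E)) hl
  haveI : IsIso e := by
    rw [DerivedCategory.isIso_iff]
    intro n
    let N := (-n).toNat
    let q := (H n).map (a ≫ Pi.π (tow E) N)
    haveI h1 : IsIso ((H n).map e ≫ q) := by
      have hcomp : e ≫ a ≫ Pi.π (tow E) N = towπ E N := by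
        rw [← Category.assoc]
        exact (congrArg (· ≫ _) he.symm).trans (Pi.lift_π _ _)
      rw [← Functor.map_comp, hcomp]
      exact isIso_H_towπ E N n (by omega)
    haveI : Mono q := by
      obtain ⟨Z, ξ, hξ⟩ := exists_epi_ev n T
      refine Preadditive.mono_of_cancel_zero _ fun {W} z hz => ?_
      rw [← cancel_epi (pullback.snd (ev n Z T ξ) z), comp_zero, ← pullback.condition]
      refine hgen _ fun i g => ?_
      let r := (singleFunctor C n).map (g ≫ pullback.fst (ev n Z T ξ) z) ≫ ξ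
      have hr : ev n (G i) T r = g ≫ pullback.fst (ev n Z T ξ) z ≫ ev n Z T ξ := by
        rw [ev_map_comp, Category.assoc]
      rw [← hr]
      suffices r = 0 by rw [this, ev, Functor.map_zero, comp_zero]
      refine eq_zero_of_comp_eq_zero G hT (hE i) n r (eq_zero_of_comp_towD G (hE i) n _ ?_ ?_)
      · exact (Category.assoc _ _ _).trans
          ((congrArg (r ≫ ·) (comp_distTriang_mor_zero₁₂ _ hT)).trans comp_zero)
      · haveI : (tow E N).IsGE (-(N : ℤ)) := inferInstanceAs ((tt).IsGE (((tt).truncGE _).obj E) _)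
        refine (bijective_ev_of_isGE n (-(N : ℤ)) (tow E N) (acycD_tow G (hE i) N)).1 ?_
        rw [Category.assoc, ev_comp, hr, pullback.condition, Category.assoc, Category.assoc, hz, comp_zero,
          comp_zero, ev, Functor.map_zero, comp_zero]
    haveI := mono_of_mono_fac (rfl : (H n).map e ≫ q = _)
    haveI : IsIso q := by
      haveI : Epi q := epi_of_epi ((H n).map e) q
      exact isIso_of_mono_of_epi q
    exact IsIso.of_isIso_comp_right ((H n).map e) q
  refine ⟨b ≫ (inv e)⟦(1 : ℤ)⟧', isomorphic_distinguished _ hT _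
    (Triangle.isoMk _ _ (asIso e) (Iso.refl _) (Iso.refl _) ?_ ?_ ?_)⟩
  · exact (Category.comp_id _).trans he
  · exact (Category.comp_id _).trans (Category.id_comp _).symm
  · show (b ≫ (inv e)⟦(1 : ℤ)⟧') ≫ e⟦(1 : ℤ)⟧' = 𝟙 _ ≫ b
    refine ((Category.assoc _ _ _).trans (congrArg (b ≫ ·) ?_)).trans ((Category.comp_id _).trans (Category.id_comp _).symm)
    exact ((shiftFunctor _ (1 : ℤ)).map_comp _ _).symm.trans ((congrArg ((shiftFunctor _ (1 : ℤ)).map ·) (IsIso.inv_hom_id e)).trans ((shiftFunctor _ (1 : ℤ)).map_id _))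

include hgen hE in
/-- Maps from the test objects compute cohomology. -/
theorem bijective_ev (i : ι) (n : ℤ) : Function.Bijective (ev n (G i) E) := by
  obtain ⟨c, hT⟩ := exists_triangle_tow G hgen hE
  let N := (-n).toNat
  haveI := isIso_H_towπ E N n (by omega)
  haveI : (tow E N).IsGE (-(N : ℤ)) := inferInstanceAs ((tt).IsGE (((tt).truncGE _).obj E) _)
  have b := bijective_ev_of_isGE n (-(N : ℤ)) (tow E N) (acycD_tow G (hE i) N)
  let e : (G i ⟶ (H n).obj E) ≃ (G i ⟶ (H n).obj (tow E N)) := Iso.homToEquiv (asIso ((H n).map (towπ E N)))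
  have hc : e ∘ ev n (G i) E = ev n (G i) (tow E N) ∘ fun ξ => ξ ≫ towπ E N :=
    funext fun ξ => (ev_comp n (G i) ξ _).symm
  rw [← e.comp_bijective, hc]
  refine b.comp ⟨fun ξ ξ' h => ?_, fun η => ?_⟩
  · rw [← sub_eq_zero]
    refine eq_zero_of_comp_eq_zero G hT (hE i) n _ (eq_zero_of_comp_towD G (hE i) n _ ?_ ?_)
    · exact (Category.assoc _ _ _).trans
        ((congrArg ((ξ - ξ') ≫ ·) (comp_distTriang_mor_zero₁₂ _ hT)).trans comp_zero)
    · rw [Category.assoc, Pi.lift_π, Preadditive.sub_comp, sub_eq_zero]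
      exact h
  · obtain ⟨ζ, hζd, hζN⟩ : ∃ ζ : (singleFunctor C n).obj (G i) ⟶ ∏ᶜ tow E,
        ζ ≫ towD E = 0 ∧ ζ ≫ Pi.π (tow E) N = η := by
      obtain ⟨x, hx⟩ := b.2 (ev n (G i) (tow E N) η)
      choose w hw using fun m : {m : ℕ // N ≤ m} =>
        ((bijective_ev_of_isGE (G := G i) n (-(m.1 : ℤ)) (tow E m.1) (acycD_tow G (hE i) m.1))).2
          (ev n (G i) (tow E N) η ≫ inv ((H n).map (towπ E N)) ≫ (H n).map (towπ E m.1))
      let down : ∀ m, (singleFunctor C n).obj (G i) ⟶ tow E m := fun m =>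
        if h : N ≤ m then w ⟨m, h⟩ else w ⟨N, le_rfl⟩ ≫
          ((tt).natTransTruncGEOfLE (-(N : ℤ)) (-(m : ℤ)) (by omega)).app E
      have hdN : down N = η := by
        simp only [down, dif_pos le_rfl]
        apply b.1
        exact (hw ⟨N, le_rfl⟩).trans (by simp)
      refine ⟨Pi.lift down, Pi.hom_ext _ _ fun m => ?_, (Pi.lift_π _ _).trans hdN⟩
      simp only [towD, Category.assoc, Pi.lift_π, Preadditive.comp_sub, Pi.lift_π_assoc, zero_comp,
        sub_eq_zero]
      rcases lt_trichotomy (m + 1) N with h | h | h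
      · simp only [down, dif_neg (show ¬ N ≤ m by omega), dif_neg (show ¬ N ≤ m + 1 by omega), Category.assoc]
        rw [(tt).natTransTruncGEOfLE_trans_app]
      · simp only [down, dif_neg (show ¬ N ≤ m by omega), dif_pos (show N ≤ m + 1 by omega)]
        have hk : ∀ k (h1 : N ≤ k) (h2 : k = N) (h3 : -(k : ℤ) ≤ -(m : ℤ)),
            w ⟨N, le_rfl⟩ ≫ ((tt).natTransTruncGEOfLE (-(N : ℤ)) (-(m : ℤ)) (by omega)).app E =
              w ⟨k, h1⟩ ≫ ((tt).natTransTruncGEOfLE (-(k : ℤ)) (-(m : ℤ)) h3).app E := by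
          intro k h1 h2 h3
          subst h2
          rfl
        exact hk (m + 1) (by omega) h (by omega)
      · simp only [down, dif_pos (show N ≤ m by omega), dif_pos (show N ≤ m + 1 by omega)]
        haveI : (tow E m).IsGE (-(m : ℤ)) := inferInstanceAs ((tt).IsGE (((tt).truncGE _).obj E) _)
        apply (bijective_ev_of_isGE n (-(m : ℤ)) (tow E m) (acycD_tow G (hE i) m)).1
        refine ((hw ⟨m, by omega⟩).trans ?_).trans
          ((ev_comp n (G i) (w ⟨m + 1, by omega⟩) (towMap E m)).trans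
            (congrArg (· ≫ (H n).map (towMap E m)) (hw ⟨m + 1, by omega⟩))).symm
        rw [Category.assoc, Category.assoc, ← Functor.map_comp, towπ_map]
    obtain ⟨ξ, hξ⟩ := Triangle.coyoneda_exact₂ _ hT ζ hζd
    refine ⟨ξ, ?_⟩
    rw [← hζN, hξ]
    exact ((Category.assoc _ _ _).trans (congrArg (ξ ≫ ·) (Pi.lift_π _ _))).symm

end Tower

end Groth.Agent.DerCat.TruncLim
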