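import Groth.Agent.DerCat.Devissage

set_option autoImplicit false
set_option backward.isDefEq.respectTransparency false
set_option backward.defeqAttrib.useBackward true

namespace Groth.Agent.DerCat

open CategoryTheory Limits Category Pretriangulated ZeroObject DerivedCategory

universe w v u w' v' u'

variable {A : Type u} [Category.{v} A] [Abelian A] [HasDerivedCategory.{w} A]
  {B : Type u'} [Category.{v'} B] [Abelian B] [HasDerivedCategory.{w'} B]
  (P : ObjectProperty A)
  (F G : DerivedCategory A ⥤ DerivedCategory B) [F.CommShift ℤ] [G.CommShift ℤ]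
  [F.IsTriangulated] [G.IsTriangulated] (η : F ⟶ G) [NatTrans.CommShift η ℤ]

lemma isIso_app_obj₂ (T : Triangle (DerivedCategory A)) (hT : T ∈ distTriang _)
    (h₁ : IsIso (η.app T.obj₁)) (h₃ : IsIso (η.app T.obj₃)) : IsIso (η.app T.obj₂) :=
  isIso₂_of_isIso₁₃
    ((Triangle.homMk _ _ (η.app T.obj₁) (η.app T.obj₂) (η.app T.obj₃) (by simp) (by simp)
      (by dsimp; simp [NatTrans.shift_app_comm η (1 : ℤ) T.obj₁]) :
      F.mapTriangle.obj T ⟶ G.mapTriangle.obj T))
    (F.map_distinguished T hT) (G.map_distinguished T hT) h₁ h₃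

variable (hη : ∀ X : A, P X → IsIso (η.app ((singleFunctor A 0).obj X)))
include hη

lemma isIso_app_of_bounded (X : DerivedCategory A) (a b : ℤ) [X.IsGE a] [X.IsLE b]
    (hX : ∀ i, a ≤ i → i ≤ b → P ((homologyFunctor A i).obj X)) : IsIso (η.app X) := by
  let Q : ObjectProperty (DerivedCategory A) := fun Y => IsIso (η.app Y)
  have : Q.IsClosedUnderIsomorphisms := ⟨fun {Y Z} e h => by
    show IsIso (η.app Z)
    exact (NatTrans.isIso_app_iff_of_iso η e).1 h⟩
  refine prop_of_single Q ?_ (isIso_app_obj₂ F G η) X a b ?_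
  · intro Z hZ
    exact ⟨0, (F.map_isZero hZ).eq_of_src _ _, (G.map_isZero hZ).eq_of_src _ _⟩
  · intro i h₁ h₂
    refine Q.prop_of_iso (singleShiftIso i _) ?_
    show IsIso (η.app _)
    have := hη _ (hX i h₁ h₂)
    rw [NatTrans.app_shift η (-i)]
    infer_instance

lemma isIso_app_of_isGE [P.IsClosedUnderIsomorphisms] (hF : ∀ n₁ : ℤ, ∃ n₂ : ℤ, ∀ Y : DerivedCategory A, Y.IsGE n₂ → (F.obj Y).IsGE n₁)
    (hG : ∀ n₁ : ℤ, ∃ n₂ : ℤ, ∀ Y : DerivedCategory A, Y.IsGE n₂ → (G.obj Y).IsGE n₁)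
    (X : DerivedCategory A) (a : ℤ) [X.IsGE a]
    (hX : ∀ i, a ≤ i → P ((homologyFunctor A i).obj X)) : IsIso (η.app X) := by
  rw [DerivedCategory.isIso_iff]
  intro i
  obtain ⟨nF, hnF⟩ := hF (i + 1)
  obtain ⟨nG, hnG⟩ := hG (i + 1)
  let n := max nF nG
  let t := DerivedCategory.TStructure.t (C := A)
  have hT := t.triangleLEGT_distinguished n X
  have hW : ((t.truncGT n).obj X).IsGE (n + 1) := inferInstance
  have key : ∀ (K : DerivedCategory A ⥤ DerivedCategory B) [K.CommShift ℤ] [K.IsTriangulated] (m : ℤ),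
      (∀ Y : DerivedCategory A, Y.IsGE m → (K.obj Y).IsGE (i + 1)) → m ≤ n + 1 →
      IsIso ((homologyFunctor B i).map (K.map ((t.truncLEι n).app X))) := by
    intro K _ _ m hm hmn
    have hm' := hm _ (TStructure.t.isGE_of_ge ((t.truncGT n).obj X) m (n + 1) hmn)
    have z₁ : IsZero ((homologyFunctor B (i - 1)).obj (K.obj ((t.truncGT n).obj X))) :=
      isZero_of_isGE _ (i + 1) _ (by omega)
    have z₂ : IsZero ((homologyFunctor B i).obj (K.obj ((t.truncGT n).obj X))) :=
      isZero_of_isGE _ (i + 1) _ (by omega)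
    have : Mono ((homologyFunctor B i).map (K.map ((t.truncLEι n).app X))) :=
      (HomologySequence.mono_homologyMap_mor₁_iff _ (K.map_distinguished _ hT) (i - 1) i (by omega)).2
        (z₁.eq_of_src _ _)
    have : Epi ((homologyFunctor B i).map (K.map ((t.truncLEι n).app X))) :=
      (HomologySequence.epi_homologyMap_mor₁_iff _ (K.map_distinguished _ hT) i).2 (z₂.eq_of_tgt _ _)
    exact isIso_of_mono_of_epi _
  have h1 := key F nF hnF (by omega)
  have h2 := key G nG hnG (by omega)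
  have h3 : IsIso (η.app ((t.truncLE n).obj X)) :=
    isIso_app_of_bounded P F G η hη _ a n fun j hj hjn => by
      have := isIso_homology_truncLEι X n j hjn
      exact P.prop_of_iso (asIso ((homologyFunctor A j).map ((t.truncLEι n).app X))).symm (hX j hj)
  have := congrArg (homologyFunctor B i).map (η.naturality ((t.truncLEι n).app X))
  rw [Functor.map_comp, Functor.map_comp] at this
  exact IsIso.of_isIso_fac_left this

lemma isIso_app_of_isLE [P.IsClosedUnderIsomorphisms]
    (hF : ∀ n₁ : ℤ, ∃ n₂ : ℤ, ∀ Y : DerivedCategory A, Y.IsLE n₂ → (F.obj Y).IsLE n₁)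
    (hG : ∀ n₁ : ℤ, ∃ n₂ : ℤ, ∀ Y : DerivedCategory A, Y.IsLE n₂ → (G.obj Y).IsLE n₁)
    (X : DerivedCategory A) (b : ℤ) [X.IsLE b]
    (hX : ∀ i, i ≤ b → P ((homologyFunctor A i).obj X)) : IsIso (η.app X) := by
  rw [DerivedCategory.isIso_iff]
  intro i
  obtain ⟨nF, hnF⟩ := hF (i - 1)
  obtain ⟨nG, hnG⟩ := hG (i - 1)
  let n := min nF nG
  let t := DerivedCategory.TStructure.t (C := A)
  have hT := t.triangleLEGT_distinguished n X
  have hb : ((t.truncGT n).obj X).IsLE b := by
    rw [DerivedCategory.isLE_iff]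
    intro j hj
    by_cases hjn : n < j
    · have := isIso_homology_truncGTπ X n j hjn
      exact (isZero_of_isLE X b j hj).of_iso
        (asIso ((homologyFunctor A j).map ((t.truncGTπ n).app X))).symm
    · exact isZero_of_isGE _ (n + 1) j (by omega)
  have key : ∀ (K : DerivedCategory A ⥤ DerivedCategory B) [K.CommShift ℤ] [K.IsTriangulated] (m : ℤ),
      (∀ Y : DerivedCategory A, Y.IsLE m → (K.obj Y).IsLE (i - 1)) → n ≤ m →
      IsIso ((homologyFunctor B i).map (K.map ((t.truncGTπ n).app X))) := by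
    intro K _ _ m hm hmn
    have hm' := hm _ (TStructure.t.isLE_of_le ((t.truncLE n).obj X) n m hmn)
    have z₁ : IsZero ((homologyFunctor B i).obj (K.obj ((t.truncLE n).obj X))) :=
      isZero_of_isLE _ (i - 1) _ (by omega)
    have z₂ : IsZero ((homologyFunctor B (i + 1)).obj (K.obj ((t.truncLE n).obj X))) :=
      isZero_of_isLE _ (i - 1) _ (by omega)
    have : Mono ((homologyFunctor B i).map (K.map ((t.truncGTπ n).app X))) :=
      (HomologySequence.mono_homologyMap_mor₂_iff _ (K.map_distinguished _ hT) i).2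
        (z₁.eq_of_src _ _)
    have : Epi ((homologyFunctor B i).map (K.map ((t.truncGTπ n).app X))) :=
      (HomologySequence.epi_homologyMap_mor₂_iff _ (K.map_distinguished _ hT) i (i + 1) rfl).2
        (z₂.eq_of_tgt _ _)
    exact isIso_of_mono_of_epi _
  have h1 := key F nF hnF (min_le_left _ _)
  have h2 := key G nG hnG (min_le_right _ _)
  have h3 : IsIso (η.app ((t.truncGT n).obj X)) :=
    isIso_app_of_bounded P F G η hη _ (n + 1) b fun j hj hjb => by
      have := isIso_homology_truncGTπ X n j (by omega)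
      exact P.prop_of_iso (asIso ((homologyFunctor A j).map ((t.truncGTπ n).app X))) (hX j hjb)
  have := congrArg (homologyFunctor B i).map (η.naturality ((t.truncGTπ n).app X))
  rw [Functor.map_comp, Functor.map_comp] at this
  exact IsIso.of_isIso_fac_right this.symm

lemma isIso_app_of_both [P.IsClosedUnderIsomorphisms]
    (hF : ∀ n₁ : ℤ, ∃ n₂ : ℤ, ∀ Y : DerivedCategory A, Y.IsGE n₂ → (F.obj Y).IsGE n₁)
    (hG : ∀ n₁ : ℤ, ∃ n₂ : ℤ, ∀ Y : DerivedCategory A, Y.IsGE n₂ → (G.obj Y).IsGE n₁)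
    (hF' : ∀ n₁ : ℤ, ∃ n₂ : ℤ, ∀ Y : DerivedCategory A, Y.IsLE n₂ → (F.obj Y).IsLE n₁)
    (hG' : ∀ n₁ : ℤ, ∃ n₂ : ℤ, ∀ Y : DerivedCategory A, Y.IsLE n₂ → (G.obj Y).IsLE n₁)
    (X : DerivedCategory A) (hX : ∀ i, P ((homologyFunctor A i).obj X)) : IsIso (η.app X) := by
  let t := DerivedCategory.TStructure.t (C := A)
  refine isIso_app_obj₂ F G η _ (t.triangleLEGT_distinguished 0 X) ?_ ?_
  · exact isIso_app_of_isLE P F G η hη hF' hG' ((t.truncLE 0).obj X) 0 fun j hj => by
      have := isIso_homology_truncLEι X 0 j hj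
      exact P.prop_of_iso (asIso ((homologyFunctor A j).map ((t.truncLEι 0).app X))).symm (hX j)
  · exact isIso_app_of_isGE P F G η hη hF hG ((t.truncGT 0).obj X) (0 + 1) fun j hj => by
      have := isIso_homology_truncGTπ X 0 j (by omega)
      exact P.prop_of_iso (asIso ((homologyFunctor A j).map ((t.truncGTπ 0).app X))) (hX j)

end Groth.Agent.DerCat
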