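import Groth.Agent.DerCat.WayOut
import Mathlib.Algebra.Homology.DerivedCategory.SingleTriangle

set_option autoImplicit false
set_option backward.isDefEq.respectTransparency false
set_option backward.defeqAttrib.useBackward true

namespace Groth.Agent.DerCat

open CategoryTheory Limits Category Pretriangulated ZeroObject DerivedCategory ComposableArrows

universe w v u w' v' u'

variable {A : Type u} [Category.{v} A] [Abelian A] [HasDerivedCategory.{w} A]
  {B : Type u'} [Category.{v'} B] [Abelian B] [HasDerivedCategory.{w'} B]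

lemma exists_uniform_isGE (F : DerivedCategory A ⥤ DerivedCategory B) [F.CommShift ℤ]
    (hF : ∀ n₁ : ℤ, ∃ n₂ : ℤ, ∀ Y : DerivedCategory A, Y.IsGE n₂ → (F.obj Y).IsGE n₁) :
    ∃ c : ℤ, ∀ Y : DerivedCategory A, Y.IsGE 0 → (F.obj Y).IsGE c := by
  obtain ⟨n₂, hn⟩ := hF 0
  refine ⟨0 + (-n₂), fun Y hY => ?_⟩
  have h1 : (Y⟦-n₂⟧).IsGE n₂ :=
    TStructure.t.isGE_shift Y 0 (-n₂) n₂ (by omega)
  have h2 : (F.obj (Y⟦-n₂⟧)).IsGE 0 := hn _ h1
  have : TStructure.t.IsGE ((shiftFunctor (DerivedCategory A) (-n₂) ⋙ F).obj Y) 0 := h2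
  have h3 : ((F.obj Y)⟦-n₂⟧).IsGE 0 :=
    TStructure.t.isGE_of_iso ((F.commShiftIso (-n₂)).app Y) 0
  exact (TStructure.t.isGE_shift_iff (F.obj Y) (0 + (-n₂)) (-n₂) 0 (by omega)).1 h3

variable (F G : DerivedCategory A ⥤ DerivedCategory B) [F.CommShift ℤ] [G.CommShift ℤ]
  [F.IsTriangulated] [G.IsTriangulated] (η : F ⟶ G) [NatTrans.CommShift η ℤ]

/-- The five lemma step along a distinguished triangle. -/
lemma homology_step (T : Triangle (DerivedCategory A)) (hT : T ∈ distTriang _) (i j : ℤ)
    (h : i + 1 = j)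
    (h₀ : IsIso ((homologyFunctor B i).map (η.app T.obj₂)))
    (h₁ : IsIso ((homologyFunctor B i).map (η.app T.obj₃)))
    (h₃ : IsIso ((homologyFunctor B j).map (η.app T.obj₂))) :
    Mono ((homologyFunctor B j).map (η.app T.obj₁)) ∧
      (Mono ((homologyFunctor B j).map (η.app T.obj₃)) →
        IsIso ((homologyFunctor B j).map (η.app T.obj₁))) := by
  let H := homologyFunctor B 0
  let φ : F.mapTriangle.obj T ⟶ G.mapTriangle.obj T :=
    Triangle.homMk _ _ (η.app T.obj₁) (η.app T.obj₂) (η.app T.obj₃) (by simp) (by simp)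
      (by dsimp; simp [NatTrans.shift_app_comm η (1 : ℤ) T.obj₁])
  have nat : ∀ (n : ℤ) {X Y : DerivedCategory A} (f : X ⟶ Y),
      (H.shift n).map (F.map f) ≫ (H.shift n).map (η.app Y) =
        (H.shift n).map (η.app X) ≫ (H.shift n).map (G.map f) := fun n X Y f => by
    rw [← Functor.map_comp, ← Functor.map_comp, η.naturality]
  let ψ : H.homologySequenceComposableArrows₅ (F.mapTriangle.obj T) i j h ⟶
      H.homologySequenceComposableArrows₅ (G.mapTriangle.obj T) i j h :=
    homMk₅ ((H.shift i).map (η.app T.obj₁)) ((H.shift i).map (η.app T.obj₂))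
      ((H.shift i).map (η.app T.obj₃)) ((H.shift j).map (η.app T.obj₁))
      ((H.shift j).map (η.app T.obj₂)) ((H.shift j).map (η.app T.obj₃))
      (nat i T.mor₁) (nat i T.mor₂) (H.homologySequenceδ_naturality _ _ φ i j h).symm
      (nat j T.mor₁) (nat j T.mor₂)
  have e₁ := H.homologySequenceComposableArrows₅_exact _ (F.map_distinguished T hT) i j h
  have e₂ := H.homologySequenceComposableArrows₅_exact _ (G.map_distinguished T hT) i j h
  have i₀ : IsIso (app' ψ 1) := h₀
  have i₁ : IsIso (app' ψ 2) := h₁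
  have i₃ : IsIso (app' ψ 4) := h₃
  refine ⟨?_, fun h₄ => ?_⟩
  · exact Abelian.mono_of_epi_of_mono_of_mono'' (k := 1) (by omega) e₁ e₂ ψ 1 2 3 4
      rfl rfl rfl rfl inferInstance inferInstance inferInstance
  · exact Abelian.isIso_of_epi_of_isIso_of_isIso_of_mono' (k := 1) (by omega) e₁ e₂ ψ 1 2 3 4 5
      rfl rfl rfl rfl rfl inferInstance i₁ i₃ h₄

/-- Way-out lemma for a cogenerating class of objects. -/
theorem isIso_app_single_of_cogenerating (P : ObjectProperty A)
    (hP : ∀ X : A, ∃ (Y : A) (i : X ⟶ Y), P Y ∧ Mono i)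
    (hF : ∀ n₁ : ℤ, ∃ n₂ : ℤ, ∀ Y : DerivedCategory A, Y.IsGE n₂ → (F.obj Y).IsGE n₁)
    (hG : ∀ n₁ : ℤ, ∃ n₂ : ℤ, ∀ Y : DerivedCategory A, Y.IsGE n₂ → (G.obj Y).IsGE n₁)
    (hη : ∀ X : A, P X → IsIso (η.app ((singleFunctor A 0).obj X))) (X : A) :
    IsIso (η.app ((singleFunctor A 0).obj X)) := by
  obtain ⟨cF, hcF⟩ := exists_uniform_isGE F hF
  obtain ⟨cG, hcG⟩ := exists_uniform_isGE G hG
  suffices key : ∀ (k : ℕ) (X : A),
      ∀ i, i < min cF cG + k →
        IsIso ((homologyFunctor B i).map (η.app ((singleFunctor A 0).obj X))) by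
    rw [DerivedCategory.isIso_iff]
    intro i
    exact key (i - min cF cG + 1).toNat X i (by omega)
  intro k
  induction k with
  | zero =>
    intro X i hi
    have := hcF ((singleFunctor A 0).obj X) inferInstance
    have := hcG ((singleFunctor A 0).obj X) inferInstance
    exact isIso_of_source_target_iso_zero _
      (isZero_of_isGE _ cF i (by omega)).isoZero (isZero_of_isGE _ cG i (by omega)).isoZero
  | succ k ih =>
    have step : ∀ X : A, ∀ i, i < min cF cG + k →
        Mono ((homologyFunctor B (i + 1)).map (η.app ((singleFunctor A 0).obj X))) ∧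
        ((∀ Z : A, Mono ((homologyFunctor B (i + 1)).map (η.app ((singleFunctor A 0).obj Z)))) →
          IsIso ((homologyFunctor B (i + 1)).map (η.app ((singleFunctor A 0).obj X)))) := by
      intro X i hi
      obtain ⟨Y, f, hY, _⟩ := hP X
      let S := ShortComplex.mk f (cokernel.π f) (cokernel.condition f)
      have hS : S.ShortExact :=
        { exact := ShortComplex.exact_of_g_is_cokernel _ (cokernelIsCokernel f) }
      have := hη Y hY
      have hs := homology_step F G η hS.singleTriangle hS.singleTriangle_distinguished i (i + 1) rfl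
        (inferInstanceAs (IsIso ((homologyFunctor B i).map (η.app ((singleFunctor A 0).obj Y)))))
        (ih _ i hi)
        (inferInstanceAs
          (IsIso ((homologyFunctor B (i + 1)).map (η.app ((singleFunctor A 0).obj Y)))))
      exact ⟨hs.1, fun hm => hs.2 (hm _)⟩
    intro X j hj
    by_cases hj' : j < min cF cG + k
    · exact ih X j hj'
    · obtain ⟨i, rfl⟩ : ∃ i, j = i + 1 := ⟨j - 1, by omega⟩
      exact (step X i (by omega)).2 fun Z => (step Z i (by omega)).1

end Groth.Agent.DerCat
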